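import Cfsg.Agent.TwoF.DC.TBD.BMain_m3
import Cfsg.Agent.TwoF.DC.Close
import Cfsg.Agent.TwoF.DC.D1.Main_m3
import Cfsg.Agent.H356.TU.Sgn
import Cfsg.Agent.H564.TWP.Main_m3
import Cfsg.Agent.H905.PCover
import Cfsg.Agent.Nodes.NormalForm
import Cfsg.Agent.H911.AdF
import Cfsg.Agent.H481.OddAut.Root
import Cfsg.Agent.S0242
import Cfsg.Agent.S2690
import Cfsg.Agent.H61.SUCross
import Cfsg.Agent.H61.UThreeCE
import Cfsg.Agent.TitsThree.PQClass
import Cfsg.Agent.S0278
import Cfsg.Agent.S2692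
import Cfsg.Agent.FastGrp
import Cfsg.Agent.Prune
set_option linter.all false

section
prune_inst 0x7ffcadf82bb8a1dfdfff7e6fa6d4cffc39909fffa6dff9437fe061ff0b9f030009c52b8109e010fe1ed6601410b87813fb7eceffe863dc7ffffd5ff41ffbee0fe5f6b408119488340f380ff603f0778e7f3fffffffffffffffffffffffffffbeffbfffffffff

-- part: TwoF/DC/Pow/One
section
prune_inst 0x14204500150002000019051230000c22200000020043080088200406060108200843062100000410100000000804000000100030400000000000040000050120808214040000a10424008e800000000000000000000000000000000000000000000000000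
set_option linter.all false
open scoped Cfsg.Agent.FastGrp

-- part: TwoF/DC/Pow/PT
section
/-!
# TwoF, defining characteristic, TH3c (1): tensor products of spaces of functions, necklaces (helper33)
-/

set_option autoImplicit false
set_option linter.unusedSectionVars false
set_option linter.unusedVariables false

namespace Cfsg.Agent.TwoF.DC.Pw

open Module Finset Cfsg.Agent.H45.Uni

section PT

variable {k α X : Type} [Field k] [Fintype α] [DecidableEq α]

/-- the slice through `g` in direction `a` -/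
def sl (a : α) (g : α → X) : ((α → X) → k) →ₗ[k] (X → k) := LinearMap.funLeft k k fun x => Function.update g a x

theorem sl_apply (a : α) (g : α → X) (F : (α → X) → k) (x : X) : sl a g F x = F (Function.update g a x) := rfl

theorem sl_self (a : α) (g : α → X) (F : (α → X) → k) : sl a g F (g a) = F g := by
  rw [sl_apply, Function.update_eq_self]

/-- the tensor product of spaces of functions -/
def PT (L : α → Submodule k (X → k)) : Submodule k ((α → X) → k) := ⨅ (a : α) (g : α → X), (L a).comap (sl a g)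

theorem mem_PT {L : α → Submodule k (X → k)} {F : (α → X) → k} : F ∈ PT L ↔ ∀ a g, sl a g F ∈ L a := by
  simp only [PT, Submodule.mem_iInf, Submodule.mem_comap]

/-- product functions -/
def pf (F : α → X → k) : (α → X) → k := fun g => ∏ a, F a (g a)

theorem pf_apply (F : α → X → k) (g : α → X) : pf F g = ∏ a, F a (g a) := rfl

theorem pf_eq (F : α → X → k) (a : α) (g : α → X) : pf F g = (∏ c ∈ univ.erase a, F c (g c)) * F a (g a) :=
  (Finset.prod_erase_mul _ _ (mem_univ a)).symm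

theorem sl_pf (F : α → X → k) (a : α) (g : α → X) : sl a g (pf F) = (∏ c ∈ univ.erase a, F c (g c)) • F a := by
  funext x
  rw [sl_apply, pf_eq F a, Function.update_self, Pi.smul_apply, smul_eq_mul]
  congr 1
  exact Finset.prod_congr rfl fun c hc => by rw [Function.update_of_ne (Finset.ne_of_mem_erase hc)]

theorem pf_mem {L : α → Submodule k (X → k)} {F : α → X → k} (h : ∀ a, F a ∈ L a) : pf F ∈ PT L :=
  mem_PT.2 fun a g => by rw [sl_pf]; exact (L a).smul_mem _ (h a)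

theorem pf_mem_span {β : α → Type} (v : ∀ a, β a → X → k) {F : α → X → k}
    (h : ∀ a, F a ∈ Submodule.span k (Set.range (v a))) :
    pf F ∈ Submodule.span k (Set.range fun I : ∀ a, β a => pf fun a => v a (I a)) := by
  classical
  choose c hc using fun a => Finsupp.mem_span_range_iff_exists_finsupp.1 (h a)
  have h1 : pf F = ∑ I ∈ Fintype.piFinset fun a => (c a).support, (∏ a, c a (I a)) • pf fun a => v a (I a) := by
    funext g
    rw [Finset.sum_apply, pf_apply]
    have h2 : ∀ a, F a (g a) = ∑ x ∈ (c a).support, c a x * v a x (g a) := fun a => by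
      rw [← hc a, Finsupp.sum, Finset.sum_apply]; rfl
    rw [Finset.prod_congr rfl fun a _ => h2 a, Finset.prod_univ_sum]
    exact Finset.sum_congr rfl fun I _ => by rw [Finset.prod_mul_distrib]; rfl
  rw [h1]
  exact Submodule.sum_mem _ fun I _ => Submodule.smul_mem _ _ (Submodule.subset_span ⟨I, rfl⟩)

/-- finite combinations of evaluations -/
def lam (c : X →₀ k) : (X → k) →ₗ[k] k := ∑ x ∈ c.support, c x • LinearMap.proj x

theorem lam_apply (c : X →₀ k) (φ : X → k) : lam c φ = ∑ x ∈ c.support, c x * φ x := by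
  rw [lam, LinearMap.sum_apply]; rfl

theorem exists_lam {L : Submodule k (X → k)} [FiniteDimensional k L] (K : L →ₗ[k] k) :
    ∃ c : X →₀ k, ∀ φ : L, lam c φ = K φ := by
  have h1 : K ∈ Submodule.span k (Set.range fun x : X => (LinearMap.proj x : (X → k) →ₗ[k] k) ∘ₗ L.subtype) := by
    refine FiniteDimensional.mem_span_of_iInf_ker_le_ker fun φ hφ => ?_
    have h2 : φ = 0 := Subtype.ext (funext fun x => (Submodule.mem_iInf _).1 hφ x)
    rw [h2]; exact Submodule.zero_mem _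
  obtain ⟨c, hc⟩ := Finsupp.mem_span_range_iff_exists_finsupp.1 h1
  refine ⟨c, fun φ => ?_⟩
  rw [lam_apply, ← hc, Finsupp.sum, LinearMap.sum_apply]
  rfl

/-- the product of the functionals -/
def Lam (c : α → X →₀ k) : ((α → X) → k) →ₗ[k] k :=
  ∑ x ∈ Fintype.piFinset fun a => (c a).support, (∏ a, c a (x a)) • LinearMap.proj x

theorem Lam_pf (c : α → X →₀ k) (F : α → X → k) : Lam c (pf F) = ∏ a, lam (c a) (F a) := by
  rw [Lam, LinearMap.sum_apply, Finset.prod_congr rfl fun a _ => lam_apply (c a) (F a), Finset.prod_univ_sum]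
  exact Finset.sum_congr rfl fun I _ => by rw [Finset.prod_mul_distrib]; rfl

/-- products of linearly independent functions are linearly independent -/
theorem pf_indep {β : α → Type} [∀ a, Fintype (β a)] {v : ∀ a, β a → X → k} (h : ∀ a, LinearIndependent k (v a)) :
    LinearIndependent k fun I : ∀ a, β a => pf fun a => v a (I a) := by
  classical
  have hf : ∀ a, FiniteDimensional k (Submodule.span k (Set.range (v a))) := fun a =>
    FiniteDimensional.span_of_finite k (Set.finite_range _)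
  choose c hc using fun a i => exists_lam ((Basis.span (h a)).coord i)
  have h1 : ∀ a i j, lam (c a i) (v a j) = if j = i then 1 else 0 := fun a i j => by
    have h2 := hc a i (Basis.span (h a) j)
    rw [Basis.coord_apply, Basis.repr_self, Finsupp.single_apply, Basis.span_apply] at h2
    exact h2
  rw [Fintype.linearIndependent_iff]
  intro g hg I
  have h2 := congrArg (Lam fun a => c a (I a)) hg
  rw [map_sum, map_zero, Finset.sum_eq_single I] at h2
  · rw [map_smul, Lam_pf] at h2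
    simpa only [h1, ↓ _root_.reduceIte, _root_.Finset.prod_const_one, _root_.smul_eq_mul, _root_.mul_one] using h2
  · intro J _ hJ
    obtain ⟨a, ha⟩ := Function.ne_iff.1 hJ
    rw [map_smul, Lam_pf, Finset.prod_eq_zero (mem_univ a) (by rw [h1, if_neg ha]), smul_zero]
  · exact fun h => (h (mem_univ _)).elim

variable [Nonempty X]

theorem PT_aux {L : α → Submodule k (X → k)} [∀ a, FiniteDimensional k (L a)] (s : Finset α) :
    ∀ F : (α → X) → k, (∀ g g', (∀ a ∈ s, g a = g' a) → F g = F g') → (∀ a ∈ s, ∀ g, sl a g F ∈ L a) →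
      F ∈ Submodule.span k {H | ∃ F' : α → X → k, (∀ a ∈ s, F' a ∈ L a) ∧ (∀ a, a ∉ s → F' a = 1) ∧ H = pf F'} := by
  induction s using Finset.induction_on with
  | empty =>
    intro F h1 _
    have h2 : F = F (fun _ => Classical.arbitrary X) • pf (1 : α → X → k) := by
      funext g
      rw [h1 g (fun _ => Classical.arbitrary X) (by simp), Pi.smul_apply, pf_apply]
      simp only [_root_.Pi.one_apply, _root_.Finset.prod_const_one, _root_.smul_eq_mul, _root_.mul_one]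
    rw [h2]
    exact Submodule.smul_mem _ _ (Submodule.subset_span ⟨1, by simp, fun _ _ => rfl, rfl⟩)
  | insert a s ha ih =>
    intro F h1 h2
    let b := Module.finBasis k (L a)
    choose c hc using fun i => exists_lam (b.coord i)
    let mu : (X → k) → ((α → X) → k) →ₗ[k] ((α → X) → k) := fun φ => LinearMap.mulLeft k fun g => φ (g a)
    have h3 : F = ∑ i, (mu (b i) fun g => lam (c i) (sl a g F) :) := by
      funext g
      have h4 := congrArg (fun φ : L a => (φ : X → k) (g a)) (b.sum_repr ⟨_, h2 a (mem_insert_self _ _) g⟩)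
      simp only [Submodule.coe_sum, Finset.sum_apply, Submodule.coe_smul, Pi.smul_apply, smul_eq_mul, sl_self] at h4
      rw [← h4, Finset.sum_apply]
      refine Finset.sum_congr rfl fun i _ => ?_
      rw [← Basis.coord_apply, ← hc, mul_comm]
      rfl
    rw [h3]
    refine Submodule.sum_mem _ fun i _ => ?_
    have h4 := ih (fun g => lam (c i) (sl a g F)) (fun g g' hg => ?_) fun a' ha' g => ?_
    · have h5 := Submodule.mem_map_of_mem (f := (mu (b i) :)) h4
      rw [Submodule.map_span] at h5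
      refine Submodule.span_mono ?_ h5
      rintro _ ⟨_, ⟨F', h6, h7, rfl⟩, rfl⟩
      refine ⟨Function.update F' a (b i), fun a' ha' => ?_, fun a' ha' => ?_, ?_⟩
      · by_cases h : a' = a
        · subst h; rw [Function.update_self]; exact (b i).2
        · rw [Function.update_of_ne h]; exact h6 a' ((mem_insert.1 ha').resolve_left h)
      · rw [mem_insert, not_or] at ha'
        rw [Function.update_of_ne ha'.1, h7 a' ha'.2]
      · funext g
        show (b i : X → k) (g a) * pf F' g = _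
        rw [pf_eq _ a, pf_eq _ a, h7 a ha, Function.update_self, Pi.one_apply, mul_one, mul_comm]
        congr 1
        exact Finset.prod_congr rfl fun c hc => by rw [Function.update_of_ne (Finset.ne_of_mem_erase hc)]
    · congr 1
      funext x
      refine h1 (Function.update g a x) (Function.update g' a x) fun a' ha' => ?_
      by_cases h : a' = a
      · subst h; rw [Function.update_self, Function.update_self]
      · rw [Function.update_of_ne h, Function.update_of_ne h]; exact hg a' ((mem_insert.1 ha').resolve_left h)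
    · have hne : a' ≠ a := fun h => ha (h ▸ ha')
      have h5 : (sl a' g fun g => lam (c i) (sl a g F)) =
          ∑ x ∈ (c i).support, c i x • sl a' (Function.update g a x) F := by
        funext y
        rw [sl_apply, lam_apply, Finset.sum_apply]
        exact Finset.sum_congr rfl fun x _ => by
          rw [sl_apply, Pi.smul_apply, sl_apply, smul_eq_mul, Function.update_comm hne]
      rw [h5]
      exact Submodule.sum_mem _ fun x _ => Submodule.smul_mem _ _ (h2 a' (mem_insert_of_mem ha') _)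

theorem PT_le {L : α → Submodule k (X → k)} [∀ a, FiniteDimensional k (L a)] {N : Submodule k ((α → X) → k)}
    (h : ∀ F : α → X → k, (∀ a, F a ∈ L a) → pf F ∈ N) : PT L ≤ N := by
  intro F hF
  have h1 := PT_aux (L := L) univ F (fun g g' hg => by rw [show g = g' from funext fun a => hg a (mem_univ a)])
    fun a _ g => mem_PT.1 hF a g
  refine Submodule.span_le.2 ?_ h1
  rintro _ ⟨F', h2, -, rfl⟩
  exact h F' fun a => h2 a (mem_univ a)

theorem PT_span {β : α → Type} (v : ∀ a, β a → X → k)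
    [∀ a, FiniteDimensional k (Submodule.span k (Set.range (v a)))] :
    PT (fun a => Submodule.span k (Set.range (v a))) =
      Submodule.span k (Set.range fun I : ∀ a, β a => pf fun a => v a (I a)) := by
  refine le_antisymm (PT_le fun F hF => pf_mem_span v hF) (Submodule.span_le.2 ?_)
  rintro _ ⟨I, rfl⟩
  exact pf_mem fun a => Submodule.subset_span ⟨I a, rfl⟩

theorem span_basis {V κ : Type} [AddCommGroup V] [Module k V] {L : Submodule k V} (b : Basis κ k L) :
    Submodule.span k (Set.range fun i => (b i : V)) = L := by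
  have h := congrArg (Submodule.map L.subtype) b.span_eq
  rwa [Submodule.map_span, ← Set.range_comp, Submodule.map_subtype_top] at h

theorem PT_basis {L : α → Submodule k (X → k)} {β : α → Type} [∀ a, Fintype (β a)] (b : ∀ a, Basis (β a) k (L a)) :
    PT L = Submodule.span k (Set.range fun I : ∀ a, β a => (pf fun a => (b a (I a) : X → k) :)) := by
  have hf : ∀ a, FiniteDimensional k (Submodule.span k ((Set.range fun i => (b a i : X → k) :))) := fun a =>
    FiniteDimensional.span_of_finite k (Set.finite_range _)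
  rw [← PT_span fun a i => (b a i : X → k)]
  congr 1
  funext a
  rw [span_basis]

theorem fd_PT (L : α → Submodule k (X → k)) [∀ a, FiniteDimensional k (L a)] : FiniteDimensional k (PT L) := by
  rw [PT_basis fun a => Module.finBasis k (L a)]
  exact FiniteDimensional.span_of_finite k (Set.finite_range _)

theorem finrank_PT (L : α → Submodule k (X → k)) [∀ a, FiniteDimensional k (L a)] :
    finrank k (PT L) = ∏ a, finrank k (L a) := by
  rw [PT_basis fun a => Module.finBasis k (L a), finrank_span_eq_card (pf_indep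
    (v := fun a i => (Module.finBasis k (L a) i : X → k)) fun a =>
    (Module.finBasis k (L a)).linearIndependent.map' (L a).subtype (L a).ker_subtype)]
  simp only [_root_.Fintype.card_pi, _root_.Fintype.card_fin]

end PT

section group

variable {k α G : Type} [Field k] [Fintype α] [DecidableEq α] [Group G]

theorem sl_RR_single (a : α) (g : α → G) (x : G) (F : (α → G) → k) :
    sl a g (RR (Pi.mulSingle a x) F) = RR x (sl a g F) := by
  funext y
  rw [sl_apply, RR_apply, RR_apply, sl_apply]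
  congr 1
  funext c
  by_cases hc : c = a
  · subst hc; simp
  · simp [hc]

theorem Tr_pf (c : α → G → k) [h : ∀ a, FiniteDimensional k (Tr (c a))] : Tr (pf c) = PT fun a => Tr (c a) :=
  (@PT_span k α G _ _ _ _ (fun _ => G) (fun a h => RR h (c a)) h).symm

end group

/-- dimensions and semilinear maps -/
theorem finrank_eq_semi {k V V' : Type} [Field k] [AddCommGroup V] [Module k V] [AddCommGroup V'] [Module k V']
    {ω : k → k} (hω : Function.Bijective ω) (τ : V →+ V') (hτ : ∀ c v, τ (c • v) = ω c • τ v)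
    {N : Submodule k V} {N' : Submodule k V'} (hinj : ∀ v ∈ N, τ v = 0 → v = 0) (h1 : ∀ v ∈ N, τ v ∈ N')
    (h2 : ∀ w ∈ N', ∃ v ∈ N, τ v = w) : finrank k N = finrank k N' := by
  let j : N →+ N' :=
    { toFun := fun v => ⟨τ v, h1 v v.2⟩
      map_zero' := Subtype.ext (map_zero τ)
      map_add' := fun a b => Subtype.ext (map_add τ _ _) }
  have hj : Function.Bijective j := by
    refine ⟨(injective_iff_map_eq_zero j).2 fun v hv => Subtype.ext (hinj v v.2 (congrArg Subtype.val hv)), ?_⟩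
    rintro ⟨w, hw⟩
    obtain ⟨v, hv, rfl⟩ := h2 w hw
    exact ⟨⟨v, hv⟩, rfl⟩
  exact congrArg Cardinal.toNat
    (rank_eq_of_equiv_equiv ω (AddEquiv.ofBijective j hj) hω fun r m => Subtype.ext (hτ r m))

/-- **necklaces**: the fixed vectors of a permutation of prime order of a basis -/
theorem necklace {k W 𝓘 : Type} [Field k] [AddCommGroup W] [Module k W] [Fintype 𝓘] {p : ℕ} [hp : Fact p.Prime]
    (b : Basis 𝓘 k W) {π : 𝓘 → 𝓘} (hπ : ∀ I, π^[p] I = I) {Γ : Module.End k W} (hΓ : ∀ I, Γ (b I) = b (π I))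
    {E : ℕ} (hE : Nat.card {I // π I = I} ≤ E) :
    p * finrank k (LinearMap.ker (Γ - 1)) + E ≤ Fintype.card 𝓘 + p * E := by
  classical
  have hinj : Function.Injective π := fun I J h => by
    have h1 := congrArg π^[p - 1] h
    rwa [← Function.iterate_succ_apply, ← Function.iterate_succ_apply, Nat.succ_eq_add_one,
      Nat.sub_add_cancel hp.out.pos, hπ, hπ] at h1
  have hc : ∀ w ∈ LinearMap.ker (Γ - 1), ∀ I, b.repr w (π I) = b.repr w I := fun w hw I => by
    have h1 : Γ w = w := by rwa [LinearMap.mem_ker, LinearMap.sub_apply, sub_eq_zero] at hw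
    conv_lhs => rw [← h1, ← b.sum_repr w, map_sum, map_sum, Finsupp.finsetSum_apply]
    rw [Finset.sum_eq_single I (fun J _ hJ => by
      rw [map_smul, hΓ, map_smul, b.repr_self, Finsupp.smul_apply, Finsupp.single_eq_of_ne' (hinj.ne hJ), smul_zero])
      fun h => (h (mem_univ _)).elim, map_smul, hΓ, map_smul, b.repr_self, Finsupp.smul_apply,
      Finsupp.single_eq_same, smul_eq_mul, mul_one]
  let o : 𝓘 → Finset 𝓘 := fun I => (range p).image fun m => π^[m] I
  have ho1 : ∀ I, o (π I) = o I := fun I => by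
    refine Finset.eq_of_subset_of_card_le (fun J hJ => ?_) ?_
    · obtain ⟨m, hm, rfl⟩ := mem_image.1 hJ
      rw [mem_range] at hm
      by_cases h : m + 1 = p
      · exact mem_image.2 ⟨0, mem_range.2 hp.out.pos, by rw [← Function.iterate_succ_apply, Nat.succ_eq_add_one, h, hπ]; rfl⟩
      · exact mem_image.2 ⟨m + 1, mem_range.2 (by omega), rfl⟩
    · rw [← Finset.card_image_of_injective (o I) hinj]
      refine Finset.card_le_card fun J hJ => ?_
      obtain ⟨_, hJ', rfl⟩ := mem_image.1 hJ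
      obtain ⟨m, hm, rfl⟩ := mem_image.1 hJ'
      exact mem_image.2 ⟨m, hm, (Function.iterate_succ_apply π m I).symm.trans (Function.iterate_succ_apply' π m I)⟩
  have ho2 : ∀ m I, o (π^[m] I) = o I := fun m I => by
    induction m with
    | zero => rfl
    | succ m ih => rw [Function.iterate_succ_apply', ho1, ih]
  have hc2 : ∀ w ∈ LinearMap.ker (Γ - 1), ∀ m I, b.repr w (π^[m] I) = b.repr w I := fun w hw m I => by
    induction m with
    | zero => rfl
    | succ m ih => rw [Function.iterate_succ_apply', hc w hw, ih]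
  have h0 : ∀ I, I ∈ o I := fun I => mem_image.2 ⟨0, mem_range.2 hp.out.pos, rfl⟩
  choose r hr using fun O : (univ : Finset 𝓘).image o => (mem_image.1 O.2)
  have h1 : finrank k (LinearMap.ker (Γ - 1)) ≤ ((univ : Finset 𝓘).image o).card := by
    have h2 := LinearMap.finrank_le_finrank_of_injective
      (f := (LinearMap.pi fun O => b.coord (r O)) ∘ₗ (LinearMap.ker (Γ - 1)).subtype) (by
        rw [injective_iff_map_eq_zero]
        intro w hw
        refine Subtype.ext (b.repr.injective (Finsupp.ext fun I => ?_))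
        let O : (univ : Finset 𝓘).image o := ⟨o I, mem_image_of_mem _ (mem_univ I)⟩
        have h3 : I ∈ o (r O) := by rw [(hr O).2]; exact h0 I
        obtain ⟨m, -, hm⟩ := mem_image.1 h3
        rw [← hm, hc2 w.1 w.2, ZeroMemClass.coe_zero, map_zero]
        exact congrFun hw O)
    rwa [Module.finrank_fintype_fun_eq_card, Fintype.card_coe] at h2
  have h2 : p * ((univ.filter fun I => ¬ π I = I).image o).card ≤ (univ.filter fun I => ¬ π I = I).card := by
    refine Finset.mul_card_image_le_card _ _ fun O hO => ?_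
    obtain ⟨I, hI, rfl⟩ := mem_image.1 hO
    have hI' := (mem_filter.1 hI).2
    have h3 : Function.minimalPeriod π I = p := Function.minimalPeriod_eq_prime (hπ I) hI'
    have h4 : (o I).card = p := by
      rw [Finset.card_image_of_injOn, card_range]
      rw [coe_range, ← h3]
      exact Function.iterate_injOn_Iio_minimalPeriod
    refine h4.ge.trans (Finset.card_le_card fun J hJ => ?_)
    obtain ⟨m, -, rfl⟩ := mem_image.1 hJ
    refine mem_filter.2 ⟨mem_filter.2 ⟨mem_univ _, fun h => hI' ?_⟩, ho2 m I⟩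
    rw [← Function.iterate_succ_apply' π m I, Function.iterate_succ_apply] at h
    exact hinj.iterate m h
  have h3 : ((univ : Finset 𝓘).image o).card ≤
      (univ.filter fun I => π I = I).card + ((univ.filter fun I => ¬ π I = I).image o).card := by
    conv_lhs => rw [← Finset.filter_union_filter_not_eq (fun I => π I = I) univ, Finset.image_union]
    exact (Finset.card_union_le _ _).trans (Nat.add_le_add_right Finset.card_image_le _)
  have h4 := Finset.card_filter_add_card_filter_not (s := (univ : Finset 𝓘)) fun I => π I = I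
  rw [Finset.card_univ] at h4
  rw [Nat.card_eq_fintype_card, Fintype.card_subtype] at hE
  obtain ⟨q, rfl⟩ : ∃ q, p = q + 1 := ⟨p - 1, (Nat.sub_add_cancel hp.out.pos).symm⟩
  have h5 := Nat.mul_le_mul_left (q + 1) (h1.trans h3)
  have h6 := Nat.mul_le_mul_left q hE
  linarith only [h4, h2, h5, h6]

end Cfsg.Agent.TwoF.DC.Pw
end

-- part: TwoF/DC/Pow/Dat
section
/-!
# TwoF, defining characteristic, TH3c (2): the product datum (helper33)
-/

set_option autoImplicit false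
set_option linter.unusedSectionVars false
set_option linter.unusedVariables false

namespace Cfsg.Agent.TwoF.DC.Pw

open Module Finset Cfsg.Agent.H45.Uni Cfsg.Agent.H45.UniE

variable {α ι Φ : Type} [Fintype α] [DecidableEq α] [Fintype ι] [DecidableEq ι] [DecidableEq Φ]

/-- a vector placed in position `a` -/
def li {β : Type} [Zero β] (a : α) (v : ι → β) : α × ι → β := fun x => if x.1 = a then v x.2 else 0

theorem li_self {β : Type} [Zero β] (a : α) (v : ι → β) (i : ι) : li a v (a, i) = v i := if_pos rfl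

theorem li_ne {β : Type} [Zero β] {a c : α} (h : c ≠ a) (v : ι → β) (i : ι) : li a v (c, i) = 0 := if_neg h

theorem li_inj {β : Type} [Zero β] (a : α) {v w : ι → β} (h : li a v = li a w) : v = w :=
  funext fun i => by rw [← li_self a v, h, li_self]

theorem li_eq {β : Type} [Zero β] {a c : α} {v w : ι → β} (h : li a v = li c w) (hv : v ≠ 0) : a = c := by
  by_contra hne
  exact hv (funext fun i => by rw [← li_self a v, h, li_ne hne]; rfl)

theorem li_add {β : Type} [AddMonoid β] (a : α) (v w : ι → β) : li a (v + w) = li a v + li a w := by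
  funext x; by_cases h : x.1 = a <;> simp [li, h]

theorem li_nsmul {β : Type} [AddMonoid β] (a : α) (n : ℕ) (v : ι → β) : li a (n • v) = n • li a v := by
  funext x; by_cases h : x.1 = a <;> simp [li, h]

theorem li_sub (a : α) (v w : ι → ℤ) : li a (v - w) = li a v - li a w := by
  funext x; by_cases h : x.1 = a <;> simp [li, h]

theorem li_zsmul (a : α) (n : ℤ) (v : ι → ℤ) : li a (n • v) = n • li a v := by
  funext x; by_cases h : x.1 = a <;> simp [li, h]

theorem li_single {β : Type} [Zero β] (a : α) (i : ι) (n : β) : li a (Pi.single i n : ι → β) = Pi.single (a, i) n := by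
  funext x
  obtain ⟨c, j⟩ := x
  by_cases h : c = a
  · subst h; rw [li_self]; by_cases h' : j = i <;> simp [h']
  · rw [li_ne h, Pi.single_eq_of_ne (by simp [h])]

theorem sum_prod_left (a : α) (f : ι → ℤ) (c : α × ι → ℤ) :
    ∑ l : α × ι, (if a = l.1 then f l.2 else 0) * c l = ∑ j, f j * c (a, j) := by
  rw [Fintype.sum_prod_type, Finset.sum_eq_single a (fun b _ hb => by simp only [hb.symm, ↓ _root_.reduceIte, _root_.MulZeroClass.zero_mul, _root_.Finset.sum_const_zero]) fun h => (h (mem_univ _)).elim]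
  simp only [↓ _root_.reduceIte]

theorem sum_prod_right (a : α) (f : ι → ℤ) (c : α × ι → ℤ) :
    ∑ l : α × ι, c l * (if l.1 = a then f l.2 else 0) = ∑ j, c (a, j) * f j := by
  rw [Fintype.sum_prod_type, Finset.sum_eq_single a (fun b _ hb => by simp only [hb, ↓ _root_.reduceIte, _root_.MulZeroClass.mul_zero, _root_.Finset.sum_const_zero]) fun h => (h (mem_univ _)).elim]
  simp only [↓ _root_.reduceIte]

variable (α) in
/-- the product of copies of a root system -/
def rc (R : RC ι Φ) : RC (α × ι) (α × Φ) where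
  zi x := (x.1, R.zi x.2)
  cf y := li y.1 (R.cf y.2)
  co y := li y.1 (R.co y.2)
  C x x' := if x.1 = x'.1 then R.C x.2 x'.2 else 0
  s x y := if y.1 = x.1 then (y.1, R.s x.2 y.2) else y
  cf_zi x := by rw [R.cf_zi, li_single]
  co_zi x := by rw [R.co_zi, li_single]
  C_self x := by rw [if_pos rfl, R.C_self]
  C_inj c h := by
    funext x
    refine congrFun (R.C_inj (fun j => c (x.1, j)) fun i => ?_) x.2
    rw [← h (x.1, i), sum_prod_left x.1 (R.C i)]
  cf_inj := by
    rintro ⟨a, b⟩ ⟨a', b'⟩ h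
    obtain rfl : a = a' := li_eq h (R.cf_ne_zero b)
    rw [show b = b' from R.cf_inj (li_inj a h)]
  red := by
    rintro ⟨a, b⟩ ⟨a', i⟩ n h
    rw [← li_single] at h
    obtain rfl : a = a' := li_eq h (R.cf_ne_zero b)
    rw [R.red b i n (li_inj a h)]
  cf_s := by
    rintro ⟨a, i⟩ ⟨a', b⟩ hb ⟨c, j⟩
    rw [sum_prod_left a (R.C i)]
    by_cases h : a' = a
    · subst h
      have hb' : b ≠ R.zi i := fun e => hb (by rw [e])
      simp only [if_true, li_self]
      by_cases hc : c = a'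
      · subst hc; simp only [li_self, R.cf_s i b hb' j, Prod.mk.injEq, true_and]
      · simp [li_ne hc, hc]
    · simp only [h, li_ne (Ne.symm h), ↓ _root_.reduceIte, _root_.Prod.mk.injEq, _root_.CharP.cast_eq_zero, _root_.MulZeroClass.mul_zero, _root_.Finset.sum_const_zero, _root_.ite_self, _root_.sub_zero]
  co_s := by
    rintro ⟨a, i⟩ ⟨a', b⟩ hb ⟨c, j⟩
    rw [sum_prod_right a (fun l => R.C l i)]
    by_cases h : a' = a
    · subst h
      have hb' : b ≠ R.zi i := fun e => hb (by rw [e])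
      simp only [if_true, li_self]
      by_cases hc : c = a'
      · subst hc; simp only [li_self, R.co_s i b hb' j, Prod.mk.injEq, true_and]
      · simp [li_ne hc, hc]
    · simp only [h, li_ne (Ne.symm h), ↓ _root_.reduceIte, _root_.Prod.mk.injEq, _root_.CharP.cast_eq_zero, _root_.MulZeroClass.zero_mul, _root_.Finset.sum_const_zero, _root_.ite_self, _root_.sub_zero]
  desc := by
    rintro ⟨a, b⟩ hb
    obtain ⟨i, hi⟩ := R.desc b fun i e => hb (a, i) (by rw [e])
    refine ⟨(a, i), ?_⟩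
    rw [sum_prod_left a (R.C i)]
    simpa only [li_self] using hi

variable (R : RC ι Φ)

theorem rc_cf (a : α) (b : Φ) : (rc α R).cf (a, b) = li a (R.cf b) := rfl

theorem rc_vec (e : Bool) (a : α) (b : Φ) : (rc α R).vec (e, (a, b)) = li a (R.vec (e, b)) := by
  funext x
  cases e <;> by_cases h : x.1 = a <;> simp only [RC.vec, rc, li, h, _root_.Bool.false_eq_true, ↓ _root_.reduceIte, _root_.CharP.cast_eq_zero, _root_.neg_zero]

theorem rc_toWt (c : α × ι → ℤ) (a : α) (i : ι) : (rc α R).toWt c (a, i) = R.toWt (fun j => c (a, j)) i :=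
  sum_prod_left a (R.C i) c

theorem rc_wt (e : Bool) (a : α) (b : Φ) : (rc α R).wt (e, (a, b)) = li a (R.wt (e, b)) := by
  funext x
  obtain ⟨c, i⟩ := x
  rw [RC.wt, rc_toWt, rc_vec]
  by_cases h : c = a
  · subst h; simp only [li_self]; rfl
  · simp only [li_ne h]; exact congrFun R.toWt_zero i

theorem rc_isRt (a : α) (v : ι → ℤ) : (rc α R).IsRt (li a v) ↔ R.IsRt v := by
  constructor
  · rintro ⟨⟨e, c, b⟩, h⟩
    rw [rc_vec] at h
    obtain rfl : c = a := li_eq h (R.vec_ne_zero _)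
    exact ⟨_, li_inj c h⟩
  · rintro ⟨⟨e, b⟩, rfl⟩
    exact ⟨(e, (a, b)), rc_vec R e a b⟩

theorem rc_nz (p : ℕ) (a : α) (e e' : Bool) (b b' : Φ) :
    (rc α R).NZ p (e, (a, b)) (e', (a, b')) ↔ R.NZ p (e, b) (e', b') := by
  simp only [RC.NZ, rc_vec, ← li_add, ← li_zsmul, ← li_sub, rc_isRt]

/-- the part of a set of roots in position `a` -/
def part (S : Finset (α × Φ)) (a : α) : Finset Φ := (S.filter fun y => y.1 = a).image Prod.snd

theorem mem_part {S : Finset (α × Φ)} {a : α} {b : Φ} : b ∈ part S a ↔ (a, b) ∈ S := by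
  rw [part, mem_image]
  constructor
  · rintro ⟨⟨c, b'⟩, h, rfl⟩
    obtain ⟨h1, rfl⟩ := mem_filter.1 h
    exact h1
  · exact fun h => ⟨(a, b), mem_filter.2 ⟨h, rfl⟩, rfl⟩

theorem card_part (S : Finset (α × Φ)) : S.card ≤ ∑ a, (part S a).card := by
  rw [Finset.card_eq_sum_card_fiberwise (f := Prod.fst) (t := univ) fun _ _ => mem_univ _]
  refine Finset.sum_le_sum fun a _ => (Finset.card_image_of_injOn ?_).ge
  rintro ⟨c, b⟩ h ⟨c', b'⟩ h' e
  exact Prod.ext ((mem_filter.1 h).2.trans (mem_filter.1 h').2.symm) e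

theorem part_ab {p : ℕ} {S : Finset (α × Φ)} (h : (rc α R).Ab p S) (a : α) : R.Ab p (part S a) :=
  fun b hb b' hb' h1 => h _ (mem_part.1 hb) _ (mem_part.1 hb') ((rc_nz R p a _ _ _ _).2 h1)

theorem part_idl {p : ℕ} {S : Finset (α × Φ)} (h : (rc α R).Idl p S) (a : α) : R.Idl p (part S a) :=
  fun b hb β c h1 h2 => mem_part.2 (h _ (mem_part.1 hb) (a, β) (a, c) (by rw [rc_cf, rc_cf, rc_cf, h1, li_add])
    ((rc_nz R p a _ _ _ _).2 h2))

variable {k G : Type} [Field k] [Group G]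

/-- the embedding in position `a` -/
def ms (a : α) : G →* (α → G) := MonoidHom.mulSingle (fun _ => G) a

theorem ms_self (a : α) (x : G) : ms a x a = x := Pi.mulSingle_eq_same _ _

theorem ms_ne {a c : α} (h : c ≠ a) (x : G) : ms a x c = 1 := Pi.mulSingle_eq_of_ne h _

theorem ms_comm {a c : α} (h : a ≠ c) (x y : G) : ms a x * ms c y = ms c y * ms a x :=
  (Pi.mulSingle_commute (f := fun _ => G) h x y).eq

theorem mul_ms {a : α} {g : α → G} {x y : G} (h : g a * x = y * g a) : g * ms a x = ms a y * g := by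
  funext c
  by_cases hc : c = a
  · subst hc; rw [Pi.mul_apply, Pi.mul_apply, ms_self, ms_self, h]
  · rw [Pi.mul_apply, Pi.mul_apply, ms_ne hc, ms_ne hc, mul_one, one_mul]

theorem mem_of_ms {H : Subgroup (α → G)} {g : α → G} (h : ∀ a, ms a (g a) ∈ H) : g ∈ H :=
  Subgroup.pi_mem_of_mulSingle_mem g h

theorem map_mem_of_closure {G' : Type} [Group G'] (f : G →* G') {X : Set G} {H : Subgroup G'} {g : G}
    (hg : g ∈ Subgroup.closure X) (h : ∀ x ∈ X, f x ∈ H) : f g ∈ H :=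
  (Subgroup.closure_le (H.comap f)).2 h hg

theorem ms_list (a : α) (z : Φ → k → G) (l : List (Φ × k × ℕ)) (t : k) :
    ms a (l.map fun e => z e.1 (e.2.1 * t ^ e.2.2)).prod =
      ((l.map fun e => (((a, e.1), e.2) : (α × Φ) × k × ℕ)).map fun e => ms e.1.1 (z e.1.2 (e.2.1 * t ^ e.2.2))).prod := by
  rw [map_list_prod, List.map_map, List.map_map]
  rfl

variable (α) in
/-- the product of copies of a group datum -/
def gd (D : GDat ι Φ k G) : GDat (α × ι) (α × Φ) k (α → G) where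
  x i t := ms i.1 (D.x i.2 t)
  y i t := ms i.1 (D.y i.2 t)
  z b t := ms b.1 (D.z b.2 t)
  zi i := (i.1, D.zi i.2)
  ht b := D.ht b.2
  T := Subgroup.pi Set.univ fun _ => D.T
  δ s := fun _ => D.δ s
  hh i c := ms i.1 (D.hh i.2 c)
  τ g := fun a => D.τ (g a)
  ht_pos b := D.ht_pos _
  x_eq i s := by rw [D.x_eq]
  z_add b s t := by rw [D.z_add, map_mul]
  y_add i s t := by rw [D.y_add, map_mul]
  δ_mul s t := funext fun _ => D.δ_mul s t
  δ_mem s := fun _ _ => D.δ_mem s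
  hh_mem i c := fun a _ => by
    by_cases h : a = i.1
    · rw [h, ms_self]; exact D.hh_mem _ _
    · rw [ms_ne h]; exact D.T.one_mem
  δ_z s b a := mul_ms (D.δ_z s b.2 a)
  T_x t ht i := by
    obtain ⟨u, hu⟩ := D.T_x (t i.1) (ht i.1 trivial) i.2
    exact ⟨u, fun a => (mul_ms (hu a).symm).symm⟩
  T_y t ht i := by
    obtain ⟨u, hu⟩ := D.T_y (t i.1) (ht i.1 trivial) i.2
    exact ⟨u, fun a => mul_ms (hu a)⟩
  comm := by
    rintro ⟨a, i⟩ ⟨c, j⟩ s t h
    by_cases hc : a = c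
    · subst hc
      rw [← map_mul, ← map_mul, D.comm i j s t fun e => h (by rw [e])]
    · exact ms_comm hc _ _
  rank i a s c h := by rw [← map_mul, D.rank _ a s c h, map_mul, map_mul]
  gen := by
    refine top_unique fun g _ => mem_of_ms fun a => ?_
    have h : g a ∈ Subgroup.closure {g | ∃ i s, g = D.x i s ∨ g = D.y i s} := by rw [D.gen]; trivial
    refine map_mem_of_closure (ms a) h ?_
    rintro _ ⟨i, s, rfl | rfl⟩
    · exact Subgroup.subset_closure ⟨(a, i), s, Or.inl rfl⟩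
    · exact Subgroup.subset_closure ⟨(a, i), s, Or.inr rfl⟩
  cmt := by
    rintro ⟨a, i⟩ ⟨c, b⟩ s
    by_cases hc : a = c
    · subst hc
      obtain ⟨l, h1, h2⟩ := D.cmt i b s
      refine ⟨l.map fun e => ((a, e.1), e.2), fun e he => ?_, fun t => ?_⟩
      · obtain ⟨e', he', rfl⟩ := List.mem_map.1 he
        exact h1 e' he'
      · rw [← map_mul, ← map_mul, h2, ms_list]
    · refine ⟨[((c, b), 1, 1)], by simp, fun t => ?_⟩
      rw [ms_comm hc, mul_assoc, ← map_mul, D.x_neg, inv_mul_cancel, map_one]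
      simp
  τ_mul a b := funext fun c => D.τ_mul _ _
  τ_τ a := funext fun c => D.τ_τ _
  τ_x i s := funext fun c => by
    by_cases h : c = i.1
    · rw [h, ms_self, ms_self, D.τ_x]
    · rw [ms_ne h, ms_ne h, D.τ_one]
  τ_T t ht := funext fun c => D.τ_T _ (ht c trivial)

variable (α) in
/-- the product of copies of a datum with fundamental functions -/
def fdt (D : FDat ι Φ k G) : FDat (α × ι) (α × Φ) k (α → G) where
  toGDat := gd α D.toGDat
  Δ i g := D.Δ i.2 (g i.1)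
  wt i := D.wt i.2
  N := D.N
  M := D.M
  Δ_one i := D.Δ_one _
  Δ_z := by
    rintro ⟨a, i⟩ ⟨c, b⟩ g s
    show D.Δ i (g a * ms c (D.z b s) a) = D.Δ i (g a)
    by_cases h : a = c
    · rw [h, ms_self, D.Δ_z]
    · rw [ms_ne h, mul_one]
  Δ_T i t ht g := D.Δ_T _ _ (ht i.1 trivial) _
  Δ_hh := by
    rintro ⟨a, i⟩ ⟨c, j⟩ u
    show D.Δ i (ms c (D.hh j u) a) = _
    by_cases h : a = c
    · rw [h, ms_self, D.Δ_hh]; simp
    · rw [ms_ne h, D.Δ_one, if_neg (by simp [h])]
  Δ_δ i s := D.Δ_δ _ _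
  Δ_τ i g := D.Δ_τ _ _
  pol_z := by
    rintro ⟨a, i⟩ ⟨c, b⟩ g h
    by_cases hc : a = c
    · obtain ⟨P, h1, h2⟩ := D.pol_z i b (g a) (h a)
      refine ⟨P, h1, fun s => ?_⟩
      show D.Δ i (g a * ms c (D.z b s) a * h a) = _
      rw [← h2, hc, ms_self]
    · refine ⟨Polynomial.C (D.Δ i (g a * h a)), by simp, fun s => ?_⟩
      show D.Δ i (g a * ms c (D.z b s) a * h a) = _
      rw [ms_ne hc, mul_one, Polynomial.eval_C]
  pol_δ i g h := D.pol_δ i.2 (g i.1) (h i.1)

variable (α) in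
/-- **the product datum** -/
def pw {p : ℕ} (D : RDat p ι Φ k G) : RDat p (α × ι) (α × Φ) k (α → G) where
  toFDat := fdt α D.toFDat
  R := rc α D.R
  zi_eq := funext fun i => by
    show (i.1, D.R.zi i.2) = (i.1, D.zi i.2)
    rw [D.zi_eq]
  ht_eq := by
    rintro ⟨a, b⟩
    show D.ht b = ∑ j : α × ι, li a (D.R.cf b) j * D.ht (D.zi j.2)
    rw [D.ht_eq b, Fintype.sum_prod_type, Finset.sum_eq_single a (fun c _ hc => by simp only [li_ne hc, _root_.MulZeroClass.zero_mul, _root_.Finset.sum_const_zero])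
      fun h => (h (mem_univ _)).elim]
    simp only [li_self]
  hh_mul i c d := by
    show ms _ _ = ms _ _ * ms _ _
    rw [D.hh_mul, map_mul]
  hh_comm := by
    rintro ⟨a, i⟩ ⟨c, j⟩ u v
    show ms a _ * ms c _ = ms c _ * ms a _
    by_cases h : a = c
    · subst h; rw [← map_mul, ← map_mul, D.hh_comm]
    · exact ms_comm h _ _
  hh_z := by
    rintro ⟨a, i⟩ u ⟨c, b⟩ t
    show ms a _ * ms c _ = ms c (D.z b _) * ms a _
    rw [rc_wt]
    by_cases h : a = c
    · subst h; rw [← map_mul, ← map_mul, D.hh_z, li_self]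
    · rw [li_ne h, zpow_zero, Units.val_one, one_mul]; exact ms_comm h _ _
  n_z := by
    rintro ⟨a, i⟩ ⟨c, b⟩ hb
    by_cases h : c = a
    · subst h
      obtain ⟨ε, hε⟩ := D.n_z i b fun e => hb (by rw [e]; rfl)
      refine ⟨ε, fun t => ?_⟩
      have h1 : (rc α D.R).s (c, i) (c, b) = (c, D.R.s i b) := if_pos rfl
      rw [h1]
      show ms c _ * ms c _ * ms c _ * ms c _ = ms c _ * (ms c _ * ms c _ * ms c _)
      simp only [← map_mul]
      rw [hε]
    · refine ⟨1, fun t => ?_⟩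
      have h1 : (rc α D.R).s (a, i) (c, b) = (c, b) := if_neg h
      rw [h1]
      show ms a _ * ms a _ * ms a _ * ms c _ = ms c _ * (ms a _ * ms a _ * ms a _)
      rw [← map_mul, ← map_mul, Units.val_one, one_mul]
      exact (ms_comm h _ _).symm
  cm := by
    rintro ⟨a, b⟩ ⟨c, b'⟩ s t
    show ms a _ * ms c _ * (ms a _)⁻¹ * (ms c _)⁻¹ ∈ _
    by_cases h : a = c
    · subst h
      rw [← map_inv, ← map_inv, ← map_mul, ← map_mul, ← map_mul]
      refine map_mem_of_closure (ms a) (D.cm b b' s t) ?_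
      rintro _ ⟨e, u, ⟨m, n, hm, hn, h1⟩, rfl⟩
      exact Subgroup.subset_closure ⟨(a, e), u, ⟨m, n, hm, hn, by
        rw [rc_cf, rc_cf, rc_cf, h1, li_add, li_nsmul, li_nsmul]⟩, rfl⟩
    · rw [ms_comm h, mul_inv_cancel_right, mul_inv_cancel]
      exact Subgroup.one_mem _
  nz := by
    rintro ⟨a, i⟩ ⟨c, b⟩ ⟨c', e⟩ h1 h2
    change li c' (D.R.cf e) = li a (D.R.cf (D.zi i)) + li c (D.R.cf b) at h1
    obtain rfl : a = c' := by
      by_contra h
      obtain ⟨j, hj⟩ := D.R.exists_cf_pos (D.zi i)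
      have h3 := congrFun h1 (a, j)
      rw [li_ne h, Pi.add_apply, li_self] at h3
      omega
    obtain rfl : c = a := by
      by_contra h
      obtain ⟨j, hj⟩ := D.R.exists_cf_pos b
      have h3 := congrFun h1 (c, j)
      rw [li_ne h, Pi.add_apply, li_self] at h3
      omega
    rw [← li_add] at h1
    obtain ⟨l, h3, h4, h5⟩ := D.nz i b e (li_inj c h1) ((rc_nz D.R p c _ _ _ _).1 h2)
    refine ⟨l.map fun e => ((c, e.1), e.2), fun e he => ?_, fun t => ?_, ?_⟩
    · obtain ⟨e', he', rfl⟩ := List.mem_map.1 he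
      exact h3 e' he'
    · show ms c _ * ms c _ * ms c _ = _
      rw [← map_mul, ← map_mul, h4, ms_list]
      rfl
    · rw [List.filter_map, List.map_map]
      simpa only [Function.comp_def, Prod.mk.injEq, true_and] using h5

variable {p : ℕ} (D : RDat p ι Φ k G)

theorem pw_x (a : α) (i : ι) (t : k) : (pw α D).x (a, i) t = ms a (D.x i t) := rfl
theorem pw_y (a : α) (i : ι) (t : k) : (pw α D).y (a, i) t = ms a (D.y i t) := rfl
theorem pw_z (a : α) (b : Φ) (t : k) : (pw α D).z (a, b) t = ms a (D.z b t) := rfl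
theorem pw_cc (n : α → ι → ℕ) : (pw α D).toFDat.cc (fun x => n x.1 x.2) = pf fun a => D.toFDat.cc (n a) := by
  funext g
  rw [FDat.cc, Fintype.prod_prod_type]
  rfl

theorem mem_pw_U {g : α → G} (h : ∀ a, g a ∈ D.U) : g ∈ (pw α D).U := by
  refine mem_of_ms fun a => map_mem_of_closure (ms a) (h a) ?_
  rintro _ ⟨b, t, rfl⟩
  exact Subgroup.subset_closure ⟨(a, b), t, rfl⟩

end Cfsg.Agent.TwoF.DC.Pw
end

-- part: TwoF/DC/Pow/Sl
section
/-!
# TwoF, defining characteristic, TH3c (3): modules of the product datum; `line`, `inner` (helper33)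
-/

set_option autoImplicit false
set_option linter.unusedSectionVars false
set_option linter.unusedVariables false

namespace Cfsg.Agent.TwoF.DC.Pw

open Module Finset Cfsg.Agent.H45.Uni Cfsg.Agent.H45.UniE Cfsg.Agent.TwoF.Gen

section gen

variable {p : ℕ} {ι Φ ι' Φ' k G G' L L' : Type} [Fintype ι] [DecidableEq ι] [Fintype Φ] [DecidableEq Φ] [Fintype ι']
  [DecidableEq ι'] [Fintype Φ'] [DecidableEq Φ'] [Field k] [Infinite k] [Group G] [Group G'] [AddCommGroup L]
  [Module k L] [AddCommGroup L'] [Module k L'] {D : RDat p ι Φ k G} {D' : RDat p ι' Φ' k G'} {H : HW D.R p k L}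
  {H' : HW D'.R p k L'} (r : H.Rep D) (r' : H'.Rep D')

theorem E_comp (φ : L →ₗ[k] L') {b : Φ} {b' : Φ'} (h : ∀ t v, φ (r.ρ (D.z b t) v) = r'.ρ (D'.z b' t) (φ v)) (n : ℕ)
    (v : L) : φ (H.E (true, b) n v) = H'.E (true, b') n (φ v) := by
  refine eq_of_sum_pow (k := k) (N := H.bd + H'.bd + n + 1) (a := fun n => φ (H.E (true, b) n v))
    (b := fun n => H'.E (true, b') n (φ v)) (fun t => ?_) (by omega)
  have h1 := h t v
  rw [r.z_sum b t (N := H.bd + H'.bd + n + 1) (by omega), r'.z_sum b' _ (N := H.bd + H'.bd + n + 1) (by omega),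
    LinearMap.sum_apply, LinearMap.sum_apply, map_sum] at h1
  simpa only [LinearMap.smul_apply, map_smul] using h1

theorem E_triv {b : Φ} {v : L} (h : ∀ t, r.ρ (D.z b t) v = v) : H.E (true, b) 1 v = 0 := by
  refine (eq_of_sum_pow (k := k) (N := H.bd + 2) (a := fun n => H.E (true, b) n v)
    (b := fun n => if n = 0 then v else 0) (fun t => ?_) (n := 1) (by omega)).trans (if_neg one_ne_zero)
  have h1 := h t
  rw [r.z_sum b t (N := H.bd + 2) (by omega), LinearMap.sum_apply] at h1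
  rw [Finset.sum_eq_single 0 (f := fun n => t ^ n • if n = 0 then v else 0) (fun n _ hn => by rw [if_neg hn, smul_zero])
    (by simp only [_root_.Finset.mem_range, _root_.lt_add_iff_pos_left, _root_.add_pos_iff, _root_.Order.lt_two_iff, _root_.zero_le, _root_.or_true, _root_.not_true_eq_false, _root_.pow_zero, ↓ _root_.reduceIte, _root_.one_smul, _root_.IsEmpty.forall_iff]), if_pos rfl, pow_zero, one_smul]
  exact h1

end gen

variable {p : ℕ} [hp : Fact p.Prime] {α ι Φ k G : Type} [Fintype α] [DecidableEq α] [Fintype ι] [DecidableEq ι]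
  [Fintype Φ] [DecidableEq Φ] [Field k] [IsAlgClosed k] [CharP k p] [Group G] {D : RDat p ι Φ k G} (C : Can D)

theorem RR_Lc_zero {F : G → k} (hF : F ∈ Lc D 0) (x : G) : RR x F = F := by
  induction hF using Submodule.span_induction with
  | mem F hF => obtain ⟨h, rfl⟩ := hF; funext g; simp only [RR_apply, FDat.cc, _root_.Pi.zero_apply, _root_.pow_zero, _root_.Finset.prod_const_one]
  | zero => rw [map_zero]
  | add F F' _ _ h1 h2 => rw [map_add, h1, h2]
  | smul a F _ h1 => rw [map_smul, h1]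

include C in
theorem fd_Lc {ν : ι → ℕ} (h : ∀ i, ν i < p) : FiniteDimensional k (Lc D ν) := by
  by_cases h0 : ν = 0
  · subst h0
    exact Module.finite_of_finrank_pos (by rw [show finrank k (Lc D 0) = 1 from dd_zero D]; exact one_pos)
  · exact (C.H ν h h0).fd

/-- the root operators on all canonical modules -/
noncomputable def Eo (ν : ι → ℕ) (h : ∀ i, ν i < p) (b : Φ) : Module.End k (Lc D ν) :=
  if h0 : ν = 0 then 0 else (C.H ν h h0).E (true, b) 1

theorem Eo_ne {ν : ι → ℕ} (h : ∀ i, ν i < p) (h0 : ν ≠ 0) (b : Φ) : Eo C ν h b = (C.H ν h h0).E (true, b) 1 :=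
  dif_neg h0

theorem Eo_zero {ν : ι → ℕ} (h : ∀ i, ν i < p) (h0 : ν = 0) (b : Φ) : Eo C ν h b = 0 := dif_pos h0

theorem finrank_ker_Eo {ν : ι → ℕ} (h : ∀ i, ν i < p) (S : Finset Φ) :
    finrank k ↥(⨅ b ∈ S, LinearMap.ker (Eo C ν h b)) = C.u ν S := by
  by_cases h0 : ν = 0
  · have h1 : (⨅ b ∈ S, LinearMap.ker (Eo C ν h b)) = ⊤ := by simp [Eo_zero C h h0]
    rw [h1, finrank_top]
    subst h0
    rw [C.u_zero]
    exact dd_zero D
  · rw [C.u_eq ν h h0, show (⨅ b ∈ S, LinearMap.ker (Eo C ν h b)) = (C.H ν h h0).kerL S from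
      iInf_congr fun b => by rw [Eo_ne C h h0]]

variable (D) in
/-- the highest weight function of a pattern -/
abbrev cw (n : α → ι → ℕ) : (α → G) → k := pf fun a => D.toFDat.cc (n a)

variable {n : α → ι → ℕ} (hn : ∀ a i, n a i < p)

include C hn in
theorem Tr_cw : Tr (cw D n) = PT fun a => Lc D (n a) := @Tr_pf k α G _ _ _ _ _ fun a => fd_Lc C (hn a)

include C hn in
theorem fd_cw : FiniteDimensional k (Tr (cw D n)) := by
  rw [Tr_cw C hn]
  exact @fd_PT k α G _ _ _ _ _ fun a => fd_Lc C (hn a)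

include C hn in
theorem finrank_cw : finrank k (Tr (cw D n)) = ∏ a, dd D (n a) := by
  rw [Tr_cw C hn]
  exact @finrank_PT k α G _ _ _ _ _ fun a => fd_Lc C (hn a)

include C hn in
theorem pf_mem_cw {F : α → G → k} (h : ∀ a, F a ∈ Lc D (n a)) : pf F ∈ Tr (cw D n) := by
  rw [Tr_cw C hn]; exact pf_mem h

/-- slices -/
def slL (a : α) (g : α → G) : Tr (cw D n) →ₗ[k] Lc D (n a) :=
  ((sl a g).domRestrict _).codRestrict _ fun F => mem_PT.1 ((Tr_cw C hn).le F.2) a g

theorem slL_coe (a : α) (g : α → G) (F : Tr (cw D n)) : (slL C hn a g F).1 = sl a g F.1 := rfl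

theorem exists_slL (a : α) (F : Lc D (n a)) : ∃ w, slL C hn a 1 w = F := by
  refine ⟨⟨pf (Function.update (fun c => D.toFDat.cc (n c)) a F.1), pf_mem_cw C hn fun c => ?_⟩, Subtype.ext ?_⟩
  · by_cases h : c = a
    · subst h; rw [Function.update_self]; exact F.2
    · rw [Function.update_of_ne h]; exact self_mem_Tr _
  · rw [slL_coe, sl_pf, Function.update_self, Finset.prod_eq_one, one_smul]
    intro c hc
    rw [Function.update_of_ne (Finset.ne_of_mem_erase hc)]
    exact D.toFDat.cc_one _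

variable (D n) in
/-- the tensor product as a module for the product datum -/
structure PMod where
  H : HW (pw α D).R p k (Tr (cw D n))
  r : H.Rep (pw α D)
  ρ_eq : r.ρ = ρTr (cw D n)
  lam : H.lam = fun x => n x.1 x.2

include hn in
theorem exists_pmod (h0 : n ≠ 0) : Nonempty (PMod D n) := by
  obtain ⟨C'⟩ := boxHW p (α × ι) (α × Φ) k (α → G) (pw α D)
  have h1 : (fun x : α × ι => n x.1 x.2) ≠ 0 := fun h => h0 (funext fun a => funext fun i => congrFun h (a, i))
  have key : ∀ c, c = (pw α D).toFDat.cc (fun x => n x.1 x.2) → ∃ (H : HW (pw α D).R p k (Tr c)) (r : H.Rep (pw α D)),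
      r.ρ = ρTr c ∧ H.lam = fun x => n x.1 x.2 := by
    rintro _ rfl
    exact ⟨C'.H _ (fun x => hn x.1 x.2) h1, C'.rep _ _ _, C'.ρ_eq _ _ _, C'.lam _ _ _⟩
  obtain ⟨H, r, h2, h3⟩ := key _ (pw_cc D n).symm
  exact ⟨⟨H, r, h2, h3⟩⟩

theorem PMod.slL_E (P : PMod D n) (a : α) (g : α → G) (b : Φ) (v : Tr (cw D n)) :
    slL C hn a g (P.H.E (true, (a, b)) 1 v) = Eo C (n a) (hn a) b (slL C hn a g v) := by
  by_cases h0 : n a = 0
  · rw [Eo_zero C _ h0, E_triv P.r fun t => ?_, map_zero, LinearMap.zero_apply]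
    rw [P.ρ_eq]
    refine Subtype.ext (funext fun g => ?_)
    have h1 : sl a g v.1 ∈ Lc D 0 := h0 ▸ (slL C hn a g v).2
    have h2 := sl_RR_single a g (D.z b t) v.1
    rw [RR_Lc_zero h1] at h2
    exact (sl_self a g _).symm.trans ((congrFun h2 (g a)).trans (sl_self a g _))
  · rw [Eo_ne C _ h0]
    refine E_comp P.r (C.rep _ _ h0) (slL C hn a g) (fun t v => ?_) 1 v
    rw [P.ρ_eq, C.ρ_eq]
    exact Subtype.ext (sl_RR_single a g (D.z b t) v.1)

theorem fa_pw (hF : C.Fa) : (pw α D).Fa := by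
  rintro ⟨a, b⟩
  obtain ⟨ν, h, h0, h1⟩ := hF b
  have hn : ∀ c i, (Pi.single a ν : α → ι → ℕ) c i < p := fun c i => by
    by_cases hc : c = a
    · rw [hc, Pi.single_eq_same]; exact h i
    · rw [Pi.single_eq_of_ne hc]; exact hp.out.pos
  obtain ⟨P⟩ := exists_pmod (D := D) hn fun e => h0 (by simpa using congrFun e a)
  refine ⟨_, inferInstance, inferInstance, P.H, P.r, fun h2 => ?_⟩
  have key : ∀ ν', ν' = ν → ∀ h', Eo C ν' h' b ≠ 0 := by
    rintro _ rfl h'
    rwa [Eo_ne C h' h0]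
  refine key _ (by simp) (hn a) (LinearMap.ext fun F => ?_)
  obtain ⟨w, rfl⟩ := exists_slL C hn a F
  rw [← P.slL_E, h2, LinearMap.zero_apply, map_zero, LinearMap.zero_apply]

include hn in
theorem PMod.kerL_le (P : PMod D n) (S : Finset (α × Φ)) : finrank k (P.H.kerL S) ≤ ∏ a, C.u (n a) (part S a) := by
  have hf := fun a => fd_Lc C (hn a)
  have h1 : (P.H.kerL S).map (Tr (cw D n)).subtype ≤
      PT fun a => (⨅ b ∈ part S a, LinearMap.ker (Eo C (n a) (hn a) b)).map (Lc D (n a)).subtype := by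
    rintro _ ⟨v, hv, rfl⟩
    refine mem_PT.2 fun a g => ⟨slL C hn a g v, ?_, rfl⟩
    simp only [SetLike.mem_coe, Submodule.mem_iInf, LinearMap.mem_ker]
    intro b hb
    rw [← P.slL_E, P.H.mem_kerL.1 hv _ (mem_part.1 hb), map_zero]
  have := fd_PT fun a => (⨅ b ∈ part S a, LinearMap.ker (Eo C (n a) (hn a) b)).map (Lc D (n a)).subtype
  have h2 := Submodule.finrank_mono h1
  rw [Submodule.finrank_map_subtype_eq, finrank_PT] at h2
  simpa only [Submodule.finrank_map_subtype_eq, finrank_ker_Eo] using h2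

theorem PMod.fx_le (P : PMod D n) {B : Subgroup (α → G)} (hB : B ≤ (pw α D).U) :
    finrank k (fx P.r.ρ B) ≤ finrank k (P.H.kerOp ((pw α D).ld B)) := by
  have := P.H.fd
  have h := (boxDeg1 p _ _ k _ (pw α D)).ker _ P.H P.r B hB 1 P.H.lev_one 1 (one_mem _)
  exact (Submodule.finrank_mono (le_inf le_rfl fun v _ => by simp only [_root_.map_one, _root_.mul_one, _root_.LinearMap.mem_ker, _root_.LinearMap.sub_apply, _root_.Module.End.one_apply, _root_.sub_self])).trans (h.trans (Submodule.finrank_mono inf_le_left))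

/-! ### the finite group -/

variable {T S : Type} [Group T] [Finite T] [Group S] (M : Std D T S)

/-- the graph part of `aut γ j` in position `a` -/
def dl (γ : M.Gr) (j : ℕ) (a : Fin M.f) : M.Gr := γ * (M.σ ^ ((a + j) / M.f))⁻¹

theorem aut_ms (γ : M.Gr) (j : ℕ) (c : Fin M.f) (x : G) :
    M.aut γ j (ms c x) = ms ((M.rot j).symm c) (M.gr (dl M γ j ((M.rot j).symm c)) x) := by
  funext a
  rw [M.aut_apply, ← M.rot_apply]
  by_cases h : a = (M.rot j).symm c
  · subst h; rw [Equiv.apply_symm_apply, ms_self, ms_self, dl]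
  · rw [ms_ne h, ms_ne fun e => h (by rw [← e, Equiv.symm_apply_apply]), map_one]

/-- the permutation of the roots -/
noncomputable def θΦ (γ : M.Gr) (j : ℕ) : Equiv.Perm (Fin M.f × Φ) :=
  Equiv.prodShear (M.rot j).symm fun c => M.gΦ (dl M γ j ((M.rot j).symm c))

/-- the endomorphism of `G ^ f` which fixes `T` -/
def Th : (Fin M.f → G) →* (Fin M.f → G) := (M.aut M.σ (M.f - 1)).comp (M.Fr.compLeft (Fin M.f))

theorem Th_ΦT (s : T) : Th M (M.ΦT s) = M.ΦT s := by
  obtain ⟨s', h⟩ := M.φ_Fr s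
  have h1 : M.Fr.compLeft (Fin M.f) (M.ΦT s) = M.ΦT s' := funext fun a => by
    show M.Fr (M.ΦT s a) = _
    rw [M.ΦT_apply, M.ΦT_apply, h, ← Function.iterate_succ_apply' M.Fr, Function.iterate_succ_apply]
  rw [Th, MonoidHom.comp_apply, h1]
  refine M.aut_ΦT _ _ ?_
  rw [h, ← Function.iterate_succ_apply, Nat.succ_eq_add_one, Nat.sub_add_cancel M.f_pos, M.φ_fix]

theorem Th_Tw : (pw (Fin M.f) D).Tw 1 (Th M) (θΦ M M.σ (M.f - 1))
    fun y => M.ε (dl M M.σ (M.f - 1) ((M.rot (M.f - 1)).symm y.1)) y.2 where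
  z := by
    rintro ⟨c, b⟩ t
    have h1 : M.Fr.compLeft (Fin M.f) (ms c (D.z b t)) = ms c (D.z b (t ^ p)) := funext fun a => by
      show M.Fr (ms c (D.z b t) a) = _
      by_cases h : a = c
      · rw [h, ms_self, ms_self, M.Fr_z]
      · rw [ms_ne h, ms_ne h, map_one]
    rw [pw_z, Th, MonoidHom.comp_apply, h1, aut_ms, M.gr_z', pow_one]
    rfl
  ht := by
    rintro ⟨c, b⟩
    exact M.ht_gr _ _

theorem ΦT_inj : Function.Injective M.ΦT := fun s s' h => M.φ_inj (by
  have h1 := congrFun h ⟨0, M.f_pos⟩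
  rwa [M.ΦT_apply, M.ΦT_apply] at h1)

theorem ΦT_U {u : T} (hu : u ∈ M.E.U) : M.ΦT u ∈ (pw (Fin M.f) D).U := mem_pw_U D fun a => by
  have h := M.tw_U 1 a (M.φ_U hu)
  rwa [M.tw_apply, M.gr_one, ← M.ΦT_apply] at h

theorem map_le_U {B : Subgroup T} (hB : B ≤ M.E.U) : B.map M.ΦT ≤ (pw (Fin M.f) D).U := by
  rintro _ ⟨u, hu, rfl⟩
  exact ΦT_U M (hB hu)

theorem card_le (hF : C.Fa) {B : Subgroup T} (hB : B ≤ M.E.U) :
    Nat.card B ≤ p ^ finrank k ((pw (Fin M.f) D).ld (B.map M.ΦT)) := by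
  have h := ((boxDeg1 p _ _ k _ (pw (Fin M.f) D)).card (fa_pw C hF) 1 _ _ _ (Th_Tw M) one_pos _ (map_le_U M hB) 1
    (one_mem _) (by rintro _ ⟨s, -, rfl⟩; rw [Th_ΦT, one_mul, inv_one, mul_one])).2
  rwa [one_mul, Subgroup.card_map_of_injective (ΦT_inj M)] at h

theorem PMod.finrank_fxW {n : Fin M.f → ι → ℕ} (P : PMod D n) (B : Subgroup T) :
    finrank k (M.fxW n B) = finrank k (fx P.r.ρ (B.map M.ΦT)) := by
  have h : fx (M.ρW n) B = fx (ρTr (cw D n)) (B.map M.ΦT) :=
    Submodule.ext fun F => ⟨by rintro h _ ⟨b, hb, rfl⟩; exact h b hb, fun h b hb => h _ ⟨b, hb, rfl⟩⟩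
  rw [← M.finrank_fxW, P.ρ_eq, h]
  rfl

include C in
theorem finrank_fxW_zero (B : Subgroup T) : finrank k (M.fxW 0 B) ≤ 1 := by
  have hn : ∀ a i, (0 : Fin M.f → ι → ℕ) a i < p := fun _ _ => hp.out.pos
  have : FiniteDimensional k (M.Wc 0) := fd_cw C hn
  refine (Submodule.finrank_mono (inf_le_left : M.fxW 0 B ≤ M.Wc 0)).trans ((finrank_cw C hn).trans ?_).le
  exact Finset.prod_eq_one fun a _ => dd_zero D

theorem line (hF : C.Fa) {n : Fin M.f → ι → ℕ} (hn : ∀ a i, n a i < p) :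
    M.fxW n M.E.U ≤ Submodule.span k {M.cP n} := by
  have : FiniteDimensional k (M.Wc n) := fd_cw C hn
  have : FiniteDimensional k (M.fxW n M.E.U) := Submodule.finiteDimensional_of_le (inf_le_left : _ ≤ M.Wc n)
  have h1 : finrank k (M.fxW n M.E.U) ≤ 1 := by
    by_cases h0 : n = 0
    · subst h0; exact finrank_fxW_zero C M _
    obtain ⟨P⟩ := exists_pmod (D := D) hn h0
    have := P.H.fd
    have h2 := card_le C M hF le_rfl
    rw [M.card_U, ← pow_mul, Nat.pow_le_pow_iff_right hp.out.one_lt] at h2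
    have h3 : (pw (Fin M.f) D).ld (M.E.U.map M.ΦT) = ⊤ := Submodule.eq_top_of_finrank_eq (le_antisymm
      (Submodule.finrank_le _) (by rwa [Module.finrank_fintype_fun_eq_card, Fintype.card_prod, Fintype.card_fin]))
    rw [P.finrank_fxW M, ← P.H.top]
    refine (P.fx_le (map_le_U M le_rfl)).trans (Submodule.finrank_mono fun v hv => P.H.curtis v fun b => ?_)
    have h4 := P.H.mem_kerOp.1 hv (Pi.single b 1) (by rw [h3]; trivial)
    rwa [P.H.op_single, one_smul] at h4
  refine (Submodule.eq_of_le_of_finrank_le ?_ ?_).ge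
  · rw [Submodule.span_singleton_le_iff_mem]
    exact ⟨self_mem_Tr _, fun u hu => funext fun g => M.cP_U n hu g⟩
  · rwa [finrank_span_singleton fun h => one_ne_zero ((M.cP_one n).symm.trans (congrFun h 1))]

theorem inner (hF : C.Fa) (B : Subgroup T) (hB : B ≤ M.E.U) (hc : ∀ x ∈ B, ∀ y ∈ B, x * y = y * x) :
    ∃ Sg : Fin M.f → Finset Φ, Nat.card B ≤ p ^ ∑ a, (Sg a).card ∧ (∀ a, D.R.Ab p (Sg a) ∧ D.R.Idl p (Sg a)) ∧
      ∀ n ∈ M.pats, finrank k (M.fxW n B) ≤ ∏ a, C.u (n a) (Sg a) := by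
  obtain ⟨S, h1, h2, h3, h4⟩ := (boxDeg2 p _ _ k _ (pw (Fin M.f) D) (fa_pw C hF)).idl _
    ((boxDeg1 p _ _ k _ (pw (Fin M.f) D)).com _ (map_le_U M hB) (by
      rintro _ ⟨x, hx, rfl⟩ _ ⟨y, hy, rfl⟩
      rw [← map_mul, hc x hx y hy, map_mul]))
  refine ⟨part S, (card_le C M hF hB).trans (Nat.pow_le_pow_right hp.out.pos (h1.ge.trans (card_part S))),
    fun a => ⟨part_ab D.R h2 a, part_idl D.R h3 a⟩, fun n hn => ?_⟩
  by_cases h0 : n = 0
  · subst h0
    exact (finrank_fxW_zero C M B).trans (Finset.prod_eq_one fun a _ => C.u_zero _).ge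
  obtain ⟨P⟩ := exists_pmod (D := D) (M.mem_pats.1 hn) h0
  rw [P.finrank_fxW M]
  exact (P.fx_le (map_le_U M hB)).trans ((h4 _ P.H P.r).trans (P.kerL_le C (M.mem_pats.1 hn) S))

end Cfsg.Agent.TwoF.DC.Pw
end

-- part: TwoF/DC/Pow/One
section
/-!
# TwoF, defining characteristic, TH3c (4): one and two tensor factors (helper33)
-/

set_option autoImplicit false
set_option linter.unusedSectionVars false
set_option linter.unusedVariables false

namespace Cfsg.Agent.TwoF.DC.Pw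

open Module Finset Cfsg.Agent.H45.Uni Cfsg.Agent.H45.UniE Cfsg.Agent.TwoF.Gen

theorem ring_k1 {R : Type} [Ring R] {a b a' b' : R} (h1 : a * a' = 0) (h2 : b * b' = 0) (h3 : b * a' = a' * b) :
    a * b * (a' + b' + a' * b') = 0 := by
  have e : a * b * (a' + b' + a' * b') = a * (b * a') + a * (b * b') + a * (b * a') * b' := by noncomm_ring
  rw [e, h2, h3, ← mul_assoc, h1]
  simp

theorem ring_k2 {R : Type} [Ring R] {a b a' b' : R} (h1 : a * a' = 0) (h2 : b * b' = 0) (h3 : b * a' = a' * b) :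
    (a + b + a * b) * (a' + b' + a' * b') = a * b' + a' * b := by
  have e : (a + b + a * b) * (a' + b' + a' * b') =
      a * a' + a * b' + a * a' * b' + b * a' + b * b' + b * a' * b' + a * b * (a' + b' + a' * b') := by noncomm_ring
  rw [e, ring_k1 h1 h2 h3, h1, h2, h3, mul_assoc a' b b', h2]
  simp

theorem cub_of_two {k V T : Type} [Field k] [AddCommGroup V] [Module k V] [Group T] (ρ : Representation k T V)
    (B : Subgroup T) (a b : T → Module.End k V) (hρ : ∀ x, ρ x = a x * b x) (hc : ∀ x y, Commute (b x) (a y))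
    (ha : ∀ x ∈ B, ∀ y ∈ B, (a x - 1) * (a y - 1) = 0) (hb : ∀ x ∈ B, ∀ y ∈ B, (b x - 1) * (b y - 1) = 0) :
    Cub ρ B := by
  have h1 : ∀ x, ρ x - 1 = (a x - 1) + (b x - 1) + (a x - 1) * (b x - 1) := fun x => by rw [hρ]; noncomm_ring
  have h2 : ∀ x y, (b x - 1) * (a y - 1) = (a y - 1) * (b x - 1) := fun x y =>
    (((hc x y).sub_right (Commute.one_right _)).sub_left (Commute.one_left _)).eq
  intro x hx y hy z hz
  rw [h1, h1, h1, ring_k2 (ha x hx y hy) (hb x hx y hy) (h2 x y), add_mul, ring_k1 (ha x hx z hz) (hb y hy z hz) (h2 y z),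
    ring_k1 (ha y hy z hz) (hb x hx z hz) (h2 x z), add_zero]

theorem Tr_comp_surj {k G G' : Type} [Field k] [Group G] [Group G'] (π : G' →* G) (hπ : Function.Surjective π)
    (c : G → k) : Tr (c ∘ π) = (Tr c).map (LinearMap.funLeft k k π) := by
  rw [Tr, Tr, Submodule.map_span, ← Set.range_comp]
  congr 1
  ext F
  constructor
  · rintro ⟨h, rfl⟩
    exact ⟨π h, funext fun g => by simp [LinearMap.funLeft_apply, RR_apply]⟩
  · rintro ⟨h, rfl⟩
    obtain ⟨h, rfl⟩ := hπ h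
    exact ⟨h, funext fun g => by simp only [LinearMap.funLeft_apply, RR_apply, _root_.Function.comp_apply, _root_.map_mul]⟩

theorem finrank_fx_Tr {k G T : Type} [Field k] [Group G] [Group T] (c : G → k) (ψ : T →* G) (B : Subgroup T) :
    finrank k (fx (ρTr c) (B.map ψ)) = finrank k ↥(Tr c ⊓ fx (k := k) ((RRep (k := k) (G := G)).comp ψ) B) := by
  rw [← Submodule.finrank_map_subtype_eq]
  have h : (fx (ρTr c) (B.map ψ)).map (Tr c).subtype = Tr c ⊓ fx (k := k) ((RRep (k := k) (G := G)).comp ψ) B :=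
    Submodule.ext fun F => ⟨by
      rintro ⟨F, h, rfl⟩
      exact ⟨F.2, fun b hb => congrArg Subtype.val (h _ ⟨b, hb, rfl⟩)⟩, fun h => ⟨⟨F, h.1⟩, by
        rintro _ ⟨b, hb, rfl⟩
        exact Subtype.ext (h.2 b hb), rfl⟩⟩
  rw [h]

variable {p : ℕ} [hp : Fact p.Prime] {α ι Φ k G : Type} [Fintype α] [DecidableEq α] [Fintype ι] [DecidableEq ι]
  [Fintype Φ] [DecidableEq Φ] [Field k] [IsAlgClosed k] [CharP k p] [Group G] {D : RDat p ι Φ k G} (C : Can D)

theorem cw_dep {n : α → ι → ℕ} {s : Set α} (hs : ∀ c, c ∉ s → n c = 0) {F : (α → G) → k} (hF : F ∈ Tr (cw D n)) :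
    ∀ g g' : α → G, (∀ c ∈ s, g c = g' c) → F g = F g' := by
  induction hF using Submodule.span_induction with
  | mem F hF =>
    obtain ⟨h, rfl⟩ := hF
    refine fun g g' hg => Finset.prod_congr rfl fun c _ => ?_
    by_cases hc : c ∈ s
    · rw [Pi.mul_apply, Pi.mul_apply, hg c hc]
    · simp only [hs c hc, FDat.cc, _root_.Pi.mul_apply, _root_.Pi.zero_apply, _root_.pow_zero, _root_.Finset.prod_const_one]
  | zero => exact fun _ _ _ => rfl
  | add F F' _ _ h1 h2 => exact fun g g' hg => by rw [Pi.add_apply, Pi.add_apply, h1 g g' hg, h2 g g' hg]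
  | smul a F _ h1 => exact fun g g' hg => by rw [Pi.smul_apply, Pi.smul_apply, h1 g g' hg]

/-- functions of one variable -/
def ev (a : α) : (G → k) →ₗ[k] ((α → G) → k) := LinearMap.funLeft k k (Pi.evalMonoidHom (fun _ => G) a)

theorem ev_apply (a : α) (F : G → k) (g : α → G) : ev a F g = F (g a) := rfl

theorem sl_ev (a : α) (g : α → G) (F : G → k) : sl a g (ev a F) = F := funext fun x => by
  rw [sl_apply, ev_apply, Function.update_self]

theorem ev_inj (a : α) : Function.Injective (ev (k := k) (G := G) a) := fun F F' h => by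
  rw [← sl_ev a 1 F, h, sl_ev]

theorem Tr_single (a : α) (ν : ι → ℕ) : Tr (cw D (Pi.single a ν)) = (Lc D ν).map (ev a) := by
  have h : cw D (Pi.single a ν) = D.toFDat.cc ν ∘ Pi.evalMonoidHom (fun _ => G) a := funext fun g => by
    rw [cw, pf_apply, Finset.prod_eq_single a (fun c _ hc => by simp only [hc, FDat.cc, _root_.ne_eq, _root_.not_false_eq_true, _root_.Pi.single_eq_of_ne, _root_.Pi.zero_apply, _root_.pow_zero, _root_.Finset.prod_const_one]) fun h => (h (mem_univ _)).elim,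
      Pi.single_eq_same]
    rfl
  rw [h]
  exact Tr_comp_surj _ (fun x => ⟨fun _ => x, rfl⟩) _

variable {T S : Type} [Group T] [Finite T] [Group S] (M : Std D T S)

theorem Fr_surj : Function.Surjective M.Fr := by
  rw [← MonoidHom.range_eq_top, eq_top_iff, ← D.gen, Subgroup.closure_le]
  rintro _ ⟨i, s, rfl | rfl⟩
  · obtain ⟨t, rfl⟩ := IsAlgClosed.exists_pow_nat_eq s hp.out.pos
    exact ⟨_, M.Fr_x i t⟩
  · obtain ⟨t, rfl⟩ := IsAlgClosed.exists_pow_nat_eq s hp.out.pos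
    exact ⟨_, M.Fr_y i t⟩

theorem FrP_surj (a : ℕ) : Function.Surjective (M.FrP a) := fun g => by
  obtain ⟨x, rfl⟩ := (Fr_surj M).iterate a g
  exact ⟨x, M.FrP_apply a x⟩

/-- the Frobenius twist of functions -/
noncomputable def tf (a : ℕ) : (G → k) →+ (G → k) where
  toFun F g := (iterateFrobeniusEquiv k p a).symm (F (M.FrP a g))
  map_zero' := funext fun g => map_zero _
  map_add' F F' := funext fun g => map_add _ _ _

theorem tf_apply (a : ℕ) (F : G → k) (g : G) : tf M a F g = (iterateFrobeniusEquiv k p a).symm (F (M.FrP a g)) := rfl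

theorem tf_smul (a : ℕ) (c : k) (F : G → k) : tf M a (c • F) = (iterateFrobeniusEquiv k p a).symm c • tf M a F :=
  funext fun g => map_mul (iterateFrobeniusEquiv k p a).symm c (F (M.FrP a g))

theorem tf_inj (a : ℕ) : Function.Injective (tf M a) := fun F F' h => funext fun g => by
  obtain ⟨x, rfl⟩ := FrP_surj M a g
  exact (iterateFrobeniusEquiv k p a).symm.injective (congrFun h x)

theorem tf_RR (a : ℕ) (h : G) (F : G → k) : tf M a (RR (M.FrP a h) F) = RR h (tf M a F) := funext fun g => by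
  rw [tf_apply, RR_apply, RR_apply, tf_apply, map_mul]

theorem tf_D (a : ℕ) (h : G) (F : G → k) : tf M a (RR (M.FrP a h) F - F) = RR h (tf M a F) - tf M a F := by
  rw [map_sub, tf_RR]

theorem tf_cc (a : ℕ) (ν : ι → ℕ) : tf M a (D.toFDat.cc ν) = D.toFDat.cc ν := funext fun g => by
  rw [tf_apply, RingEquiv.symm_apply_eq, iterateFrobeniusEquiv_def, FDat.cc, FDat.cc, ← Finset.prod_pow]
  exact Finset.prod_congr rfl fun i _ => by rw [M.FrP_apply, M.Δ_iter, ← pow_mul, ← pow_mul, mul_comm]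

theorem tf_mem (a : ℕ) {ν : ι → ℕ} {F : G → k} (hF : F ∈ Lc D ν) : tf M a F ∈ Lc D ν := by
  induction hF using Submodule.span_induction with
  | mem F hF =>
    obtain ⟨h, rfl⟩ := hF
    obtain ⟨h, rfl⟩ := FrP_surj M a h
    rw [tf_RR, tf_cc]
    exact mem_Tr _ _
  | zero => rw [map_zero]; exact Submodule.zero_mem _
  | add F F' _ _ h1 h2 => rw [map_add]; exact Submodule.add_mem _ h1 h2
  | smul c F _ h1 => rw [tf_smul]; exact Submodule.smul_mem _ _ h1

theorem tf_surj (a : ℕ) {ν : ι → ℕ} {F : G → k} (hF : F ∈ Lc D ν) : ∃ F' ∈ Lc D ν, tf M a F' = F := by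
  induction hF using Submodule.span_induction with
  | mem F hF =>
    obtain ⟨h, rfl⟩ := hF
    exact ⟨_, mem_Tr _ (M.FrP a h), by rw [tf_RR, tf_cc]⟩
  | zero => exact ⟨0, Submodule.zero_mem _, map_zero _⟩
  | add F F' _ _ h1 h2 =>
    obtain ⟨u, hu, rfl⟩ := h1
    obtain ⟨v, hv, rfl⟩ := h2
    exact ⟨u + v, Submodule.add_mem _ hu hv, map_add _ _ _⟩
  | smul c F _ h1 =>
    obtain ⟨u, hu, rfl⟩ := h1
    exact ⟨iterateFrobeniusEquiv k p a c • u, Submodule.smul_mem _ _ hu, by rw [tf_smul, RingEquiv.symm_apply_apply]⟩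

theorem tf_Xi (a : ℕ) (γ : M.Gr) (x : G) (F : G → k) :
    tf M a (Xi (M.gr γ).toMonoidHom (M.FrP a x) F) = Xi (M.gr γ).toMonoidHom x (tf M a F) := funext fun g => by
  rw [tf_apply, Xi_apply, Xi_apply, tf_apply, map_mul, map_inv]
  congr 3
  rw [M.FrP_apply, M.FrP_apply]
  exact M.gr_iter γ a g

theorem finrank_tf (a : ℕ) {ν : ι → ℕ} {N N' : Submodule k (G → k)} (hN : N ≤ Lc D ν) (hN' : N' ≤ Lc D ν)
    (h : ∀ F ∈ Lc D ν, F ∈ N ↔ tf M a F ∈ N') : finrank k N = finrank k N' :=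
  finrank_eq_semi (iterateFrobeniusEquiv k p a).symm.bijective (tf M a) (tf_smul M a)
    (fun v _ h0 => tf_inj M a (h0.trans (map_zero _).symm)) (fun v hv => (h v (hN hv)).1 hv) fun w hw => by
      obtain ⟨v, hv, rfl⟩ := tf_surj M a (hN' hw)
      exact ⟨v, (h v hv).2 hw, rfl⟩

theorem tf_fx (a : ℕ) (B : Subgroup T) (F : G → k) :
    F ∈ fx (k := k) ((RRep (k := k) (G := G)).comp ((M.FrP a).comp M.φ)) B ↔
      tf M a F ∈ fx (k := k) ((RRep (k := k) (G := G)).comp M.φ) B :=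
  forall₂_congr fun b hb => (tf_inj M a).eq_iff.symm.trans (by
    rw [show ((RRep (k := k) (G := G)).comp ((M.FrP a).comp M.φ)) b F = RR (M.FrP a (M.φ b)) F from rfl, tf_RR]
    rfl)

/-- the fixed vectors in position `a` -/
def Kx (a : ℕ) (ν : ι → ℕ) (B : Subgroup T) : Submodule k (G → k) :=
  Lc D ν ⊓ fx (k := k) ((RRep (k := k) (G := G)).comp ((M.FrP a).comp M.φ)) B

theorem finrank_Kx (a : ℕ) (ν : ι → ℕ) (B : Subgroup T) :
    finrank k (Kx M a ν B) = finrank k (fx (ρc D ν) (B.map M.φ)) := by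
  rw [finrank_fx_Tr]
  exact finrank_tf M a inf_le_left inf_le_left fun F hF =>
    ⟨fun h => ⟨tf_mem M a hF, (tf_fx M a B F).1 h.2⟩, fun h => ⟨hF, (tf_fx M a B F).2 h.2⟩⟩

theorem fxW_single (a : Fin M.f) (ν : ι → ℕ) (B : Subgroup T) : M.fxW (Pi.single a ν) B = (Kx M a ν B).map (ev a) := by
  refine Submodule.ext fun F => ⟨fun h => ?_, ?_⟩
  · obtain ⟨F, hF, rfl⟩ := (Tr_single a ν).le h.1
    exact ⟨F, ⟨hF, fun b hb => ev_inj a (h.2 b hb)⟩, rfl⟩
  · rintro ⟨F, h, rfl⟩
    exact ⟨(Tr_single a ν).ge ⟨F, h.1, rfl⟩, fun b hb => congrArg (ev a) (h.2 b hb)⟩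

theorem Xi_ev (a : Fin M.f) (γ : M.Gr) (x : Fin M.f → G) (F : G → k) :
    Xi (M.aut γ 0) x (ev a F) = ev a (Xi (M.gr γ).toMonoidHom (x a) F) := funext fun g => by
  rw [Xi_apply, ev_apply, ev_apply, Xi_apply, Pi.mul_apply, M.aut_apply, add_zero, Nat.div_eq_of_lt a.2, pow_zero,
    inv_one, mul_one, M.pos_val]
  rfl

theorem single (a : Fin M.f) (ν : ι → ℕ) (B : Subgroup T) :
    finrank k (M.fxW (Pi.single a ν) B) = finrank k (fx (ρc D ν) (B.map M.φ)) ∧
    (Cub (ρc D ν) (B.map M.φ) → Cub (M.ρW (Pi.single a ν)) B) ∧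
    ∀ (u : T) (γ : M.Gr), Commute γ M.σ → finrank k (M.fxX (Pi.single a ν) B u γ 0) = finrank k (M.fxG ν B u γ) := by
  refine ⟨?_, fun h x hx y hy z hz => LinearMap.ext fun v => Subtype.ext ?_, fun u γ _ => ?_⟩
  · rw [fxW_single, ← (Submodule.equivMapOfInjective _ (ev_inj a) _).finrank_eq, finrank_Kx]
  · obtain ⟨F, hF, e⟩ := (Tr_single a ν).le v.2
    have h1 := congrArg Subtype.val (DFunLike.congr_fun (h _ ⟨x, hx, rfl⟩ _ ⟨y, hy, rfl⟩ _ ⟨z, hz, rfl⟩)
      ⟨_, tf_mem M a hF⟩)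
    have h2 : ∀ (s : T) (F : G → k), (RR (M.φ s) - 1 : Module.End k (G → k)) (tf M a F) =
        tf M a ((RR (M.FrP a (M.φ s)) - 1 : Module.End k (G → k)) F) := fun s F => (tf_D M a _ F).symm
    change (RR (M.φ x) - 1 : Module.End k (G → k)) ((RR (M.φ y) - 1 : Module.End k (G → k))
      ((RR (M.φ z) - 1 : Module.End k (G → k)) (tf M a F))) = 0 at h1
    rw [h2, h2, h2] at h1
    have h3 := congrArg (ev a) (tf_inj M a (h1.trans (map_zero _).symm))
    change (RR (M.ΦT x) - 1 : Module.End k _) ((RR (M.ΦT y) - 1 : Module.End k _)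
      ((RR (M.ΦT z) - 1 : Module.End k _) v.1)) = 0
    rw [← e]
    exact h3
  · have h1 : M.fxX (Pi.single a ν) B u γ 0 =
        (Kx M a ν B ⊓ LinearMap.ker (Xi (M.gr γ).toMonoidHom (M.FrP a (M.φ u)) - 1)).map (ev a) := by
      have h2 : ∀ F : G → k, ev a F ∈ LinearMap.ker (Xi (M.aut γ 0) (M.ΦT u) - 1) ↔
          F ∈ LinearMap.ker (Xi (M.gr γ).toMonoidHom (M.FrP a (M.φ u)) - 1) := fun F => by
        rw [LinearMap.mem_ker, LinearMap.mem_ker, LinearMap.sub_apply, LinearMap.sub_apply, sub_eq_zero, sub_eq_zero,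
          Xi_ev]
        exact (ev_inj a).eq_iff
      rw [Std.fxX, fxW_single]
      refine Submodule.ext fun F => ⟨?_, ?_⟩
      · rintro ⟨⟨F, hF, rfl⟩, h⟩
        exact ⟨F, ⟨hF, (h2 F).1 h⟩, rfl⟩
      · rintro ⟨F, h, rfl⟩
        exact ⟨⟨F, h.1, rfl⟩, (h2 F).2 h.2⟩
    rw [h1, ← (Submodule.equivMapOfInjective _ (ev_inj a) _).finrank_eq]
    have h3 : ∀ F : G → k, F ∈ LinearMap.ker (Xi (M.gr γ).toMonoidHom (M.FrP a (M.φ u)) - 1) ↔
        tf M a F ∈ LinearMap.ker (Xi (M.gr γ).toMonoidHom (M.φ u) - 1) := fun F => by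
      rw [LinearMap.mem_ker, LinearMap.mem_ker, LinearMap.sub_apply, LinearMap.sub_apply, sub_eq_zero, sub_eq_zero,
        ← tf_Xi]
      exact (tf_inj M a).eq_iff.symm
    exact finrank_tf M a (inf_le_left.trans inf_le_left) (inf_le_left.trans inf_le_left) fun F hF =>
      ⟨fun h => ⟨⟨tf_mem M a hF, (tf_fx M a B F).1 h.1.2⟩, (h3 F).1 h.2⟩,
        fun h => ⟨⟨hF, (tf_fx M a B F).2 h.1.2⟩, (h3 F).2 h.2⟩⟩

include C in
theorem prod_le_fxW {n : Fin M.f → ι → ℕ} (hn : ∀ a i, n a i < p) (B : Subgroup T) :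
    ∏ a : Fin M.f, finrank k (Kx M a (n a) B) ≤ finrank k (M.fxW n B) := by
  have : ∀ a : Fin M.f, FiniteDimensional k (Kx M a (n a) B) := fun a =>
    @Submodule.finiteDimensional_of_le _ _ _ _ _ _ _ (fd_Lc C (hn a)) inf_le_left
  have : FiniteDimensional k (M.Wc n) := fd_cw C hn
  have : FiniteDimensional k (M.fxW n B) := Submodule.finiteDimensional_of_le (inf_le_left : _ ≤ M.Wc n)
  rw [← finrank_PT]
  refine Submodule.finrank_mono (PT_le fun F hF => ⟨pf_mem_cw C hn fun a => (hF a).1, fun b hb => ?_⟩)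
  exact congrArg pf (funext fun a => (hF a).2 b hb)

include C in
theorem double (a a' : Fin M.f) (hne : a ≠ a') (ν : ι → ℕ) (hν : ∀ i, ν i < p) (B : Subgroup T) :
    finrank k (fx (ρc D ν) (B.map M.φ)) ^ 2 ≤ finrank k (M.fxW (Pi.single a ν + Pi.single a' ν) B) ∧
    ((∀ x ∈ B, ∀ y ∈ B, (ρc D ν (M.φ x) - 1) * (ρc D ν (M.φ y) - 1) = 0) →
      Cub (M.ρW (Pi.single a ν + Pi.single a' ν)) B) := by
  generalize hm : (Pi.single a ν + Pi.single a' ν : Fin M.f → ι → ℕ) = n
  have h1 : n a = ν := by simp [← hm, hne]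
  have h2 : n a' = ν := by simp [← hm, hne.symm]
  have h3 : ∀ c, c ≠ a ∧ c ≠ a' → n c = 0 := fun c hc => by simp [← hm, hc.1, hc.2]
  have hn : ∀ c i, n c i < p := fun c i => by
    by_cases h : c = a
    · rw [h, h1]; exact hν i
    by_cases h' : c = a'
    · rw [h', h2]; exact hν i
    · rw [h3 c ⟨h, h'⟩]; exact hp.out.pos
  constructor
  · refine le_trans (le_of_eq ?_) (prod_le_fxW C M hn B)
    rw [Finset.prod_eq_mul a a' hne (fun c _ hc => ?_) (fun h => (h (mem_univ _)).elim) fun h => (h (mem_univ _)).elim,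
      h1, h2, finrank_Kx, finrank_Kx, sq]
    rw [h3 c hc, show Kx M c 0 B = Lc D 0 from inf_eq_left.2 fun F hF b _ => RR_Lc_zero hF _]
    exact dd_zero D
  · intro hq
    let A : Fin M.f → T → Module.End k (Tr (cw D n)) := fun c x => ρTr (cw D n) (ms c (M.FrP c (M.φ x)))
    have hA : ∀ c, n c = ν → ∀ x ∈ B, ∀ y ∈ B, (A c x - 1) * (A c y - 1) = 0 := fun c hc x hx y hy => by
      refine LinearMap.ext fun v => Subtype.ext (funext fun g => ?_)
      have h4 : sl c g v.1 ∈ Lc D ν := hc ▸ (slL C hn c g v).2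
      have h5 := congrArg Subtype.val (DFunLike.congr_fun (hq x hx y hy) ⟨_, tf_mem M c h4⟩)
      change RR (M.φ x) (RR (M.φ y) (tf M c _) - tf M c _) - (RR (M.φ y) (tf M c _) - tf M c _) = 0 at h5
      rw [← tf_D, ← tf_D] at h5
      have h6 := tf_inj M c (h5.trans (map_zero _).symm)
      rw [← sl_RR_single, ← map_sub, ← sl_RR_single, ← map_sub] at h6
      exact (sl_self c g _).symm.trans (congrFun h6 (g c))
    refine cub_of_two _ B (A a) (A a') (fun x => ?_) (fun x y => ?_) (hA a h1) (hA a' h2)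
    · refine Eq.trans ?_ ((map_mul (ρTr (cw D n)) _ _ :))
      refine LinearMap.ext fun v => Subtype.ext (funext fun g => ?_)
      refine cw_dep (s := {c | ¬ (c ≠ a ∧ c ≠ a')}) (fun c hc => h3 c (not_not.1 hc)) v.2 _ _ fun c hc => ?_
      rw [Pi.mul_apply, Pi.mul_apply, Pi.mul_apply]
      by_cases h : c = a
      · rw [h, ms_self, ms_ne hne, mul_one]; rfl
      · have h' : c = a' := by_contra fun h' => hc ⟨h, h'⟩
        rw [h', ms_self, ms_ne hne.symm, one_mul]; rfl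
    · exact ((map_mul (ρTr (cw D n)) _ _).symm.trans ((congrArg _ (ms_comm hne.symm _ _)).trans (map_mul _ _ _)) :)

end Cfsg.Agent.TwoF.DC.Pw
end

private theorem dce_59f8932b5983 : _root_.True := by
  try have : _root_.True := by simp only [_root_.Cfsg.Agent.TwoF.DC.Pw.part.eq_1]
  try have : _root_.True := by simp only [_root_.Cfsg.Agent.TwoF.DC.Pw.Lam.eq_1]
  try have : _root_.True := by simp only [_root_.Cfsg.Agent.TwoF.DC.Pw.rc.eq_1]
  try have : _root_.True := by simp only [_root_.Cfsg.Agent.TwoF.DC.RC.mk.congr_simp]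
  try have : _root_.True := by simp only [_root_.Cfsg.Agent.TwoF.DC.Pw.Th.eq_1]
  try have : _root_.True := by simp only [_root_.Cfsg.Agent.TwoF.DC.Pw.slL.congr_simp]
  try have : _root_.True := by simp only [_root_.Cfsg.Agent.TwoF.DC.Pw.dl.eq_1]
  try have : _root_.True := by simp only [_root_.Cfsg.Agent.TwoF.DC.Pw.li.eq_1]
  try have : _root_.True := by simp only [_root_.Cfsg.Agent.TwoF.DC.Pw.lam.eq_1]
  try have : _root_.True := by simp only [_root_.Cfsg.Agent.TwoF.DC.Pw.Eo.congr_simp]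
  try have : _root_.True := by simp only [_root_.Cfsg.Agent.TwoF.DC.Pw.cw.eq_1]
  try have : _root_.True := by simp only [_root_.Cfsg.Agent.TwoF.DC.Pw.li.congr_simp]
  try have : _root_.True := by simp only [_root_.Cfsg.Agent.TwoF.DC.Pw.PT.eq_1]
  try have : _root_.True := by simp only [_root_.Cfsg.Agent.TwoF.DC.Std.fxX.eq_1]
  try have : _root_.True := by simp only [_root_.Cfsg.Agent.TwoF.DC.Pw.part.congr_simp]
  exact _root_.True.intro
end

-- part: TwoF/DC/Pow/Main
section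
prune_inst 0x14203544156202000019009221003c26f0000400000b880000a007060e41ac220d4366610c000410080200800804000002100030c000000000000000000401000010140411400c0006008e000000000000000000000000000000000000000004000000000
set_option linter.all false
open scoped Cfsg.Agent.FastGrp

/-!
# TwoF, defining characteristic, TH3c (5): field automorphisms, `BoxPow` (helper33)
-/

set_option autoImplicit false
set_option linter.unusedSectionVars false
set_option linter.unusedVariables false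
set_option maxHeartbeats 400000

namespace Cfsg.Agent.TwoF.DC.Pw

open Module Finset Cfsg.Agent.H45.Uni Cfsg.Agent.H45.UniE Cfsg.Agent.TwoF.Gen

section gen

variable {p : ℕ} {ι Φ k G L : Type} [Fintype ι] [DecidableEq ι] [Fintype Φ] [DecidableEq Φ] [Field k] [Group G]
  [AddCommGroup L] [Module k L] {D : RDat p ι Φ k G}

theorem op_eig {R : RC ι Φ} (H : HW R p k L) {u : Φ → k} {F : L} {c : k} (h : H.op u F = c • F) : H.op u F = 0 := by
  by_contra h0
  have hF : F ≠ 0 := fun e => h0 (by rw [e, map_zero])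
  have hc : c ≠ 0 := fun e => h0 (by rw [h, e, zero_smul])
  obtain ⟨φ, -, hφ⟩ := R.exists_pos_generic
  obtain ⟨t, h1, h2⟩ := H.idm.exists_low (H.lf φ) hF
  have h3 := H.ge_op φ (t := 1) (u := u) ((cmem_F _).2 fun b hb => by have := hφ b; omega) t F h1
  have h4 := H.idm.P_eq_zero (H.lf φ) h3
  rw [h, map_smul] at h4
  exact h2 ((smul_eq_zero.1 h4).resolve_left hc)

theorem pow_lev {H : HW D.R p k L} (r : H.Rep D) {g g' Ξ : Module.End k L} (hg : H.Lev g) {u : G} (hu : u ∈ D.U)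
    (h1 : Ξ * (r.ρ u * g) = 1) (h2 : Ξ ^ p = 1) (h3 : g * g' = 1) : g' ^ p = 1 := by
  have h4 : H.idm.Hm (H.lf D.hf) 0 g := H.hm_of_w fun μ hμ v hv => by
    obtain ⟨c, h2, h3⟩ := hg (H.dep μ) v (by rw [H.dep_spec hμ] at hv; exact hv)
    exact ⟨H.lz - D.R.toWt c, h2, by rw [HW.lf, HW.lf, H.dep_eq (c := c) rfl, add_zero]; exact congrArg Neg.neg h3⟩
  have h5 : H.idm.Ld (H.lf D.hf) 0 (r.ρ u * g) g := by
    refine ⟨h4, ?_⟩
    rw [← sub_one_mul]
    exact ((r.ge_Uge (D.U_le_Uge hu)).mul h4.ge).mono (by simp)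
  have h6 := h5.pow p
  have h7 := pow_mul_pow_eq_one p h1
  rw [h2, one_mul] at h7
  rw [h7, mul_zero] at h6
  have h8 := pow_mul_pow_eq_one p h3
  rwa [h6.unique Idm.hm_one.ld, one_mul] at h8

theorem exists_lead_ne {x : G} (hx : x ∈ D.U) (h1 : x ≠ 1) : ∃ e v, D.Lead x e v ∧ v ≠ 0 := by
  by_contra h
  push Not at h
  have h2 : ∀ e, x ∈ D.Uge (e + 1) := fun e => by
    induction e with
    | zero => exact D.U_le_Uge hx
    | succ e ih =>
      obtain ⟨v, hv⟩ := RDat.exists_lead ih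
      have h3 := (RDat.lead_iff.1 hv).2
      rwa [h _ v hv, D.pz_zero, inv_one, one_mul] at h3
  obtain ⟨N, hN⟩ := D.exists_Uge_bot
  exact h1 (Subgroup.mem_bot.1 (hN.le (D.Uge_anti (Nat.le_succ N) (h2 N))))

theorem ker_le_of_inv {V : Type} [AddCommGroup V] [Module k V] {a b : Module.End k V} (h : a * b = 1) :
    LinearMap.ker (b - 1) ≤ LinearMap.ker (a - 1) := fun v hv => by
  rw [LinearMap.mem_ker, LinearMap.sub_apply, sub_eq_zero] at hv ⊢
  exact (congrArg a hv).symm.trans (DFunLike.congr_fun h v)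

theorem neck_abs [hp : Fact p.Prime] {W : Type} [AddCommGroup W] [Module k W] [FiniteDimensional k W] {J : Type}
    [Fintype J] [DecidableEq J] {d : J → ℕ} {w : (∀ x : ZMod p × J, Fin (d x.2)) → W} (h1 : LinearIndependent k w)
    (h2 : finrank k W = (∏ a, d a) ^ p) {Γ : Module.End k W} (hΓ : ∀ I, Γ (w I) = w fun y => I (y.1 - 1, y.2)) :
    p * finrank k (LinearMap.ker (Γ - 1)) + ∏ a, d a ≤ (∏ a, d a) ^ p + p * ∏ a, d a := by
  have h3 : Fintype.card (∀ x : ZMod p × J, Fin (d x.2)) = finrank k W := by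
    rw [h2, Fintype.card_pi, Fintype.prod_prod_type]
    simp only [ZMod.card, _root_.Fintype.card_fin, _root_.Finset.prod_const, _root_.Finset.card_univ, _root_.ZMod.card]
  let π : (∀ x : ZMod p × J, Fin (d x.2)) → ∀ x : ZMod p × J, Fin (d x.2) := fun I y => I (y.1 - 1, y.2)
  have key : ∀ (I : ∀ x : ZMod p × J, Fin (d x.2)) (a : J) {m m' : ZMod p}, m = m' →
      @Eq (Fin (d a)) (I (m, a)) (I (m', a)) := by rintro I a m _ rfl; rfl
  have h4 : ∀ (r : ℕ) I, π^[r] I = fun y : ZMod p × J => I (y.1 - r, y.2) := fun r => by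
    induction r with
    | zero =>
      exact fun I => funext fun y => key I y.2 (show y.1 = y.1 - ((0 : ℕ) : ZMod p) by simp)
    | succ r ih =>
      intro I
      rw [Function.iterate_succ_apply, ih]
      exact funext fun y => key I y.2
        (show y.1 - (r : ZMod p) - 1 = y.1 - ((r + 1 : ℕ) : ZMod p) by push_cast; ring)
  rw [← h2, ← h3]
  refine necklace (basisOfLinearIndependentOfCardEqFinrank' w h1 h3) (π := π) (fun I => ?_) (fun I => ?_) ?_
  · rw [h4]
    exact funext fun y => key I y.2 (show y.1 - ((p : ℕ) : ZMod p) = y.1 by simp)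
  · rw [coe_basisOfLinearIndependentOfCardEqFinrank']
    exact hΓ I
  · refine (Nat.card_le_card_of_injective (β := ∀ a : J, Fin (d a))
      (fun I a => I.1 (0, a)) fun I J e => Subtype.ext (funext fun y => ?_)).trans (by simp only [_root_.Nat.card_eq_fintype_card, _root_.Fintype.card_pi, _root_.Fintype.card_fin, _root_.Std.le_refl])
    have h5 : ∀ I, π I = I → I y = I (0, y.2) := fun I hI =>
      (congrFun (Function.iterate_fixed hI y.1.val) y).symm.trans ((congrFun (h4 _ I) y).trans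
        (key I y.2 (show y.1 - ((y.1.val : ℕ) : ZMod p) = 0 by simp)))
    exact (h5 _ I.2).trans ((congrFun e y.2).trans (h5 _ J.2).symm)

end gen

variable {p : ℕ} [hp : Fact p.Prime] {α ι Φ k G : Type} [Fintype α] [DecidableEq α] [Fintype ι] [DecidableEq ι]
  [Fintype Φ] [DecidableEq Φ] [Field k] [IsAlgClosed k] [CharP k p] [Group G] {D : RDat p ι Φ k G} (C : Can D)

section op

variable {n : α → ι → ℕ} (hn : ∀ a i, n a i < p) (P : PMod D n)

theorem PMod.E_pf {F : α → G → k} (hF : ∀ a, F a ∈ Lc D (n a)) (c : α) (b : Φ) :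
    (P.H.E (true, (c, b)) 1 ⟨pf F, pf_mem_cw C hn hF⟩).1 =
      pf (Function.update F c (Eo C (n c) (hn c) b ⟨F c, hF c⟩).1) := by
  funext g
  have h1 : slL C hn c g ⟨pf F, pf_mem_cw C hn hF⟩ = (∏ a ∈ univ.erase c, F a (g a)) • ⟨F c, hF c⟩ :=
    Subtype.ext (sl_pf F c g)
  refine (sl_self c g _).symm.trans ?_
  rw [← slL_coe C hn, P.slL_E C hn, h1, map_smul, pf_eq _ c, Function.update_self,
    Finset.prod_congr rfl fun a ha => congrFun (Function.update_of_ne (Finset.ne_of_mem_erase ha) _ F) (g a)]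
  rfl

theorem PMod.op_ne {F : α → G → k} (hF : ∀ a, F a ∈ Lc D (n a)) (hF0 : ∀ a, F a ≠ 0) (v : α × Φ → k) {a : α}
    (h0 : n a ≠ 0) (h : (C.H (n a) (hn a) h0).op (fun b => v (a, b)) ⟨F a, hF a⟩ ≠ 0) :
    P.H.op v ⟨pf F, pf_mem_cw C hn hF⟩ ≠ 0 := by
  intro h1
  choose g hg using fun a => Function.ne_iff.1 (hF0 a)
  have hκ : ∏ c ∈ univ.erase a, F c (g c) ≠ 0 := Finset.prod_ne_zero_iff.2 fun c _ => hg c
  have h2 := congrArg (slL C hn a g) h1
  rw [map_zero, HW.op, LinearMap.sum_apply, map_sum, Fintype.sum_prod_type,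
    ← Finset.add_sum_erase _ _ (mem_univ a)] at h2
  have h3 : ∑ b, slL C hn a g ((v (a, b) • P.H.E (true, (a, b)) 1) ⟨pf F, pf_mem_cw C hn hF⟩) =
      (∏ c ∈ univ.erase a, F c (g c)) • (C.H (n a) (hn a) h0).op (fun b => v (a, b)) ⟨F a, hF a⟩ := by
    have h4 : slL C hn a g ⟨pf F, pf_mem_cw C hn hF⟩ = (∏ c ∈ univ.erase a, F c (g c)) • ⟨F a, hF a⟩ :=
      Subtype.ext (sl_pf F a g)
    rw [← map_smul, ← h4, HW.op, LinearMap.sum_apply]
    exact Finset.sum_congr rfl fun b _ => by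
      rw [LinearMap.smul_apply, LinearMap.smul_apply, map_smul, P.slL_E C hn, Eo_ne C _ h0]
  have h4 : ∑ c ∈ univ.erase a, ∑ b, slL C hn a g ((v (c, b) • P.H.E (true, (c, b)) 1) ⟨pf F, pf_mem_cw C hn hF⟩) ∈
      Submodule.span k {(⟨F a, hF a⟩ : Lc D (n a))} := by
    refine Submodule.sum_mem _ fun c hc => Submodule.sum_mem _ fun b _ => ?_
    rw [LinearMap.smul_apply, map_smul]
    refine Submodule.smul_mem _ _ (Submodule.mem_span_singleton.2 ⟨∏ c' ∈ univ.erase a,
      Function.update F c (Eo C (n c) (hn c) b ⟨F c, hF c⟩).1 c' (g c'), Subtype.ext ?_⟩)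
    rw [slL_coe, P.E_pf C hn hF, sl_pf, Function.update_of_ne (Finset.ne_of_mem_erase hc).symm]
    rfl
  obtain ⟨e, he⟩ := Submodule.mem_span_singleton.1 h4
  rw [h3, ← he] at h2
  refine h (op_eig _ (c := (∏ c ∈ univ.erase a, F c (g c))⁻¹ * -e) ?_)
  rw [mul_smul, neg_smul, ← eq_neg_of_add_eq_zero_left h2, inv_smul_smul₀ hκ]

end op

variable {T S : Type} [Group T] [Finite T] [Group S] (M : Std D T S)

theorem aut_aut (γ : M.Gr) {γ' : M.Gr} (hγ : Commute γ' M.σ) (j j' : ℕ) (h : Fin M.f → G) :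
    M.aut γ j (M.aut γ' j' h) = M.aut (γ * γ') (j + j') h := by
  funext a
  have h1 : (a + (j + j')) / M.f = (a + j) / M.f + (M.pos (a + j) + j') / M.f := by
    have h2 : a + (j + j') = (a + j) % M.f + j' + M.f * ((a + j) / M.f) := by
      have := Nat.mod_add_div (a + j) M.f
      omega
    rw [h2, Nat.add_mul_div_left _ _ M.f_pos, add_comm]
    rfl
  rw [M.aut_apply, M.aut_apply, M.aut_apply, ← M.gr_mul, M.pos_pos_add, h1, add_assoc, add_comm _ (_ / M.f), pow_add,
    mul_inv_rev, mul_assoc, mul_assoc, ← mul_assoc _ γ', ← (hγ.pow_right _).inv_right.eq, mul_assoc]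

theorem lead_all (hF : C.Fa) {x : T} (hx : x ∈ M.E.U) (h1 : x ≠ 1) :
    ∃ e v, (pw (Fin M.f) D).Lead (M.ΦT x) e v ∧ ∀ c, ∃ b, v (c, b) ≠ 0 := by
  obtain ⟨e, v, hv, h0⟩ := exists_lead_ne (ΦT_U M hx) fun h => h1 (ΦT_inj M (h.trans (map_one _).symm))
  refine ⟨e, v, hv, fun c => ?_⟩
  have h2 := (boxDeg1 p _ _ k _ (pw (Fin M.f) D)).fix (fa_pw C hF) 1 _ _ _ (Th_Tw M) 1 (one_mem _) _ (ΦT_U M hx)
    (by rw [Th_ΦT, one_mul, inv_one, mul_one]) e v hv
  obtain ⟨⟨c0, b0⟩, h3⟩ := Function.ne_iff.1 h0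
  have h4 : ∀ r, ∃ b, v (M.pos (c0 + r), b) ≠ 0 := fun r => by
    induction r with
    | zero => exact ⟨b0, by rwa [add_zero, M.pos_val]⟩
    | succ r ih =>
      obtain ⟨b, hb⟩ := ih
      have h5 : (M.rot (M.f - 1)).symm (M.pos (c0 + r)) = M.pos (c0 + (r + 1)) := by
        rw [Equiv.symm_apply_eq, M.rot_apply, M.pos_pos_add, ← M.pos_add_mul (c0 + r) 1]
        congr 1
        have := M.f_pos
        omega
      rw [← h5]
      exact ⟨_, (h2 (M.pos (c0 + r), b)).trans_ne (mul_ne_zero (Units.ne_zero _) (pow_ne_zero _ hb))⟩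
  have h5 := h4 (M.f - c0 + c)
  rwa [show (c0 : ℕ) + (M.f - c0 + c) = c + M.f * 1 by have := c0.2; omega, M.pos_add_mul, M.pos_val] at h5

/-- the twisting operator -/
noncomputable def Xo {γ : M.Gr} {j : ℕ} {n : Fin M.f → ι → ℕ} (h : M.act γ j n = n) (x : Fin M.f → G) :
    Module.End k (Tr (cw D n)) := (M.XiE γ j x h).toLinearMap

/-- its inverse -/
noncomputable def Xv {γ : M.Gr} {j : ℕ} {n : Fin M.f → ι → ℕ} (h : M.act γ j n = n) : Module.End k (Tr (cw D n)) :=
  (M.XiE γ j 1 h).symm.toLinearMap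

theorem Xo_coe {γ : M.Gr} {j : ℕ} {n : Fin M.f → ι → ℕ} (h : M.act γ j n = n) (x : Fin M.f → G) (F : Tr (cw D n)) :
    (Xo M h x F).1 = Xi (M.aut γ j) x F.1 := rfl

theorem Xo_Xv {γ : M.Gr} {j : ℕ} {n : Fin M.f → ι → ℕ} (h : M.act γ j n = n) (F : Tr (cw D n)) :
    Xo M h 1 (Xv M h F) = F := (M.XiE γ j 1 h).apply_symm_apply F

theorem Xv_Xo {γ : M.Gr} {j : ℕ} {n : Fin M.f → ι → ℕ} (h : M.act γ j n = n) (F : Tr (cw D n)) :
    Xv M h (Xo M h 1 F) = F := (M.XiE γ j 1 h).symm_apply_apply F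

/-- the permutation of the nodes -/
noncomputable def θι (γ : M.Gr) (j : ℕ) : Equiv.Perm (Fin M.f × ι) :=
  Equiv.prodShear (M.rot j).symm fun c => M.gι (dl M γ j ((M.rot j).symm c))

theorem PMod.lev {n : Fin M.f → ι → ℕ} (P : PMod D n) {γ : M.Gr} {j : ℕ} (h : M.act γ j n = n) :
    P.H.Lev (Xv M h) := by
  refine P.H.lev_of_sym (γ := θι M γ j) ?_ ?_ ?_ fun μ v hv =>
    P.r.tw_w P.r (α := M.aut γ j) (g := Xv M h) ?_ ?_ ?_ hv
  · rintro ⟨a, i⟩ ⟨c, l⟩
    show (if (M.rot j).symm a = (M.rot j).symm c then D.R.C (M.gι _ i) (M.gι _ l) else 0) = if a = c then D.R.C i l else 0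
    by_cases hc : a = c
    · subst hc; rw [if_pos rfl, if_pos rfl, M.C_gr]
    · rw [if_neg hc, if_neg fun e => hc ((M.rot j).symm.injective e)]
  · rintro ⟨a, i⟩
    exact M.ht_zi_gr _ _
  · rw [P.lam]
    funext x
    obtain ⟨a, i⟩ := x
    show n (M.rot j a) ((M.gι (dl M γ j ((M.rot j).symm (M.rot j a)))).symm i) = n a i
    conv_rhs => rw [← h, M.act_apply']
    rw [Equiv.symm_apply_apply, M.gι_symm, dl, mul_inv_rev, inv_inv]
    rfl
  · rintro ⟨a, i⟩ t
    rw [pw_x, aut_ms, M.gr_x]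
    rfl
  · rintro ⟨a, i⟩ t
    rw [pw_y, aut_ms, M.gr_y]
    rfl
  · intro x v
    rw [← Xo_Xv M h v, Xv_Xo, ← Xv_Xo M h (P.r.ρ _ (Xv M h v)), P.ρ_eq]
    refine congrArg (Xv M h) (Subtype.ext (funext fun g => ?_))
    show (Xv M h v).1 (M.aut γ j (g * x) * 1⁻¹) = (Xv M h v).1 (M.aut γ j g * 1⁻¹ * M.aut γ j x)
    rw [map_mul, inv_one, mul_one, mul_one]

section neck

variable {j : ℕ} (hf : M.f = p * j)

include hf in
theorem ps_lt (x : ZMod p × Fin j) : x.2 + j * x.1.val < M.f := by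
  have h1 : j * (x.1.val + 1) ≤ j * p := Nat.mul_le_mul_left _ (ZMod.val_lt x.1)
  have h2 := x.2.2
  rw [hf, mul_comm p]
  linarith

/-- the windows -/
noncomputable def ps : ZMod p × Fin j ≃ Fin M.f :=
  Equiv.ofBijective (fun x => ⟨x.2 + j * x.1.val, ps_lt M hf x⟩) ((Fintype.bijective_iff_injective_and_card _).2
    ⟨fun x y h => by
      have h1 : x.2 + j * x.1.val = y.2 + j * y.1.val := congrArg Fin.val h
      have h2 := congrArg (· % j) h1
      simp only [Nat.add_mul_mod_self_left, Nat.mod_eq_of_lt x.2.2, Nat.mod_eq_of_lt y.2.2] at h2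
      rw [h2] at h1
      exact Prod.ext (ZMod.val_injective p (Nat.eq_of_mul_eq_mul_left x.2.pos (Nat.add_left_cancel h1))) (Fin.ext h2),
    by simp only [hf, ZMod.card, _root_.Fintype.card_prod, _root_.ZMod.card, _root_.Fintype.card_fin]⟩)

theorem ps_val (x : ZMod p × Fin j) : (ps M hf x : ℕ) = x.2 + j * x.1.val := rfl

theorem ps_step (γ : M.Gr) (m : ZMod p) (a : Fin j) : M.pos (ps M hf (m, a) + j) = ps M hf (m + 1, a) ∧
    (γ ^ m.val * dl M γ j (ps M hf (m, a)) = γ ^ (m + 1).val ∨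
      γ ^ m.val * dl M γ j (ps M hf (m, a)) = γ ^ p * M.σ⁻¹ ∧ (m + 1).val = 0) := by
  have h1 : (m + 1).val = (m.val + 1) % p := by rw [ZMod.val_add, ZMod.val_one]
  rcases (Nat.succ_le_of_lt (ZMod.val_lt m)).eq_or_lt with h | h
  · have h2 : (ps M hf (m, a) : ℕ) + j = a + M.f * 1 := by
      have h0 : j * (m.val + 1) = j * p := congrArg (j * ·) h
      rw [ps_val, hf]
      dsimp only
      linarith only [h0]
    have h3 : (m + 1).val = 0 := by rw [h1, ← Nat.succ_eq_add_one, h, Nat.mod_self]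
    have h4 : (a : ℕ) < M.f := lt_of_le_of_lt (Nat.le_add_right _ _) (ps_lt M hf (m, a))
    refine ⟨Fin.ext ?_, Or.inr ⟨?_, h3⟩⟩
    · rw [h2, M.pos_add_mul, ps_val, h3]
      exact Nat.mod_eq_of_lt h4
    · rw [dl, h2, Nat.add_mul_div_left _ _ M.f_pos, Nat.div_eq_of_lt h4, zero_add, pow_one, ← mul_assoc, ← pow_succ,
        ← Nat.succ_eq_add_one, h]
  · rw [Nat.mod_eq_of_lt (show m.val + 1 < p from h)] at h1
    have h2 : (ps M hf (m, a) : ℕ) + j = ps M hf (m + 1, a) := by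
      rw [ps_val, ps_val, h1]; ring
    refine ⟨by rw [h2, M.pos_val], Or.inl ?_⟩
    rw [dl, h2, Nat.div_eq_of_lt (ps M hf _).2, pow_zero, inv_one, mul_one, h1, pow_succ]

variable {γ : M.Gr} (hγ : Commute γ M.σ) {n : Fin M.f → ι → ℕ} (hn : ∀ a i, n a i < p) (h : M.act γ j n = n)

include hγ h in
theorem n_ps (x : ZMod p × Fin j) : n (ps M hf x) = n (ps M hf (0, x.2)) ∘ M.gι (γ ^ x.1.val) := by
  have h1 : ∀ m r, M.ext n (m + j * r) = M.ext n m ∘ M.gι (γ ^ r) := fun m r => by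
    induction r with
    | zero => rw [mul_zero, add_zero, pow_zero, M.comp_gι_one]
    | succ r ih =>
      have h2 := M.ext_act hγ j n (m + j * r)
      rw [h] at h2
      rw [pow_succ, M.comp_gι_mul, ← ih, h2, ← M.comp_gι_mul, inv_mul_cancel, M.comp_gι_one, mul_add, mul_one, add_assoc]
  rw [← M.ext_val n (ps M hf x), ← M.ext_val n (ps M hf _), ps_val, ps_val, ← h1, ZMod.val_zero, mul_zero, add_zero]

/-- product functions along the windows -/
noncomputable def wv (γ : M.Gr) (F : ZMod p × Fin j → G → k) : (Fin M.f → G) → k :=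
  pf fun c => F ((ps M hf).symm c) ∘ M.gr (γ ^ ((ps M hf).symm c).1.val)

theorem wv_apply (γ : M.Gr) (F : ZMod p × Fin j → G → k) (g : Fin M.f → G) :
    wv M hf γ F g = ∏ x, F x (M.gr (γ ^ x.1.val) (g (ps M hf x))) := by
  rw [wv, pf_apply, ← (ps M hf).prod_comp]
  exact Finset.prod_congr rfl fun x _ => by rw [Equiv.symm_apply_apply]; rfl

include hγ h in
theorem wv_mem {F : ZMod p × Fin j → G → k} (hF : ∀ x, F x ∈ Lc D (n (ps M hf (0, x.2)))) (c : Fin M.f) :
    F ((ps M hf).symm c) ∘ M.gr (γ ^ ((ps M hf).symm c).1.val) ∈ Lc D (n c) := by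
  have h1 := comp_mem_Tr (M.gr (γ ^ ((ps M hf).symm c).1.val)) (hF ((ps M hf).symm c))
  rwa [M.cc_gr, ← n_ps M hf hγ h, Equiv.apply_symm_apply] at h1

include hγ in
theorem XiE_pow (r : ℕ) (F : Tr (cw D n)) (g : Fin M.f → G) :
    ((Xo M h 1 ^ r) F).1 g = F.1 (M.aut (γ ^ r) (r * j) g) := by
  induction r generalizing F with
  | zero =>
    rw [pow_zero, pow_zero, zero_mul, Module.End.one_apply]
    refine congrArg F.1 (funext fun a => ?_)
    rw [M.aut_apply, add_zero, Nat.div_eq_of_lt a.2, pow_zero, inv_one, mul_one, M.pos_val, M.gr_one]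
  | succ r ih =>
    rw [pow_succ, Module.End.mul_apply, ih, pow_succ', add_mul, one_mul, add_comm, ← aut_aut M γ (hγ.pow_left r)]
    rw [Xo_coe, Xi_apply, inv_one, mul_one]

variable (hΓ : Xo M h 1 ^ p = 1)

include C hf hγ hn hΓ in
theorem gr_triv (c : Fin M.f) {F : G → k} (hF : F ∈ Lc D (n c)) (y : G) : F (M.gr (γ ^ p * M.σ⁻¹) y) = F y := by
  obtain ⟨w, hw⟩ := exists_slL C hn c ⟨F, hF⟩
  have h1 : sl c 1 w.1 = F := congrArg Subtype.val hw
  have h2 := XiE_pow M hγ h p w (Function.update 1 c y)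
  rw [hΓ, ← hf] at h2
  rw [← h1, sl_apply, sl_apply]
  refine Eq.trans (congrArg w.1 (funext fun a => ?_)) h2.symm
  have h3 : (a : ℕ) + M.f = a + M.f * 1 := by rw [mul_one]
  rw [M.aut_apply, h3, M.pos_add_mul, M.pos_val, Nat.add_mul_div_left _ _ M.f_pos, Nat.div_eq_of_lt a.2, zero_add,
    pow_one]
  by_cases ha : a = c
  · rw [ha, Function.update_self, Function.update_self]
  · rw [Function.update_of_ne ha, Function.update_of_ne ha, Pi.one_apply, map_one]

include C hγ hn hΓ in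
theorem Xi_wv {F : ZMod p × Fin j → G → k} (hF : ∀ x, F x ∈ Lc D (n (ps M hf (0, x.2)))) :
    Xi (M.aut γ j) 1 (wv M hf γ F) = wv M hf γ fun y => F (y.1 - 1, y.2) := by
  funext g
  rw [Xi_apply, inv_one, mul_one, wv_apply, wv_apply,
    ← Equiv.prod_comp (Equiv.prodCongr (Equiv.addRight (1 : ZMod p)) (Equiv.refl (Fin j)))
      fun y => F (y.1 - 1, y.2) (M.gr (γ ^ y.1.val) (g (ps M hf y)))]
  refine Finset.prod_congr rfl ?_
  rintro ⟨m, a⟩ -
  obtain ⟨h1, h2⟩ := ps_step M hf γ m a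
  show F (m, a) (M.gr _ (M.gr (dl M γ j _) (g (M.pos _)))) =
    F (m + 1 - 1, a) (M.gr (γ ^ (m + 1).val) (g (ps M hf (m + 1, a))))
  rw [add_sub_cancel_right, h1, ← M.gr_mul]
  rcases h2 with h2 | ⟨h2, h3⟩
  · rw [h2]
  · rw [h2, h3, pow_zero, M.gr_one]
    exact gr_triv C M hf hγ hn h hΓ _ (hF (m, a)) _

include hf in
theorem prod_filter (w : Fin M.f → ℕ) :
    ∏ a ∈ univ.filter (fun a : Fin M.f => (a : ℕ) < j), w a = ∏ a : Fin j, w (ps M hf (0, a)) := by
  symm
  have h1 : ∀ a : Fin j, (ps M hf (0, a) : ℕ) = a := fun a => by rw [ps_val, ZMod.val_zero, mul_zero, add_zero]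
  refine Finset.prod_bij (fun a _ => ps M hf (0, a)) (fun a _ => mem_filter.2 ⟨mem_univ _, by rw [h1]; exact a.2⟩)
    (fun a _ a' _ e => congrArg Prod.snd ((ps M hf).injective e)) (fun c hc => ?_) fun _ _ => rfl
  exact ⟨⟨c, (mem_filter.1 hc).2⟩, mem_univ _, Fin.ext (h1 _)⟩

include C hγ hn h in
theorem finrank_neck : finrank k (Tr (cw D n)) = (∏ a : Fin j, dd D (n (ps M hf (0, a)))) ^ p := by
  refine (finrank_cw C hn).trans ?_
  rw [← (ps M hf).prod_comp, Finset.prod_congr rfl fun x _ => by rw [n_ps M hf hγ h x, M.dd_comp],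
    Fintype.prod_prod_type]
  simp only [ZMod.card, _root_.Finset.prod_const, _root_.Finset.card_univ, _root_.ZMod.card]

theorem wv_indep {β : ZMod p × Fin j → Type} [∀ x, Fintype (β x)] {v : ∀ x, β x → G → k}
    (hv : ∀ x, LinearIndependent k (v x)) : LinearIndependent k fun I : ∀ x, β x => wv M hf γ fun x => v x (I x) := by
  have h2 := (pf_indep (v := fun x i => v x i ∘ M.gr (γ ^ x.1.val)) fun x =>
    (hv x).map' (LinearMap.funLeft k k (M.gr (γ ^ x.1.val)))
      (LinearMap.ker_eq_bot.2 (LinearMap.funLeft_injective_of_surjective _ _ _ (M.gr _).surjective))).map'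
    (LinearMap.funLeft k k fun (g : Fin M.f → G) x => g (ps M hf x))
    (LinearMap.ker_eq_bot.2 (LinearMap.funLeft_injective_of_surjective _ _ _ fun g =>
      ⟨fun c => g ((ps M hf).symm c), funext fun x => by simp⟩))
  have h3 : (fun I : ∀ x, β x => wv M hf γ fun x => v x (I x)) =
      LinearMap.funLeft k k (fun (g : Fin M.f → G) x => g (ps M hf x)) ∘
        fun I : ∀ x, β x => pf fun x => v x (I x) ∘ M.gr (γ ^ x.1.val) :=
    funext fun I => funext fun g => wv_apply M hf γ _ g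
  rw [h3]
  exact h2

private theorem li_coeq {R W ι : Type} [Field R] [AddCommGroup W] [Module R W] {U : Submodule R W} (b : Basis ι R U) :
    LinearIndependent R fun i => (b i : W) := b.linearIndependent.map' U.subtype U.ker_subtype

include C hγ hn hΓ in
theorem neck_le : p * finrank k (LinearMap.ker (Xo M h 1 - 1)) + ∏ a : Fin j, dd D (n (ps M hf (0, a))) ≤
    (∏ a : Fin j, dd D (n (ps M hf (0, a)))) ^ p + p * ∏ a : Fin j, dd D (n (ps M hf (0, a))) := by
  have hfd := fun a => fd_Lc C (hn a)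
  have := fd_cw C hn
  have b : ∀ a : Fin j, Basis (Fin (dd D (n (ps M hf (0, a))))) k (Lc D (n (ps M hf (0, a)))) := fun a =>
    Module.finBasis k _
  refine neck_abs (d := fun a => dd D (n (ps M hf (0, a)))) (w := fun I => ⟨wv M hf γ fun x => b x.2 (I x),
    pf_mem_cw C hn (wv_mem M hf hγ h fun x => (b x.2 (I x)).2)⟩) ?_ (finrank_neck C M hf hγ hn h) fun I =>
      Subtype.ext (Xi_wv C M hf hγ hn h hΓ fun x => (b x.2 (I x)).2)
  exact LinearIndependent.of_comp (Tr (cw D n)).subtype (wv_indep M hf (v := fun x i => (b x.2 i : G → k)) fun x =>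
    li_coeq (b x.2))

include hf hγ hn hΓ in
theorem exists_fixed (P : PMod D n) (h0 : n ≠ 0) (hfa : ∀ a h h0 b, (C.H (n a) h h0).E (true, b) 1 ≠ 0)
    {v : Fin M.f × Φ → k} (hv : ∀ c, ∃ b, v (c, b) ≠ 0) :
    ∃ w ∈ LinearMap.ker (Xo M h 1 - 1), P.H.op v w ≠ 0 := by
  obtain ⟨c, hc⟩ := Function.ne_iff.1 h0
  obtain ⟨⟨m, a⟩, rfl⟩ := (ps M hf).surjective c
  have h1 : n (ps M hf (0, a)) ≠ 0 := fun e => hc (by rw [n_ps M hf hγ h, e]; rfl)
  obtain ⟨b, hb⟩ := hv (ps M hf (0, a))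
  obtain ⟨F, hF⟩ : ∃ F, (C.H _ (hn _) h1).op (fun b => v (ps M hf (0, a), b)) F ≠ 0 := by
    by_contra h2
    push Not at h2
    exact hb ((C.H _ (hn _) h1).coeff_eq_zero (LinearMap.ext h2) (hfa _ _ _ b))
  let F' : ZMod p × Fin j → G → k := fun x =>
    Function.update (fun a' : Fin j => D.toFDat.cc (n (ps M hf (0, a')))) a F.1 x.2
  have h2 : ∀ x, F' x ∈ Lc D (n (ps M hf (0, x.2))) := fun x => by
    by_cases hx : x.2 = a
    · simp only [F', hx, Function.update_self]; exact F.2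
    · simp only [F', Function.update_of_ne hx]; exact self_mem_Tr _
  have h3 : ∀ x, F' x ≠ 0 := fun x => by
    by_cases hx : x.2 = a
    · simp only [F', hx, Function.update_self]
      exact fun e => hF (by rw [show F = 0 from Subtype.ext e, map_zero])
    · simp only [F', Function.update_of_ne hx]
      exact fun e => one_ne_zero ((D.toFDat.cc_one _).symm.trans (congrFun e 1))
  refine ⟨⟨wv M hf γ F', pf_mem_cw C hn (wv_mem M hf hγ h h2)⟩, ?_, P.op_ne C hn (wv_mem M hf hγ h h2)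
    (fun c e => h3 ((ps M hf).symm c) (funext fun y => ?_)) v h1 ?_⟩
  · rw [LinearMap.mem_ker, LinearMap.sub_apply, sub_eq_zero]
    exact Subtype.ext (Xi_wv C M hf hγ hn h hΓ h2)
  · obtain ⟨y, rfl⟩ := (M.gr (γ ^ ((ps M hf).symm c).1.val)).surjective y
    exact congrFun e y
  · convert hF using 2
    refine Subtype.ext (funext fun y => ?_)
    simp only [F', Equiv.symm_apply_apply, Function.update_self, ZMod.val_zero, pow_zero, Function.comp_apply, M.gr_one]

end neck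

theorem field (γ : M.Gr) (j : ℕ) (hγ : Commute γ M.σ) (hf : M.f = p * j) (n : Fin M.f → ι → ℕ) (hn : n ∈ M.pats)
    (h0 : n ≠ 0) (h : M.act γ j n = n) (hfa : ∀ a h h0 b, (C.H (n a) h h0).E (true, b) 1 ≠ 0) (u : T) (hu : u ∈ M.E.U)
    (hpow : ∀ F ∈ M.Wc n, (Xi (M.aut γ j) (M.ΦT u) ^ p) F = F) (B : Subgroup T) (hB : B ≤ M.E.U) (E : ℕ)
    (hE : E = ∏ a ∈ Finset.univ.filter (fun a : Fin M.f => (a : ℕ) < j), dd D (n a)) :
    finrank k (M.Wc n) = E ^ p ∧ p * finrank k (M.fxX n B u γ j) + E ≤ E ^ p + p * E ∧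
      (B ≠ ⊥ → p * (finrank k (M.fxX n B u γ j) + 1) + E ≤ E ^ p + p * E) := by
  rw [M.mem_pats] at hn
  rw [prod_filter M hf fun a => dd D (n a)] at hE
  subst hE
  obtain ⟨P⟩ := exists_pmod (D := D) hn h0
  have hfd := fd_cw C hn
  have e1 : Xo M h (M.ΦT u) * (P.r.ρ (M.ΦT u) * Xv M h) = 1 := by
    refine LinearMap.ext fun v => ?_
    rw [P.ρ_eq, Module.End.one_apply]
    conv_rhs => rw [← Xo_Xv M h v]
    refine Subtype.ext (funext fun g => ?_)
    show (Xv M h v).1 (M.aut γ j g * (M.ΦT u)⁻¹ * M.ΦT u) = (Xv M h v).1 (M.aut γ j g * 1⁻¹)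
    rw [inv_mul_cancel_right, inv_one, mul_one]
  have e2 : Xo M h (M.ΦT u) ^ p = 1 := by
    have h1 : ∀ (r : ℕ) (v : Tr (cw D n)), ((Xo M h (M.ΦT u) ^ r) v).1 = (Xi (M.aut γ j) (M.ΦT u) ^ r) v.1 := fun r => by
      induction r with
      | zero => exact fun v => rfl
      | succ r ih => exact fun v => by rw [pow_succ, pow_succ, Module.End.mul_apply, Module.End.mul_apply, ih, Xo_coe]
    exact LinearMap.ext fun v => Subtype.ext ((h1 p v).trans (hpow _ v.2))
  have e3 : Xv M h * Xo M h 1 = 1 := LinearMap.ext (Xv_Xo M h)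
  have e4 : Xo M h 1 * Xv M h = 1 := LinearMap.ext (Xo_Xv M h)
  have hΓ := pow_lev P.r (P.lev M h) (ΦT_U M hu) e1 e2 e3
  have h1 := neck_le C M hf hγ hn h hΓ
  have h2 : finrank k (M.fxX n B u γ j) ≤ finrank k ↥(P.H.kerOp ((pw (Fin M.f) D).ld (B.map M.ΦT)) ⊓
      LinearMap.ker (Xv M h - 1)) := by
    refine le_trans ?_ ((boxDeg1 p _ _ k _ (pw (Fin M.f) D)).ker _ P.H P.r _ (map_le_U M hB) _ (P.lev M h) _ (ΦT_U M hu))
    rw [← Submodule.finrank_map_subtype_eq]
    refine Submodule.finrank_mono fun F hF => ⟨⟨F, hF.1.1⟩, ⟨?_, ?_⟩, rfl⟩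
    · rintro _ ⟨b, hb, rfl⟩
      rw [P.ρ_eq]
      exact Subtype.ext (hF.1.2 b hb)
    · refine ker_le_of_inv (mul_eq_one_comm.1 e1) ?_
      rw [LinearMap.mem_ker, LinearMap.sub_apply, sub_eq_zero]
      exact Subtype.ext (sub_eq_zero.1 hF.2)
  have h3 := Submodule.finrank_mono (ker_le_of_inv e4)
  refine ⟨finrank_neck C M hf hγ hn h, le_trans (Nat.add_le_add_right (Nat.mul_le_mul_left _
    (h2.trans ((Submodule.finrank_mono inf_le_right).trans h3))) _) h1, fun hb => le_trans (Nat.add_le_add_right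
      (Nat.mul_le_mul_left _ (le_trans ?_ h3)) _) h1⟩
  obtain ⟨⟨x, hx⟩, hx1⟩ := Subgroup.ne_bot_iff_exists_ne_one.1 hb
  obtain ⟨a, ha⟩ := Function.ne_iff.1 h0
  obtain ⟨e, v, hv, hv'⟩ := lead_all C M (fun b => ⟨n a, hn a, ha, hfa a _ _ b⟩) (hB hx)
    fun e => hx1 (Subtype.ext e)
  obtain ⟨w, hw, hw'⟩ := exists_fixed C M hf hγ hn h hΓ P h0 hfa hv'
  refine Nat.succ_le_of_lt (h2.trans_lt (Submodule.finrank_lt_finrank_of_lt (lt_of_le_of_ne inf_le_right fun e' => ?_)))
  exact hw' (P.H.mem_kerOp.1 (e'.ge (ker_le_of_inv e3 hw)).1 v (Submodule.subset_span ⟨_, ⟨x, hx, rfl⟩, e, hv⟩))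

/-- **TH3c** -/
theorem boxPow : BoxPow := fun p _ ι Φ k G _ _ _ _ _ _ _ _ D T S _ _ _ M C =>
  { fd := fun n hn => fd_cw C (M.mem_pats.1 hn)
    dim := fun n hn => finrank_cw C (M.mem_pats.1 hn)
    line := fun hF n hn => line C M hF (M.mem_pats.1 hn)
    inner := inner C M
    field := fun γ j hγ hf n hn h0 h hfa u hu hpow B hB _ E hE => field C M γ j hγ hf n hn h0 h hfa u hu hpow B hB E hE
    single := fun a ν _ B => single M a ν B
    double := fun a a' hne ν hν B => double C M a a' hne ν hν B }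

end Cfsg.Agent.TwoF.DC.Pw

private theorem dce_0efb1d3648e6 : _root_.True := by
  try have : _root_.True := by simp only [_root_.Cfsg.Agent.TwoF.DC.Pw.wv.eq_1]
  try have : _root_.True := by simp only [_root_.Cfsg.Agent.TwoF.DC.Pw.ps.congr_simp]
  try have : _root_.True := by simp only [_root_.Cfsg.Agent.TwoF.DC.Can.H.congr_simp]
  exact _root_.True.intro
end

-- part: TwoF/DC/TA/Iface
section
set_option linter.all false

/-!
# TwoF, defining characteristic, type `A_n` (2): interface of the instances (helper97).  Plan: `notes/TwoF/ta.md`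

`BoxComb` : the combinatorics; `BoxL`, `BoxU` : the instances `SL`, `SU`.
-/

set_option autoImplicit false
set_option linter.unusedSectionVars false

namespace Cfsg.Agent.TwoF.DC.TA

open Cfsg.Agent.H356.TA (Pos)

/-- the positive root `ε a - ε b` of `A_3` -/
def r3 (a b : Fin 4) (h : a < b := by decide) : Pos 3 := ⟨(a, b), h⟩

/-- an elementary abelian subgroup of order `q ^ 3` of `Sp_4(q) ≤ SU_4(q)`, `q = 2 ^ f` -/
def Sub3 {p : ℕ} {k G : Type} [Field k] [Group G] (D : RDat p (Fin 3) (Pos 3) k G) {T : Type} [Group T] (φ : T →* G)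
    (f : ℕ) : Prop :=
  Commute (D.z (r3 0 1) 1 * D.z (r3 2 3) 1) (D.z (r3 0 2) 1 * D.z (r3 1 3) 1) ∧
    ∃ B : Subgroup T, IsElementaryAbelian p B ∧ (p ^ f) ^ 3 ≤ Nat.card B ∧ ∀ x ∈ B, ∃ s t u : k,
      φ x = D.z (r3 0 1) s * D.z (r3 2 3) s * (D.z (r3 0 2) t * D.z (r3 1 3) t) * D.z (r3 0 3) u

/-- `Sub3` if the rank is three -/
def Sub3' {p n : ℕ} {k G : Type} [Field k] [Group G] (D : RDat p (Fin n) (Pos n) k G) {T : Type} [Group T] (φ : T →* G)
    (f : ℕ) : Prop := ∀ h : n = 3, Sub3 (h ▸ D) φ f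

theorem sub3'_iff {p : ℕ} {k G : Type} [Field k] [Group G] (D : RDat p (Fin 3) (Pos 3) k G) {T : Type} [Group T]
    (φ : T →* G) (f : ℕ) : Sub3' D φ f ↔ Sub3 D φ f := ⟨fun h => h rfl, fun h _ => h⟩

/-- what an instance of type `A_n` has to deliver -/
structure StdA {p n : ℕ} {k G : Type} [Field k] [Infinite k] [Group G] {D : RDat p (Fin n) (Pos n) k G} {T S : Type}
    [Group T] [Finite T] [Group S] (M : Std D T S) : Prop where
  isA : IsA D.R
  gr : ∀ γ : M.Gr, γ = 1 ∨ (2 ≤ n ∧ M.gι γ = Fin.revPerm ∧ M.gΦ γ = fl n)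
  aut : M.AutFact
  sub : p = 2 → M.σ ≠ 1 → Sub3' D M.φ M.f

/-- the combinatorics of type `A_n` -/
def BoxComb : Prop :=
  ∀ (p : ℕ) [Fact p.Prime] (n : ℕ) (k G : Type) [Field k] [IsAlgClosed k] [CharP k p] [Group G]
    (D : RDat p (Fin n) (Pos n) k G) (T S : Type) [Group T] [Finite T] [Group S] (M : Std D T S), 1 ≤ n → StdA M →
    M.Full fun _ => True

/-- the simple group `S` has an instance of type `A_n` -/
def HasA (p n : ℕ) (S : Type) [Group S] : Prop :=
  ∃ (k G : Type) (_ : Field k) (_ : IsAlgClosed k) (_ : CharP k p) (_ : Group G) (D : RDat p (Fin n) (Pos n) k G)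
    (T : Type) (_ : Group T) (_ : Finite T) (M : Std D T S), StdA M

/-- the instance `SL_(n+1)(q)` -/
def BoxL : Prop :=
  ∀ (p : ℕ) [Fact p.Prime] (F : Type) [Field F] [Fintype F] [CharP F p] (n : ℕ), 1 ≤ n →
    (n = 1 → 4 ≤ Fintype.card F) → HasA p n (Matrix.ProjectiveSpecialLinearGroup (Fin (n + 1)) F)

/-- the instance `SU_(n+1)(q)` -/
def BoxU : Prop :=
  ∀ (p : ℕ) [Fact p.Prime] (F : Type) [Field F] [Fintype F] [CharP F p] (n q : ℕ), Fintype.card F = q ^ 2 → 2 ≤ n →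
    ¬ (n = 2 ∧ q = 2) → HasA p n (PSU (n + 1) F q)

theorem HasA.row (h0 : BoxStd) (h1 : BoxComb) {p n : ℕ} [Fact p.Prime] {S : Type} [Group S] (hn : 1 ≤ n)
    (h : HasA p n S) : Row p S := by
  obtain ⟨k, G, _, _, _, _, D, T, _, _, M, hM⟩ := h
  exact h0 p _ _ k G D T S M (h1 p n k G D T S M hn hM)

theorem row_psl (h0 : BoxStd) (h1 : BoxComb) (h2 : BoxL) (p : ℕ) [Fact p.Prime] (S : Type) [Group S]
    (h : IsPSLChar p S) : Row p S := by
  obtain ⟨F, _, _, _, n, hn, hs, ⟨e⟩⟩ := h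
  obtain ⟨n, rfl⟩ : ∃ m, n = m + 1 := ⟨n - 1, by omega⟩
  exact ((h2 p F n (by omega) fun h => hs (by omega)).row h0 h1 (by omega)).of_equiv e

theorem row_psu (h0 : BoxStd) (h1 : BoxComb) (h2 : BoxU) (p : ℕ) [Fact p.Prime] (S : Type) [Group S]
    (h : IsPSUChar p S) : Row p S := by
  obtain ⟨F, _, _, _, n, q, hF, hn, hs, ⟨e⟩⟩ := h
  obtain ⟨n, rfl⟩ : ∃ m, n = m + 1 := ⟨n - 1, by omega⟩
  exact ((h2 p F n q hF (by omega) fun h => hs ⟨by omega, h.2⟩).row h0 h1 (by omega)).of_equiv e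

end Cfsg.Agent.TwoF.DC.TA
end

-- part: TwoF/DC/TA/I/SU
section
prune_inst 0x100184040c000000018058011001c0696000090002888008800084404882d020000c16024001000100a224400380040020000208000000000000400011800801090000020400000400010000084000000000000000000000000000000000004000000000
set_option linter.all false
open scoped Cfsg.Agent.FastGrp

-- part: TwoF/DC/TA/I/Dat
section
/-!
# TwoF, defining characteristic, type `A_n`, instances (1): the group `SL_(n+1)(k)` (helper52)

`rdA p n k : RDat`; `mp f` : a ring homomorphism applied to the entries; `th0`, `th` : the graph automorphism.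
-/

set_option autoImplicit false
set_option linter.unusedSectionVars false

namespace Cfsg.Agent.TwoF.DC.TA.I

open Matrix Cfsg.Agent.H45.UniE Cfsg.Agent.H356.TA Cfsg.Agent.TitsThree.KSideA Cfsg.Agent.Nodes.RGDTypeA
open scoped commutatorElement

/-- the special linear group -/
abbrev SLn (n : ℕ) (k : Type*) [Field k] := _root_.Matrix.SpecialLinearGroup (Fin (n + 1)) k

variable {n : ℕ} {k : Type} [Field k]

theorem val_mul (g h : SLn n k) : (g * h).1 = g.1 * h.1 := rfl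
theorem val_one : (1 : SLn n k).1 = 1 := rfl
theorem val_mul_inv (g : SLn n k) : g.1 * (g⁻¹).1 = 1 := by rw [← val_mul, mul_inv_cancel, val_one]
theorem val_inv_mul (g : SLn n k) : (g⁻¹).1 * g.1 = 1 := by rw [← val_mul, inv_mul_cancel, val_one]

theorem sum_cfA (b : Pos n) : ∑ j, cfA b j = (b.1.2 : ℕ) - b.1.1 := by
  have h1 := b.1.2.2
  have h2 : ∑ j, cfA b j = ∑ j ∈ Finset.range n, if (b.1.1 : ℕ) ≤ j ∧ j < b.1.2 then 1 else 0 :=
    Fin.sum_univ_eq_sum_range (fun j => if (b.1.1 : ℕ) ≤ j ∧ j < b.1.2 then 1 else 0) n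
  rw [h2, ← Finset.card_filter, ← Nat.card_Ico]
  congr 1
  ext j
  simp only [Finset.mem_filter, Finset.mem_range, Finset.mem_Ico]
  omega

theorem hA_apply (i : Fin n) (c : kˣ) (x : Fin (n + 1)) :
    (hA i c).1 x x = ((c ^ (ev x i.castSucc - ev x i.succ) : kˣ) : k) := by
  show (diagonal _ : Matrix _ _ k) x x = _
  rw [diagonal_apply_eq, ev, ev]
  by_cases h1 : x = i.castSucc
  · simp [h1, (cs_ne i).symm]
  · by_cases h2 : x = i.succ
    · simp [h2, cs_ne i, (cs_ne i).symm]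
    · simp [h1, h2, Ne.symm h1, Ne.symm h2]

theorem T_ext {s t : SLn n k} (hs : s ∈ T (Fin (n + 1)) k) (ht : t ∈ T (Fin (n + 1)) k) (h : ∀ x, s.1 x x = t.1 x x) :
    s = t := Subtype.ext (by rw [T_eq_diagonal hs, T_eq_diagonal ht]; exact congrArg diagonal (funext h))

theorem T_mul_apply {s t : SLn n k} (hs : s ∈ T (Fin (n + 1)) k) (x y : Fin (n + 1)) :
    (s * t).1 x y = s.1 x x * t.1 x y := by
  show (s.1 * t.1) x y = _
  rw [T_eq_diagonal hs, diagonal_mul, diagonal_apply_eq]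

theorem hA_mem (i : Fin n) (c : kˣ) : hA i c ∈ T (Fin (n + 1)) k := diag_mem_T _ _

theorem hA_mul (i : Fin n) (c d : kˣ) : hA i (c * d) = hA i c * hA i d :=
  T_ext (hA_mem _ _) (mul_mem (hA_mem _ _) (hA_mem _ _)) fun x => by
    rw [T_mul_apply (hA_mem _ _), hA_apply, hA_apply, hA_apply, _root_.mul_zpow, Units.val_mul]

/-- **the group `SL_(n+1)(k)` with its root combinatorics** -/
noncomputable def rdA (p : ℕ) [hp : Fact p.Prime] (n : ℕ) (k : Type) [Field k] : RDat p (Fin n) (Pos n) k (SLn n k) where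
  toFDat := fdA n k
  R := RA n
  zi_eq := rfl
  ht_eq b := by
    show 2 * ((b.1.2 : ℕ) - b.1.1) = ∑ j : Fin n, cfA b j * (2 * ((j : ℕ) + 1 - j))
    simp only [Nat.add_sub_cancel_left, mul_one]
    rw [← Finset.sum_mul, sum_cfA, mul_comm]
  hh_mul := hA_mul
  hh_comm i j c d := T_comm (hA_mem _ _) (hA_mem _ _)
  hh_z i c b a := by
    show hA i c * tv b.1.1 b.1.2 a = tv b.1.1 b.1.2 _ * hA i c
    rw [T_tv (hA_mem i c) b.2.ne, hA_apply, hA_apply, isA_RA.wt_true, mul_right_comm, ← Units.val_inv_eq_inv_val,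
      ← Units.val_mul, ← _root_.zpow_sub]
    congr 5
    simp only [tw, Pi.sub_apply]
    ring
  n_z i b hb := by
    have hm := mono_ns (F := k) i
    refine ⟨Units.mk0 _ (mul_ne_zero (hm.apply_ne_zero b.1.1) (inv_ne_zero (hm.apply_ne_zero b.1.2))), fun t => ?_⟩
    have h1 := hm.conj_tv b.2.ne t
    rw [mul_inv_eq_iff_eq_mul, mul_right_comm] at h1
    have h2 : ns n k i = tv i.castSucc i.succ 1 * tv i.succ i.castSucc (-1) * tv i.castSucc i.succ 1 := by
      rw [ns, nn, inv_one]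
    show tv i.castSucc i.succ 1 * tv i.succ i.castSucc (-1) * tv i.castSucc i.succ 1 * tv b.1.1 b.1.2 t =
      tv (sA i b).1.1 (sA i b).1.2 _ * (tv i.castSucc i.succ 1 * tv i.succ i.castSucc (-1) * tv i.castSucc i.succ 1)
    rw [← h2, sA_val hb]
    exact h1
  cm b b' s t := by
    obtain ⟨⟨a, c⟩, h⟩ := b
    obtain ⟨⟨a', c'⟩, h'⟩ := b'
    have h : a < c := h
    have h' : a' < c' := h'
    show ⁅tv a c s, tv a' c' t⁆ ∈ _
    by_cases h1 : c = a'
    · subst h1
      rw [tv_comm h.ne h'.ne (h.trans h').ne]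
      exact Subgroup.subset_closure ⟨⟨(a, c'), h.trans h'⟩, _, ⟨1, 1, one_pos, one_pos, by
        rw [one_smul, one_smul]; exact isA_RA.cf_add h h'⟩, rfl⟩
    by_cases h2 : a = c'
    · subst h2
      rw [← commutatorElement_inv, tv_comm h'.ne h.ne (h'.trans h).ne]
      exact inv_mem (Subgroup.subset_closure ⟨⟨(a', c), h'.trans h⟩, _, ⟨1, 1, one_pos, one_pos, by
        rw [one_smul, one_smul]; exact (isA_RA.cf_add h' h).trans (add_comm _ _)⟩, rfl⟩)
    · rw [commutatorElement_eq_one_iff_commute.2 (tv_commute h1 h2 s t)]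
      exact one_mem _
  nz i b a ha hz := by
    obtain ⟨⟨x, c⟩, h⟩ := b
    have h : x < c := h
    have hi := cs_ne i
    have hil : i.castSucc < i.succ := Fin.castSucc_lt_succ
    rcases (isA_RA.nz_true hp.out.ne_one _ _).1 hz with h1 | h1
    · obtain rfl : i.succ = x := h1
      obtain rfl : a = ⟨(i.castSucc, c), hil.trans h⟩ := cfA_inj (ha.trans (isA_RA.cf_add hil h).symm)
      refine ⟨[(⟨(i.castSucc, c), hil.trans h⟩, -1, 1), (⟨(i.succ, c), h⟩, 1, 1)], by simp only [_root_.List.mem_cons, _root_.List.not_mem_nil, _root_.or_false, _root_.forall_eq_or_imp, _root_.Order.lt_one_iff, _root_.forall_eq, _root_.and_self], fun t => ?_, by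
        simp [hi.symm]⟩
      simp only [List.map_cons, List.map_nil, List.prod_cons, List.prod_nil, one_mul, mul_one, pow_one]
      show tv i.castSucc i.succ (-1) * tv i.succ c t * tv i.castSucc i.succ 1 = tv i.castSucc c (-1 * t) * tv i.succ c t
      rw [tv_swap hi h.ne (hil.trans h).ne, mul_assoc, mul_assoc, ← tv_add, neg_add_cancel, tv_zero, mul_one]
    · obtain rfl : i.castSucc = c := h1
      obtain rfl : a = ⟨(x, i.succ), h.trans hil⟩ :=
        cfA_inj (ha.trans ((add_comm _ _).trans (isA_RA.cf_add h hil).symm))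
      refine ⟨[(⟨(x, i.castSucc), h⟩, 1, 1), (⟨(x, i.succ), h.trans hil⟩, 1, 1)], by simp only [_root_.List.mem_cons, _root_.List.not_mem_nil, _root_.or_false, _root_.forall_eq_or_imp, _root_.Order.lt_one_iff, _root_.forall_eq, _root_.and_self], fun t => ?_, by
        simp [hi]⟩
      simp only [List.map_cons, List.map_nil, List.prod_cons, List.prod_nil, one_mul, mul_one, pow_one]
      show tv i.castSucc i.succ (-1) * tv x i.castSucc t * tv i.castSucc i.succ 1 = tv x i.castSucc t * tv x i.succ t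
      rw [mul_assoc, tv_swap h.ne hi (h.trans hil).ne, mul_one, (tv_commute hi.symm (h.trans hil).ne t 1).eq, ← mul_assoc,
        ← mul_assoc, ← tv_add, neg_add_cancel, tv_zero, one_mul, (tv_commute (h.trans hil).ne' h.ne t t).eq]

variable {p : ℕ} [hp : Fact p.Prime]

/-- diagonal matrices are determined by the leading minors -/
theorem T_ext_DA {s t : SLn n k} (hs : s ∈ T (Fin (n + 1)) k) (ht : t ∈ T (Fin (n + 1)) k) (h : ∀ i, DA i s = DA i t) :
    s = t := by
  refine T_ext hs ht (congrFun (H379.SUD.diag_unique (d := fun x => s.1 x x) (d' := fun x => t.1 x x)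
    (mem_T.1 ht).apply_ne_zero (fun i => ?_) ?_))
  · have h1 := h i
    rwa [DA, DA, T_eq_diagonal hs, T_eq_diagonal ht, ld_diagonal (le_of_fin i), ld_diagonal (le_of_fin i)] at h1
  · rw [← det_diagonal, ← det_diagonal, ← T_eq_diagonal hs, ← T_eq_diagonal ht, s.2, t.2]

/-- the torus is generated by the coroot elements -/
theorem T_le : T (Fin (n + 1)) k ≤ Subgroup.closure {g | ∃ i c, g = hA i c} := by
  intro t ht
  have h0 : ∀ i, DA i t ≠ 0 := fun i => left_ne_zero_of_mul_eq_one (b := DA i t⁻¹) (by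
    rw [← DA_mul_T i ht, inv_mul_cancel]; exact ld_one (le_of_fin i))
  have key : ∀ S : Finset (Fin n), ∃ u ∈ T (Fin (n + 1)) k, u ∈ Subgroup.closure {g | ∃ i c, g = hA i c} ∧
      ∀ i, DA i u = if i ∈ S then DA i t else 1 := by
    intro S
    induction S using Finset.induction_on with
    | empty => exact ⟨1, one_mem _, one_mem _, fun i => ld_one (le_of_fin i)⟩
    | insert j S hj ih =>
      obtain ⟨u, h1, h2, h3⟩ := ih
      refine ⟨u * hA j (Units.mk0 _ (h0 j)), mul_mem h1 (hA_mem _ _), mul_mem h2 (Subgroup.subset_closure ⟨_, _, rfl⟩),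
        fun i => ?_⟩
      rw [DA_mul_T i (hA_mem _ _), DA_hA, h3]
      by_cases hi : i = j
      · simp [hi, hj]
      · simp [hi]
  obtain ⟨u, h1, h2, h3⟩ := key Finset.univ
  rwa [T_ext_DA ht h1 fun i => by rw [h3, if_pos (Finset.mem_univ _)]]

/-! ### ring homomorphisms -/

section mp

variable {F : Type} [Field F]

/-- a ring homomorphism applied to the entries -/
def mp (f : F →+* k) : SLn n F →* SLn n k := SpecialLinearGroup.map f

theorem mp_apply (f : F →+* k) (g : SLn n F) (a b : Fin (n + 1)) : (mp f g).1 a b = f (g.1 a b) := rfl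

theorem mp_val (f : F →+* k) (g : SLn n F) : (mp f g).1 = g.1.map f := rfl

theorem mp_tv (f : F →+* k) {a b : Fin (n + 1)} (hab : a ≠ b) (s : F) : mp f (tv a b s) = tv a b (f s) := by
  ext i j
  rw [mp_apply, tv_val hab, tv_val hab, Matrix.add_apply, Matrix.add_apply, map_add, Matrix.one_apply, Matrix.one_apply,
    Matrix.single_apply, Matrix.single_apply]
  split_ifs <;> simp

theorem DA_mp (f : F →+* k) (i : Fin n) (g : SLn n F) : DA i (mp f g) = f (DA i g) := by
  rw [DA, DA, ld_eq (le_of_fin i), ld_eq (le_of_fin i), RingHom.map_det]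
  rfl

theorem mp_inj (f : F →+* k) : Function.Injective (mp (n := n) f) := fun g h e => by
  ext a b
  exact f.injective (congrArg (fun x : SLn n k => x.1 a b) e)

theorem mp_mem_T (f : F →+* k) {t : SLn n F} (ht : t ∈ T (Fin (n + 1)) F) : mp f t ∈ T (Fin (n + 1)) k :=
  fun a b h => mem_T.1 ht a b fun h0 => h (by rw [mp_apply, h0, map_zero])

theorem exists_mp (f : F →+* k) {g : SLn n k} (h : ∀ a b, ∃ x, f x = g.1 a b) : ∃ s, mp f s = g := by
  choose x hx using h
  have e : (Matrix.of x).map f = g.1 := by ext a b; exact hx a b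
  exact ⟨⟨Matrix.of x, f.injective (by rw [RingHom.map_det, map_one]; exact (congrArg det e).trans g.2)⟩, Subtype.ext e⟩

theorem mp_dlt (f : F →+* k) (s : Fˣ) : mp f (dlt n s) = dlt n (Units.map f.toMonoidHom s) :=
  T_ext (mp_mem_T f (dl_mem _ _)) (dl_mem _ _) fun x => by
    show f ((diagonal _ : Matrix _ _ F) x x) = (diagonal _ : Matrix _ _ k) x x
    simp only [diagonal_apply_eq, ← map_zpow]
    rfl

/-- inverse, transpose and reflection in the antidiagonal -/
def th0 : SLn n F →* SLn n F where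
  toFun g := ⟨(g⁻¹).1ᵀ.submatrix Fin.revPerm Fin.revPerm, by rw [det_submatrix_equiv_self, det_transpose, (g⁻¹).2]⟩
  map_one' := Subtype.ext (by
    show ((1 : SLn n F)⁻¹).1ᵀ.submatrix Fin.revPerm Fin.revPerm = 1
    rw [inv_one, val_one, transpose_one, submatrix_one_equiv])
  map_mul' g h := Subtype.ext (by
    show ((g * h)⁻¹).1ᵀ.submatrix Fin.revPerm Fin.revPerm =
      (g⁻¹).1ᵀ.submatrix Fin.revPerm Fin.revPerm * (h⁻¹).1ᵀ.submatrix Fin.revPerm Fin.revPerm
    rw [_root_.mul_inv_rev, val_mul, transpose_mul, submatrix_mul_equiv])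

theorem th0_apply (g : SLn n F) (a b : Fin (n + 1)) : (th0 g).1 a b = (g⁻¹).1 b.rev a.rev := rfl

theorem th0_th0 (g : SLn n F) : th0 (th0 g) = g := by
  ext a b
  rw [th0_apply, ← map_inv, th0_apply, inv_inv, Fin.rev_rev, Fin.rev_rev]

theorem mp_th0 (f : F →+* k) (g : SLn n F) : mp f (th0 g) = th0 (mp f g) := by
  ext a b
  rw [mp_apply, th0_apply, th0_apply, ← map_inv, mp_apply]

theorem th0_tv {a b : Fin (n + 1)} (hab : a ≠ b) (s : F) : th0 (tv a b s) = tv b.rev a.rev (-s) := by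
  ext i j
  rw [th0_apply, ← tv_neg, tv_val hab, tv_val (fun e => hab (Fin.rev_injective e).symm), Matrix.add_apply, Matrix.add_apply,
    Matrix.one_apply, Matrix.one_apply, Matrix.single_apply, Matrix.single_apply]
  simp only [Fin.rev_eq_iff, and_comm, Fin.rev_rev, eq_comm (a := j) (b := i)]

theorem th0_dlt (s : Fˣ) : th0 (dlt n s) = dlt n s := by
  have h : (dlt n s)⁻¹ = dlt n s⁻¹ := by
    rw [inv_eq_iff_mul_eq_one]
    refine ((gdA n F).δ_mul s s⁻¹).symm.trans ?_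
    rw [mul_inv_cancel]
    exact mul_eq_left.1 (((gdA n F).δ_mul 1 1).symm.trans (by rw [mul_one]))
  ext a b
  rw [th0_apply, h]
  show (diagonal _ : Matrix _ _ F) b.rev a.rev = (diagonal _ : Matrix _ _ F) a b
  by_cases hab : a = b
  · subst hab
    simp only [diagonal_apply_eq, _root_.inv_zpow', Fin.val_rev]
    congr 2
    have := a.2
    omega
  · rw [diagonal_apply_ne _ hab, diagonal_apply_ne _ fun e => hab (Fin.rev_injective e).symm]

end mp

end Cfsg.Agent.TwoF.DC.TA.I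
end

-- part: TwoF/DC/TA/I/Gr
section
/-!
# TwoF, defining characteristic, type `A_n`, instances (2): general lemmas, Frobenius and graph automorphism (helper52)
-/

set_option autoImplicit false
set_option linter.unusedSectionVars false

namespace Cfsg.Agent.TwoF.DC.TA.I

open Matrix Polynomial Cfsg.Agent.H45.Uni Cfsg.Agent.H45.UniE Cfsg.Agent.H356.TA Cfsg.Agent.TitsThree.KSideA
  Cfsg.Agent.Nodes.RGDTypeA Cfsg.Agent.H564.TWP
open Cfsg.Agent.H564.TW (datQ)

/-! ### general lemmas -/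

section gen

variable {ι Φ k G : Type} [Field k] [Group G]

theorem δ_inv (D : GDat ι Φ k G) (s : kˣ) : (D.δ s)⁻¹ = D.δ s⁻¹ := by
  rw [inv_eq_iff_mul_eq_one, ← D.δ_mul, mul_inv_cancel]
  exact mul_eq_left.1 ((D.δ_mul 1 1).symm.trans (by rw [mul_one]))

theorem δ_conj (D : GDat ι Φ k G) (s : kˣ) (b : Φ) (a : k) :
    D.δ s * D.z b a * (D.δ s)⁻¹ = D.z b ((s : k) ^ D.ht b * a) := by rw [D.δ_z, mul_inv_cancel_right]

theorem δ_U (D : GDat ι Φ k G) (s : kˣ) {u : G} (hu : u ∈ D.U) : D.δ s * u * (D.δ s)⁻¹ ∈ D.U := by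
  refine (Subgroup.closure_le (D.U.comap (MulAut.conj (D.δ s)).toMonoidHom)).2 ?_ hu
  rintro _ ⟨b, a, rfl⟩
  show D.δ s * D.z b a * (D.δ s)⁻¹ ∈ D.U
  rw [δ_conj]
  exact D.z_mem_U _ _

theorem δ_τ (D : GDat ι Φ k G) (s : kˣ) (g : G) : D.τ (D.δ s⁻¹ * g * (D.δ s⁻¹)⁻¹) = D.δ s * D.τ g * (D.δ s)⁻¹ := by
  rw [D.τ_mul, D.τ_mul, D.τ_T _ (inv_mem (D.δ_mem _)), D.τ_T _ (D.δ_mem _), δ_inv, δ_inv, inv_inv, mul_assoc]

theorem δ_Um (D : GDat ι Φ k G) (s : kˣ) {u : G} (hu : u ∈ D.Um) : D.δ s * u * (D.δ s)⁻¹ ∈ D.Um := by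
  rw [← D.τ_τ u, ← δ_τ]
  exact D.τ_U (δ_U D _ (D.τ_Um hu))

/-- transport of the lowest components along a conjugation and a scaling of the root elements -/
theorem low_tr [Infinite k] (D D' : DatR ι Φ k G) (hc : D'.c = D.c) (hM : D'.M = D.M) (hδ : D'.δ = D.δ) (hq : D'.qq = D.qq)
    {t : G} (ht : ∀ s, D.δ s * t = t * D.δ s) (hz : ∀ b, ∃ c, ∀ s, D.z b s * t = t * D'.z b (c * s)) {P P' : Subgroup G}
    (hP : ∀ u ∈ P', t * u * t⁻¹ ∈ P)
    (h : ∀ f ∈ D'.L, (∀ u ∈ P', ∀ g, f (g * u) = f g) → ∀ n, (∀ m < n, D'.H m f = 0) → D'.H n f ∈ D'.K) :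
    ∀ f ∈ D.L, (∀ u ∈ P, ∀ g, f (g * u) = f g) → ∀ n, (∀ m < n, D.H m f = 0) → D.H n f ∈ D.K := by
  intro f hf h1 n h2
  have hL : D'.L = D.L := by rw [DatR.L, DatR.L, hc]
  have hf' : RR t⁻¹ f ∈ D'.L := hL ▸ D.RR_mem _ hf
  have hH : ∀ m g, D'.H m (RR t⁻¹ f) g = D.H m f (g * t⁻¹) := fun m g => by
    obtain ⟨Q, -, hQ⟩ := D.L_pol_δ hf (g * t⁻¹)
    rw [D.H_apply hf m hQ]
    refine D'.H_apply hf' m fun s => ?_
    rw [← hQ, hM, hδ]
    show _ * f (g * D.δ s * t⁻¹) = _
    rw [mul_assoc g, mul_assoc g, show D.δ s * t⁻¹ = t⁻¹ * D.δ s by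
      rw [mul_inv_eq_iff_eq_mul, mul_assoc, ht, inv_mul_cancel_left]]
  have h3 := h _ hf' (fun u hu g => by
    show f (g * u * t⁻¹) = f (g * t⁻¹)
    rw [← h1 _ (hP u hu) (g * t⁻¹)]
    congr 1
    group) n fun m hm => _root_.funext fun g => by rw [hH, h2 m hm]; rfl
  refine ⟨D.H_mem n hf, fun b m h0 hm => _root_.funext fun g => ?_⟩
  obtain ⟨c, hc'⟩ := hz b
  obtain ⟨Q, -, hQ⟩ := D'.L_pol_z h3.1 b (g * t)
  have h4 := congrFun (h3.2 b m h0 (hq ▸ hm)) (g * t)
  rw [D'.X_apply h3.1 b m hQ] at h4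
  rw [D.X_apply (D.H_mem n hf) b m (P := Q.comp (Polynomial.C c * Polynomial.X)) fun s => by
    rw [eval_comp, eval_mul, eval_C, eval_X, ← hQ, hH, mul_assoc g t, ← hc', ← mul_assoc, mul_inv_cancel_right],
    comp_C_mul_X_coeff, h4]
  exact zero_mul _

variable [DecidableEq ι]

theorem Δ_conj (D : FDat ι Φ k G) (i : ι) {t : G} (ht : t ∈ D.T) (g : G) : D.Δ i (t * g * t⁻¹) = D.Δ i g := by
  rw [D.Δ_T i _ (inv_mem ht), D.Δ_T' i ht, ← mul_assoc, ← D.Δ_T i _ (inv_mem ht), mul_inv_cancel, D.Δ_one, one_mul]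

/-- transport of the hypotheses of the twisted engine -/
theorem hyp_tr [Infinite k] [Fintype ι] {p q : ℕ} {J S : Type} {C : J → Type} [∀ j, CommGroup (C j)] [Group S] [Finite S]
    [DecidableEq J] {E : TSys J C S} {D D' : FDat ι Φ k G} {φ : S →* G} {χ : (j : J) → C j →* kˣ} {orb : ι → J} {e : ι → ℕ}
    (h : Hyp p E D' φ χ orb e fun _ => q) (hm : E.Map D φ χ orb e) (hΔ : D'.Δ = D.Δ) (hM : D'.M = D.M) (hδ : D'.δ = D.δ)
    (hz : ∀ b, ∃ c, ∀ s, D.z b s = D'.z b (c * s)) (μ : kˣ)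
    (hτ : ∀ g ∈ ((MulAut.conj (D.δ μ)).toMonoidHom.comp φ).range, D.τ g ∈ ((MulAut.conj (D.δ μ)).toMonoidHom.comp φ).range) :
    Hyp p E D ((MulAut.conj (D.δ μ)).toMonoidHom.comp φ) χ orb e fun _ => q where
  map := ⟨fun u hu => δ_U D.toGDat μ (hm.U u hu), fun u hu => δ_Um D.toGDat μ (hm.Um u hu),
    fun u hu => mul_mem (mul_mem (D.δ_mem μ) (hm.H u hu)) (inv_mem (D.δ_mem μ)),
    fun i j b => (Δ_conj D i (D.δ_mem μ) _).trans (hm.hh i j b), fun i j => (Δ_conj D i (D.δ_mem μ) _).trans (hm.n i j),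
    hm.e_pos, hτ⟩
  Up := h.Up
  Um := h.Um
  fin := h.fin
  cyc := h.cyc
  χ_inj := h.χ_inj
  sg0 := h.sg0
  qq_pos := h.qq_pos
  cmq := cmq_const _ q
  low l hl := low_tr (datQ D (fun _ => q) l hl h.qq_pos (cmq_const _ q)) (datQ D' (fun _ => q) l hl h.qq_pos h.cmq)
    (_root_.funext fun g => Finset.prod_congr rfl fun i _ => by rw [hΔ]) (Finset.sum_congr rfl fun i _ => by rw [hM]) hδ rfl
    (t := D.δ μ) (fun s => by
      show D.δ s * D.δ μ = D.δ μ * D.δ s
      rw [← D.δ_mul, ← D.δ_mul, mul_comm]) (fun b => by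
      obtain ⟨c, hc⟩ := hz b
      refine ⟨c * ((μ : k) ^ D.ht b)⁻¹, fun s => ?_⟩
      show D.z b s * D.δ μ = D.δ μ * D'.z b _
      rw [mul_assoc, ← hc, D.δ_z, mul_inv_cancel_left₀ (pow_ne_zero _ μ.ne_zero)])
    (by rintro _ ⟨u, hu, rfl⟩; exact ⟨u, hu, rfl⟩) (h.low l hl)
  lam := h.lam

/-- the fundamental functions are permuted by the graph automorphisms -/
theorem Δ_map [Infinite k] {p : ℕ} [Fintype ι] [Fintype Φ] [DecidableEq Φ] (D : RDat p ι Φ k G)
    (hT : D.T ≤ Subgroup.closure {g | ∃ i c, g = D.hh i c}) {α : G →* G} {γ : Equiv.Perm ι}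
    (hx : ∀ i t, α (D.x i t) = D.x (γ i) t) (hy : ∀ i t, α (D.y i t) = D.y (γ i) t) (i : ι) (g : G) :
    D.Δ (γ i) (α g) = D.Δ i g := by
  have h1 : ∀ u ∈ D.U0, ∀ g, D.Δ (γ i) (g * α u) = D.Δ (γ i) g ∧ D.Δ i (g * u) = D.Δ i g := by
    intro u hu
    induction hu using Subgroup.closure_induction with
    | mem u hu => obtain ⟨j, s, rfl⟩ := hu; exact fun g => ⟨by rw [hx, D.Δ_x], D.Δ_x _ _ _ _⟩
    | one => exact fun g => ⟨by rw [map_one, mul_one], by rw [mul_one]⟩
    | mul a b _ _ h1 h2 => exact fun g => ⟨by rw [map_mul, ← mul_assoc, (h2 _).1, (h1 _).1], by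
        rw [← mul_assoc, (h2 _).2, (h1 _).2]⟩
    | inv a _ h1 => exact fun g => ⟨by rw [← (h1 _).1, map_inv, inv_mul_cancel_right], by
        rw [← (h1 _).2, inv_mul_cancel_right]⟩
  have h2 : ∀ u ∈ D.Um0, ∀ g, D.Δ (γ i) (α u * g) = D.Δ (γ i) g ∧ D.Δ i (u * g) = D.Δ i g := by
    intro u hu
    induction hu using Subgroup.closure_induction with
    | mem u hu => obtain ⟨j, s, rfl⟩ := hu; exact fun g => ⟨by rw [hy, D.Δ_y], D.Δ_y _ _ _ _⟩
    | one => exact fun g => ⟨by rw [map_one, one_mul], by rw [one_mul]⟩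
    | mul a b _ _ h1 h2 => exact fun g => ⟨by rw [map_mul, mul_assoc, (h1 _).1, (h2 _).1], by
        rw [mul_assoc, (h1 _).2, (h2 _).2]⟩
    | inv a _ h1 => exact fun g => ⟨by rw [← (h1 _).1, map_inv, mul_inv_cancel_left], by
        rw [← (h1 _).2, mul_inv_cancel_left]⟩
  have h3 : ∀ t ∈ Subgroup.closure {g | ∃ i c, g = D.hh i c}, t ∈ D.T ∧ α t ∈ D.T ∧ D.Δ (γ i) (α t) = D.Δ i t := by
    intro t ht
    induction ht using Subgroup.closure_induction with
    | mem t ht =>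
      obtain ⟨j, c, rfl⟩ := ht
      rw [D.map_hh (RingHom.id k) hx hy, D.Δ_hh, D.Δ_hh]
      exact ⟨D.hh_mem _ _, D.hh_mem _ _, by simp only [γ.apply_eq_iff_eq]; rfl⟩
    | one => exact ⟨one_mem _, by rw [map_one]; exact one_mem _, by rw [map_one, D.Δ_one, D.Δ_one]⟩
    | mul a b _ _ h1 h2 => exact ⟨mul_mem h1.1 h2.1, by rw [map_mul]; exact mul_mem h1.2.1 h2.2.1, by
        rw [map_mul, D.Δ_T _ _ h2.1, D.Δ_T _ _ h2.2.1, h1.2.2, h2.2.2]⟩
    | inv a _ h1 =>
      refine ⟨inv_mem h1.1, by rw [map_inv]; exact inv_mem h1.2.1, ?_⟩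
      have e1 := D.Δ_T i _ h1.1 a⁻¹
      have e2 := D.Δ_T (γ i) _ h1.2.1 (α a⁻¹)
      rw [← map_mul, inv_mul_cancel, map_one, D.Δ_one, h1.2.2] at e2
      rw [inv_mul_cancel, D.Δ_one] at e1
      exact mul_left_cancel₀ (left_ne_zero_of_mul_eq_one e1.symm) (e2.symm.trans e1)
  refine D.dens_eq (f := fun g => D.Δ (γ i) (α g)) (f' := D.Δ i) (fun j g h => ?_) (fun j g h => ?_) (fun v hv t ht u hu => ?_) g
  · obtain ⟨P, -, hP⟩ := D.pol_y (γ i) (γ j) (α g) (α h)
    exact ⟨P, fun s => by rw [← hP, map_mul, map_mul, hy]⟩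
  · obtain ⟨P, -, hP⟩ := D.pol_y i j g h
    exact ⟨P, hP⟩
  · show D.Δ (γ i) (α (v * t * u)) = _
    rw [map_mul, map_mul, (h1 u hu _).1, (h1 u hu _).2, (h2 v hv _).1, (h2 v hv _).2, (h3 t (hT ht)).2.2]

end gen

section grp

variable {p : ℕ} [hp : Fact p.Prime] {T : Type} [Group T] [Finite T]

theorem card_of_syl {U : Subgroup T} (hU : IsPGroup p U) (hi : ¬ p ∣ U.index) {a b e : ℕ} (ha : ¬ p ∣ a) (hb : ¬ p ∣ b)
    (h : a * Nat.card T = p ^ e * b) : Nat.card U = p ^ e := by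
  obtain ⟨m, hm⟩ := IsPGroup.iff_card.1 hU
  rw [← U.card_mul_index, hm, mul_left_comm] at h
  have h1 : ¬ p ∣ a * U.index := fun h => (hp.out.dvd_mul.1 h).elim ha hi
  rw [hm]
  refine Nat.dvd_antisymm ?_ ?_
  · exact (Nat.Coprime.pow_left m ((Nat.Prime.coprime_iff_not_dvd hp.out).2 hb)).dvd_of_dvd_mul_right ⟨_, h.symm⟩
  · exact (Nat.Coprime.pow_left e ((Nat.Prime.coprime_iff_not_dvd hp.out).2 h1)).dvd_of_dvd_mul_right ⟨_, h⟩

open Cfsg.Agent.ChevalleyStructure.CoxeterGeom Cfsg.Agent.Tits.Roots Cfsg.Agent.Nodes.BNOf in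
theorem syl_of_rgd {I W : Type*} [Fintype I] [DecidableEq I] [Group W] [Finite W] {M : CoxeterMatrix I}
    {cs : CoxeterSystem M W} {A : I → I → ℤ} {h : IsCartan M A} {H : Subgroup T} {n : I → T} {X : (I → ℤ) → Subgroup T}
    (R : RGD cs h p H n X) (hg : (⨆ i, (X (sr i) ⊔ X (-sr i))) ⊔ H = ⊤) : ¬ p ∣ (RGD.Sup X (RGD.Pos cs h)).index := by
  obtain ⟨S, hS⟩ := R.isPGroup_Upos.exists_le_sylow
  rw [← Nodes.NormalForm.eq_U_of_isPGroup R S.isPGroup' hS (le_top.trans (hg.ge.trans (sup_le (iSup_le fun i =>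
    (sup_le (RGD.le_Sup (S := {x | _root_.Cfsg.Agent.Tits.Roots.IsRoot cs h x}) (isRoot_sr cs h i))
      (RGD.le_Sup (S := {x | _root_.Cfsg.Agent.Tits.Roots.IsRoot cs h x}) (isRoot_sr cs h i).neg)).trans le_sup_right) le_sup_left)))]
  exact S.not_dvd_index

theorem cover_of (hT : commutator T = ⊤) (hN : ∀ r : ℕ, r.Prime → r ≠ p → H67.NoPCov r T) (K : Type) [Group K] [Finite K]
    (hK : IsQuasisimple K) (hp' : ¬ p ∣ Nat.card (Subgroup.center K)) (e : (K ⧸ Subgroup.center K) ≃* T ⧸ Subgroup.center T) :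
    ∃ ψ : T →* K, Function.Surjective ψ ∧ ∀ s, e (QuotientGroup.mk (ψ s)) = QuotientGroup.mk s := by
  have hk : (e.toMonoidHom.comp (QuotientGroup.mk' (Subgroup.center K))).ker = Subgroup.center K := by
    rw [← MonoidHom.comap_ker, (MonoidHom.ker_eq_bot_iff _).2 e.injective, MonoidHom.comap_bot, QuotientGroup.ker_mk']
  obtain ⟨θ, h1, h2⟩ := H905.PCover.exists_hom_of_noPCov hT hN (QuotientGroup.mk'_surjective (Subgroup.center T))
    (QuotientGroup.ker_mk' _).le hK.1.commutator_eq_top (f := e.toMonoidHom.comp (QuotientGroup.mk' _))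
    (e.surjective.comp (QuotientGroup.mk'_surjective _)) hk.le hp.out
    (by rw [hk]; exact ((Nat.Prime.coprime_iff_not_dvd hp.out).2 hp').symm)
  exact ⟨θ, h1, fun s => DFunLike.congr_fun h2 s⟩

theorem two {Γ : Type} [Group Γ] {r : Γ} (hr : r * r = 1) (γ : Subgroup.zpowers r) : γ = 1 ∨ γ.1 = r := by
  obtain ⟨_, m, rfl⟩ := γ
  rcases Int.even_or_odd' m with ⟨j, rfl | rfl⟩
  · exact Or.inl (Subtype.ext (by simp only [_root_.zpow_mul, zpow_two, hr, _root_.one_zpow]; rfl))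
  · exact Or.inr (by simp only [_root_.zpow_add, _root_.zpow_mul, zpow_two, hr, _root_.one_zpow, one_mul, zpow_one])

open Classical in
/-- a homomorphism on a group of order at most two -/
noncomputable def hom2 {Γ A : Type} [Group Γ] [Group A] {r : Γ} (hr : r * r = 1) (a : A) (ha : a * a = 1) :
    Subgroup.zpowers r →* A := MonoidHom.mk' (fun γ => if γ = 1 then 1 else a) fun γ γ' => by
  by_cases h : γ = 1
  · simp [h]
  by_cases h' : γ' = 1
  · simp only [h', _root_.mul_one, ↓ _root_.reduceIte]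
  have e : γ * γ' = 1 := Subtype.ext (by
    rw [Subgroup.coe_mul, (two hr γ).resolve_left h, (two hr γ').resolve_left h', hr]; rfl)
  simp [h, h', e, ha]

theorem hom2_of_ne {Γ A : Type} [Group Γ] [Group A] {r : Γ} (hr : r * r = 1) (a : A) (ha : a * a = 1)
    {γ : Subgroup.zpowers r} (h : γ ≠ 1) : hom2 hr a ha γ = a := if_neg h

theorem card_Pos (n : ℕ) : Fintype.card (Pos n) = (n + 1) * (n + 1 - 1) / 2 := by
  rw [Fintype.card_subtype, Fintype.card_product_filter_lt, Fintype.card_fin, Nat.choose_two_right]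

end grp

end Cfsg.Agent.TwoF.DC.TA.I
end

-- part: TwoF/DC/TA/I/Th
section
/-!
# TwoF, defining characteristic, type `A_n`, instances (3): Frobenius, graph automorphism, the constructor (helper52)
-/

set_option autoImplicit false
set_option maxHeartbeats 400000
set_option linter.unusedSectionVars false

namespace Cfsg.Agent.TwoF.DC.TA.I

open Matrix Cfsg.Agent.H45.UniE Cfsg.Agent.H356.TA Cfsg.Agent.TitsThree.KSideA
  Cfsg.Agent.Nodes.RGDTypeA Cfsg.Agent.H564.TWP

variable {p : ℕ} [hp : Fact p.Prime] {n : ℕ} {k : Type} [Field k]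

theorem mp_mp {F K : Type} [Field F] [Field K] (f : F →+* K) (f' : K →+* k) (g : SLn n F) :
    mp f' (mp f g) = mp (f'.comp f) g := rfl

theorem Fr_iter [CharP k p] (j : ℕ) (g : SLn n k) : (mp (frobenius k p))^[j] g = mp (iterateFrobenius k p j) g := by
  induction j with
  | zero => ext a b; rw [mp_apply, iterateFrobenius_def, pow_zero, pow_one]; rfl
  | succ j ih =>
    rw [Function.iterate_succ_apply', ih]
    ext a b
    rw [mp_apply, mp_apply, mp_apply, iterateFrobenius_def, iterateFrobenius_def, frobenius_def, pow_succ, pow_mul]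

/-- the graph automorphism -/
def th1 (ι : kˣ) : SLn n k →* SLn n k := (MulAut.conj (dlt n ι)).toMonoidHom.comp th0

theorem th1_apply (ι : kˣ) (g : SLn n k) : th1 ι g = dlt n ι * th0 g * (dlt n ι)⁻¹ := rfl

theorem th1_z (ι : kˣ) (b : Pos n) (t : k) :
    th1 ι ((gdA n k).z b t) = (gdA n k).z (fl n b) ((-ι ^ (gdA n k).ht (fl n b) : kˣ) * t) := by
  refine (congrArg (fun x => dlt n ι * x * (dlt n ι)⁻¹) (th0_tv b.2.ne t)).trans
    ((δ_conj (gdA n k) ι (fl n b) (-t)).trans ?_)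
  rw [Units.val_neg, Units.val_pow_eq_pow_val, neg_mul, mul_neg]

theorem fl_zA (i : Fin n) : fl n (zA i) = zA i.rev := by
  have := i.2
  refine pos_ext ?_ ?_
  all_goals simp only [fl_fst, fl_snd, zA_fst, zA_snd, Fin.val_rev]
  all_goals omega

theorem ht_zA (i : Fin n) : (gdA n k).ht (zA i) = 2 := by
  show 2 * ((i : ℕ) + 1 - i) = 2
  omega

variable {ι : kˣ} (hι : (ι : k) ^ 2 = -1)
include hι

theorem th1_x (i : Fin n) (t : k) : th1 ι ((gdA n k).x i t) = (gdA n k).x i.rev t := by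
  refine (th1_z ι (zA i) t).trans ?_
  rw [fl_zA, ht_zA, Units.val_neg, Units.val_pow_eq_pow_val, hι, neg_neg, one_mul]
  rfl

theorem th1_y (i : Fin n) (t : k) : th1 ι ((gdA n k).y i t) = (gdA n k).y i.rev t := by
  have h1 : th0 ((gdA n k).y i t) = (gdA n k).τ ((gdA n k).z (zA i.rev) (-t)) := by
    refine (th0_tv (cs_ne i).symm t).trans (Eq.trans ?_ ((gdA n k).τ_x i.rev (-t)).symm)
    rw [Fin.rev_castSucc, Fin.rev_succ]
    rfl
  rw [th1_apply, h1]
  refine (δ_τ (gdA n k) ι _).symm.trans ?_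
  rw [δ_conj, ht_zA, Units.val_inv_eq_inv_val, inv_pow, hι, inv_neg, inv_one, neg_mul_neg, one_mul]
  exact (gdA n k).τ_x i.rev t

theorem th1_th1 (g : SLn n k) : th1 ι (th1 ι g) = g :=
  DFunLike.congr_fun ((rdA 2 n k).hom_ext (α := (th1 ι).comp (th1 ι)) (β := MonoidHom.id _)
    (fun i t => (congrArg (th1 ι) (th1_x hι i t)).trans ((th1_x hι _ t).trans (by rw [Fin.rev_rev]; rfl)))
    fun i t => (congrArg (th1 ι) (th1_y hι i t)).trans ((th1_y hι _ t).trans (by rw [Fin.rev_rev]; rfl))) g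

theorem th1_mp (f : k →+* k) (g : SLn n k) : th1 ι (mp f g) = mp f (th1 ι g) :=
  DFunLike.congr_fun ((rdA 2 n k).hom_ext (α := (th1 ι).comp (mp f)) (β := (mp f).comp (th1 ι))
    (fun i t => (congrArg (th1 ι) (mp_tv f (cs_ne i) t)).trans ((th1_x hι i _).trans
      ((mp_tv f (cs_ne i.rev) t).symm.trans (congrArg (mp f) (th1_x hι i t).symm))))
    fun i t => (congrArg (th1 ι) (mp_tv f (cs_ne i).symm t)).trans ((th1_y hι i _).trans
      ((mp_tv f (cs_ne i.rev).symm t).symm.trans (congrArg (mp f) (th1_y hι i t).symm)))) g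

omit hι in
theorem rev_sq (n : ℕ) : (Fin.revPerm : Equiv.Perm (Fin n)) * Fin.revPerm = 1 := Equiv.ext Fin.rev_rev

omit hι in
theorem fl_sq (n : ℕ) : fl n * fl n = 1 := Equiv.ext fl_fl

/-- the graph automorphism -/
def thA : MulAut (SLn n k) where
  toFun := th1 ι
  invFun := th1 ι
  left_inv := th1_th1 hι
  right_inv := th1_th1 hι
  map_mul' := map_mul (th1 ι)

omit hι in
/-- the group of graph automorphisms -/
abbrev GrA (n : ℕ) : Type := Subgroup.zpowers (Fin.revPerm : Equiv.Perm (Fin n))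

/-- the action of the graph automorphisms -/
noncomputable def grA : GrA n →* MulAut (SLn n k) := hom2 (rev_sq n) (thA hι) (MulEquiv.ext fun g => th1_th1 hι g)

omit hι in
/-- the generator -/
def γ0 (n : ℕ) : GrA n := ⟨_, Subgroup.mem_zpowers _⟩

theorem grA_ne {γ : GrA n} (h : γ ≠ 1) (g : SLn n k) : grA hι γ g = th1 ι g := by rw [grA, hom2_of_ne _ _ _ h]; rfl

theorem grA_γ0 (g : SLn n k) : grA hι (γ0 n) g = th1 ι g := by
  by_cases h : γ0 n = 1
  · have h1 : ∀ i : Fin n, i.rev = i := fun i => DFunLike.congr_fun (congrArg Subtype.val h) i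
    rw [h, map_one]
    exact DFunLike.congr_fun ((rdA 2 n k).hom_ext (α := MonoidHom.id _) (β := th1 ι)
      (fun i t => ((th1_x hι i t).trans (by rw [h1]; rfl)).symm) fun i t => ((th1_y hι i t).trans (by rw [h1]; rfl)).symm) g
  · exact grA_ne hι h g

omit hι in
theorem GrA_cases (γ : GrA n) : γ = 1 ∨ (γ ≠ 1 ∧ γ.1 = Fin.revPerm) := by
  by_cases h : γ = 1
  · exact Or.inl h
  · exact Or.inr ⟨h, (two (rev_sq n) γ).resolve_left h⟩

theorem grA_x (γ : GrA n) (i : Fin n) (t : k) : grA hι γ ((gdA n k).x i t) = (gdA n k).x (γ.1 i) t := by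
  rcases GrA_cases γ with rfl | ⟨h, h'⟩
  · rw [map_one]; rfl
  · rw [grA_ne hι h, h', th1_x hι]; rfl

theorem grA_y (γ : GrA n) (i : Fin n) (t : k) : grA hι γ ((gdA n k).y i t) = (gdA n k).y (γ.1 i) t := by
  rcases GrA_cases γ with rfl | ⟨h, h'⟩
  · rw [map_one]; rfl
  · rw [grA_ne hι h, h', th1_y hι]; rfl

theorem grA_mp (γ : GrA n) (f : k →+* k) (g : SLn n k) : grA hι γ (mp f g) = mp f (grA hι γ g) := by
  rcases GrA_cases γ with rfl | ⟨h, -⟩
  · rw [map_one]; rfl
  · rw [grA_ne hι h, grA_ne hι h, th1_mp hι]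

omit hι in
theorem GrA_comm (γ γ' : GrA n) : Commute γ γ' := by
  rcases GrA_cases γ with rfl | ⟨-, h⟩
  · exact Commute.one_left _
  rcases GrA_cases γ' with rfl | ⟨-, h'⟩
  · exact Commute.one_right _
  · rw [Subtype.ext (h.trans h'.symm)]

/-- the fixed points are closed under transposition -/
theorem τ_range {T : Type} [Group T] {φ : T →* SLn n k} {σ : GrA n} {f : k →+* k}
    (hφ : ∀ g, g ∈ φ.range ↔ grA hι σ (mp f g) = g) : ∀ g ∈ φ.range, (fdA n k).τ g ∈ φ.range := fun g hg =>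
  (hφ _).2 (((rdA 2 n k).map_τ (α := (grA hι σ).toMonoidHom.comp (mp f)) (γ := σ.1) (ω := f)
    (fun i t => (congrArg (grA hι σ) (mp_tv f (cs_ne i) t)).trans (grA_x hι σ i _))
    (fun i t => (congrArg (grA hι σ) (mp_tv f (cs_ne i).symm t)).trans (grA_y hι σ i _)) g).trans
      (congrArg (fdA n k).τ ((hφ g).1 hg)))

/-- **the constructor of the instances** -/
theorem hasA_of [IsAlgClosed k] [CharP k p] {T S : Type} [Group T] [Finite T] [Group S] {f : ℕ} (hf : 0 < f) (σ : GrA n)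
    (φ : T →* SLn n k) (hinj : Function.Injective φ)
    (hφ : ∀ g, g ∈ φ.range ↔ grA hι σ (mp (iterateFrobenius k p f) g) = g)
    {J : Type} [DecidableEq J] {C : J → Type} [∀ j, CommGroup (C j)] {E : TSys J C T} {χ : (j : J) → C j →* kˣ}
    {orb : Fin n → J} {e : Fin n → ℕ} (hyp : Hyp p E (fdA n k) φ χ orb e fun _ => p ^ f)
    (hwt : ∀ (W : Type) [AddCommGroup W] [Module k W], E.Wt k W)
    (wt_le : ∀ l : Fin n → ℕ, (∀ i, l i < p ^ f) → ∀ j, TSys.wt orb e l j ≤ Nat.card (C j))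
    (wt_inj : ∀ l l' : Fin n → ℕ, (∀ i, l i < p ^ f) → (∀ i, l' i < p ^ f) → TSys.wt orb e l = TSys.wt orb e l' → l = l')
    (hU : Nat.card E.U = (p ^ f) ^ Fintype.card (Pos n)) (syl : ¬ p ∣ E.U.index) (perfect : commutator T = ⊤)
    (π : T →* S) (π_surj : Function.Surjective π)
    (cover : ∀ (K : Type) [Group K] [Finite K], IsQuasisimple K → ¬ p ∣ Nat.card (Subgroup.center K) →
      ∀ e : (K ⧸ Subgroup.center K) ≃* S, ∃ ψ : T →* K, Function.Surjective ψ ∧ ∀ s, e (QuotientGroup.mk (ψ s)) = π s)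
    (aut : ∀ α : MulAut S, ∃ (s : T) (h : SLn n k) (γ : GrA n) (j : ℕ), h ∈ Nodes.RGDTypeA.T (Fin (n + 1)) k ∧
      ∀ s₁ : T, ∃ s₂ : T, φ s₂ = h * grA hι γ (mp (iterateFrobenius k p j) (φ s₁)) * h⁻¹ ∧ α (π s₁) = π (s * s₂ * s⁻¹))
    (sub : p = 2 → σ ≠ 1 → Sub3' (rdA p n k) φ f) : HasA p n S := by
  have hΦ : ∀ γ : GrA n, (γ.1 = 1 ∧ hom2 (rev_sq n) (fl n) (fl_sq n) γ = 1) ∨
      (γ.1 = Fin.revPerm ∧ hom2 (rev_sq n) (fl n) (fl_sq n) γ = fl n) := fun γ => by
    rcases GrA_cases γ with rfl | ⟨h, h'⟩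
    · exact Or.inl ⟨rfl, map_one _⟩
    · exact Or.inr ⟨h', hom2_of_ne _ _ _ h⟩
  have hcf : ∀ (γ : GrA n) b i, cfA (hom2 (rev_sq n) (fl n) (fl_sq n) γ b) (γ.1 i) = cfA b i := fun γ b i => by
    rcases hΦ γ with ⟨h, h'⟩ | ⟨h, h'⟩ <;> rw [h, h']
    · rfl
    · have h1 := b.1.1.2
      have h2 := b.1.2.2
      have h3 := i.2
      simp only [cfA, fl_fst, fl_snd, Fin.revPerm_apply, Fin.val_rev]
      congr 1
      exact propext (by omega)
  refine ⟨k, SLn n k, inferInstance, inferInstance, inferInstance, inferInstance, rdA p n k, T, inferInstance, inferInstance,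
    { f := f, f_pos := hf, Fr := mp (frobenius k p), Fr_z := fun b t => mp_tv _ b.2.ne t
      Fr_y := fun i t => mp_tv _ (cs_ne i).symm t, Δ_Fr := fun i g => DA_mp _ i g
      Gr := GrA n, gr := grA hι, gι := Subgroup.subtype _, gΦ := hom2 (rev_sq n) (fl n) (fl_sq n)
      gι_inj := Subtype.val_injective, gr_x := grA_x hι, gr_y := grA_y hι, gr_z := fun γ b => ?_, cf_gr := hcf, co_gr := hcf
      C_gr := fun γ i j => ?_, ht_gr := fun γ b => ?_
      Δ_gr := fun γ i g => Δ_map (rdA p n k) T_le (α := (grA hι γ).toMonoidHom) (grA_x hι γ) (grA_y hι γ) i g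
      Gr_small := ?_, σ := σ, φ := φ, φ_inj := hinj, φ_fix := fun s => ?_, φ_Fr := fun s => ?_, φ_gr := fun γ hγ s => ?_
      J := J, C := C, E := E, χ := χ, orb := orb, e := e, hyp := hyp, hwt := hwt, wt_le := wt_le, wt_inj := wt_inj
      card_U := hU, syl := syl, perfect := perfect, π := π, π_surj := π_surj, cover := cover },
    isA_RA, fun γ => ?_, fun α => ?_, sub⟩
  · rcases GrA_cases γ with rfl | ⟨h, -⟩
    · exact ⟨1, fun t => by rw [map_one, map_one, Units.val_one, one_mul]; rfl⟩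
    · exact ⟨_, fun t => by rw [grA_ne hι h, hom2_of_ne _ _ _ h]; exact th1_z ι b t⟩
  · show CA (γ.1 i) (γ.1 j) = CA i j
    rcases hΦ γ with ⟨h, -⟩ | ⟨h, -⟩ <;> rw [h]
    · rfl
    · have h1 := i.2
      have h2 := j.2
      simp only [CA, Fin.revPerm_apply, Fin.val_rev]
      omega
  · rcases hΦ γ with ⟨-, h⟩ | ⟨-, h⟩ <;> rw [h]
    · rfl
    · have h1 := b.1.1.2
      have h2 := b.1.2.2
      show 2 * (((fl n b).1.2 : ℕ) - (fl n b).1.1) = 2 * ((b.1.2 : ℕ) - b.1.1)
      rw [fl_fst, fl_snd]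
      omega
  · rw [Nat.card_zpowers]
    exact (orderOf_dvd_of_pow_eq_one ((pow_two _).trans (rev_sq n))).trans ⟨3, rfl⟩
  · rw [Fr_iter]
    exact (hφ _).1 ⟨s, rfl⟩
  · refine (hφ _).2 ?_
    rw [mp_mp, show (iterateFrobenius k p f).comp (frobenius k p) = (frobenius k p).comp (iterateFrobenius k p f) from
      RingHom.ext fun x => by simp only [RingHom.comp_apply, frobenius_def, map_pow], ← mp_mp, grA_mp, (hφ _).1 ⟨s, rfl⟩]
  · refine (hφ _).2 ?_
    rw [← grA_mp, ← MulAut.mul_apply, ← map_mul, ← hγ.eq, map_mul, MulAut.mul_apply, (hφ _).1 ⟨s, rfl⟩]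
  · refine (GrA_cases γ).imp id fun hh => ⟨?_, hh.2, hom2_of_ne (rev_sq n) (fl n) (fl_sq n) hh.1⟩
    by_contra hn
    have : Subsingleton (Fin n) := Fin.subsingleton_iff_le_one.2 (by omega)
    exact hh.1 (Subsingleton.elim _ _)
  · refine (aut α).imp fun s => Exists.imp fun h => Exists.imp fun γ => Exists.imp fun j hh =>
      ⟨T_le hh.1, GrA_comm _ _, fun s₁ => (hh.2 s₁).imp fun s₂ h3 => ⟨h3.1.trans ?_, h3.2⟩⟩
    rw [← Fr_iter]

end Cfsg.Agent.TwoF.DC.TA.I
end

-- part: TwoF/DC/TA/I/SL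
section
/-!
# TwoF, defining characteristic, type `A_n`, instances (4): `SL_(n+1)(q)`, **`boxL`** (helper52)
-/

set_option autoImplicit false
set_option maxHeartbeats 400000
set_option linter.unusedSectionVars false

namespace Cfsg.Agent.TwoF.DC.TA.I

open Matrix Cfsg.Agent.H45.UniE Cfsg.Agent.H356.TA Cfsg.Agent.TitsThree.KSideA
  Cfsg.Agent.Nodes.RGDTypeA Cfsg.Agent.H564.TWP Cfsg.Agent.Nodes.RootsA Cfsg.Agent.Nodes.BNOf
  Cfsg.Agent.ChevalleyStructure.CoxeterGeom Cfsg.Agent.Tits.Roots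
open Cfsg.Agent.LieRecognition.BNCox (cA)
open Cfsg.Agent.H564.TW (datQ)

section gen

variable {ι Φ k G : Type} [Field k] [Group G] [DecidableEq ι] (D : FDat ι Φ k G)

theorem Δ_xy [Infinite k] (i j : ι) (a s : k) : D.Δ i (D.x j a * D.y j s) = if i = j then 1 + a * s else 1 := by
  obtain ⟨P, -, hP⟩ := D.pol_y i j (D.x j a) 1
  have h : P = if i = j then 1 + Polynomial.C a * Polynomial.X else 1 := by
    refine Polynomial.eq_of_infinite_eval_eq _ _ (Set.infinite_of_finite_compl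
      ((Set.finite_singleton (-a⁻¹)).subset fun s hs => by_contra fun h => hs ?_))
    have h0 : 1 + a * s ≠ 0 := fun e => h (by
      have ha : a ≠ 0 := by rintro rfl; simp at e
      show s = -a⁻¹
      field_simp
      linear_combination e)
    show P.eval s = _
    rw [← hP, mul_one, D.rank j a s (Units.mk0 _ h0) rfl, D.Δ_x, D.Δ_y, D.Δ_hh]
    split_ifs <;> simp
  rw [← mul_one (D.x j a * D.y j s), hP, h]
  split_ifs <;> simp

theorem cc_single [Fintype ι] (i : ι) (g : G) : D.cc (Pi.single i 1) g = D.Δ i g := by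
  rw [FDat.cc, Finset.prod_eq_single i (fun j _ h => by rw [Pi.single_eq_of_ne h, pow_zero])
    fun h => absurd (Finset.mem_univ _) h, Pi.single_eq_same, pow_one]

theorem wt_id [Fintype ι] (l : ι → ℕ) : TSys.wt id (fun _ => 1) l = l := funext fun j => by
  simp only [TSys.wt, id, one_mul, Finset.filter_eq', Finset.mem_univ, if_true, Finset.sum_singleton]

end gen

variable {p : ℕ} [hp : Fact p.Prime] {n : ℕ} {F : Type} [Field F]

/-- the coroots -/
noncomputable def hAm (n : ℕ) (F : Type) [Field F] (i : Fin n) : Fˣ →* SLn n F := MonoidHom.mk' (hA i) (hA_mul i)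

theorem ns_eq (i : Fin n) : ns n F i = (gdA n F).x i 1 * (gdA n F).y i (-1) * (gdA n F).x i 1 := by
  rw [ns, nn, inv_one]
  rfl

variable [Fintype F] [CharP F p]

theorem rinL : RIn (rgd (F := F) (p := p) (csA n) (isCartan n)) (fun _ => Fˣ) (hAm n F) (ns n F) where
  comm _ hs _ ht := T_comm hs ht
  hh_mem := hA_mem
  H_gen := T_le
  gen := by
    rw [eq_top_iff, ← gen_A, Subgroup.closure_le]
    rintro _ ⟨i, s, rfl | rfl⟩
    · exact Subgroup.mem_sup_left (Subgroup.mem_iSup_of_mem i (Subgroup.mem_sup_left (X_sr (F := F) i ▸ tv_mem_XX _ _ _)))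
    · exact Subgroup.mem_sup_left (Subgroup.mem_iSup_of_mem i (Subgroup.mem_sup_right (X_neg_sr (F := F) i ▸ tv_mem_XX _ _ _)))
  hn i := ⟨1, one_mem _, (one_mul _).symm⟩
  rank i u hu h1 := by
    rw [X_sr] at hu
    obtain ⟨t, rfl⟩ := hu
    have ht : -t ≠ 0 := neg_ne_zero.2 fun e => h1 (by rw [e, tv_zero])
    refine ⟨(gdA n F).y i (-1 / -t), X_neg_sr (F := F) i ▸ tv_mem_XX _ _ _, Units.mk0 _ ht,
      (gdA n F).x i ((t + 1) / -t + 1), X_sr (F := F) i ▸ tv_mem_XX _ _ _, ?_⟩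
    rw [ns_eq, ← mul_assoc, ← mul_assoc, GDat.x_add, ← mul_assoc]
    exact congrArg (· * (gdA n F).x i 1) ((congrArg (· * (gdA n F).y i (-1)) ((gdA n F).x_add i t 1).symm).trans
      ((gdA n F).rank i (t + 1) (-1) (Units.mk0 _ ht) (by rw [Units.val_mk0]; ring)))

/-- the system of `SL_(n+1)(F)` -/
noncomputable def sysL (p : ℕ) [Fact p.Prime] (n : ℕ) (F : Type) [Field F] [Fintype F] [CharP F p] :
    TSys (Fin n) (fun _ => Fˣ) (SLn n F) := ofRGD (rgd (F := F) (p := p) (csA n) (isCartan n)) rinL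

variable {k : Type} [Field k] [Algebra F k] [Infinite k] [CharP k p]

theorem Δ_un (i j : Fin n) (t : F) : (fdA n k).Δ i (mp (algebraMap F k) ((gdA n F).x j t * ns n F j)) =
    if i = j then -algebraMap F k t else 1 := by
  have hx : ∀ t, mp (algebraMap F k) ((gdA n F).x j t) = (fdA n k).x j (algebraMap F k t) := fun t => mp_tv _ (cs_ne j) t
  have hy : mp (algebraMap F k) ((gdA n F).y j (-1)) = (fdA n k).y j (algebraMap F k (-1)) := mp_tv _ (cs_ne j).symm _
  rw [ns_eq, ← mul_assoc, ← mul_assoc, ← GDat.x_add, map_mul, map_mul, hx, hx, hy, FDat.Δ_x, Δ_xy]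
  split_ifs <;> simp

theorem mapL (hτ : ∀ g ∈ (mp (n := n) (algebraMap F k)).range, (fdA n k).τ g ∈ (mp (n := n) (algebraMap F k)).range) :
    (sysL p n F).Map (fdA n k) (mp (algebraMap F k)) (fun _ => Units.map (algebraMap F k).toMonoidHom) id fun _ => 1 where
  U u hu := by
    refine RGD.Sup_le (K := (fdA n k).U.comap (mp (algebraMap F k))) (fun z hz => ?_) hu
    obtain ⟨a, b, hab, rfl⟩ := exists_of_isRoot (csA n) (isCartan n) hz.1
    rw [X_rtA hab]
    rintro _ ⟨s, rfl⟩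
    rw [Subgroup.mem_comap, mp_tv _ hab]
    exact (fdA n k).z_mem_U ⟨(a, b), lt_of_le_of_ne (rtA_nonneg_iff.1 hz.2) hab⟩ _
  Um u hu := by
    refine (Subgroup.closure_le ((fdA n k).Um.comap (mp (algebraMap F k)))).2 ?_ (UN_le hu)
    rintro _ ⟨b, s, rfl⟩
    obtain ⟨s', h⟩ := (isBc (F := F) (k := k)).w b s
    exact Subgroup.subset_closure ⟨b, s', h⟩
  H _ h := mp_mem_T _ h
  hh i j b := by
    refine (congrArg (DA i) (bcA_hA j b)).trans ?_
    rw [DA_hA, pow_one]
    rfl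
  n i j := by
    have h := Δ_un (k := k) i j (0 : F)
    rwa [GDat.x_zero, one_mul, map_zero, neg_zero] at h
  e_pos _ := one_pos
  τ := hτ

theorem hypL {f : ℕ} (hF : Fintype.card F = p ^ f)
    (hτ : ∀ g ∈ (mp (n := n) (algebraMap F k)).range, (fdA n k).τ g ∈ (mp (n := n) (algebraMap F k)).range) :
    Hyp p (sysL p n F) (fdA n k) (mp (algebraMap F k)) (fun _ => Units.map (algebraMap F k).toMonoidHom) id (fun _ => 1)
      fun _ => p ^ f := by
  have : Finite (cA n).Group := finite_W (csA n) (isCartan n)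
  have hq : 0 < p ^ f := pow_pos hp.out.pos f
  refine ⟨mapL hτ, isPGroup_U _ rinL, _root_.Cfsg.Agent.H564.TWP.isPGroup_Um _ rinL, fun _ => inferInstance, fun _ => inferInstance,
    fun _ => Units.map_injective (algebraMap F k).injective, fun a j b hb => ?_, fun _ => hq, cmq_const _ _,
    fun l hl g hg h1 m hm => ?_, fun a ha => ⟨a, fun i => ?_, fun j => congrFun (wt_id a) j⟩⟩
  · classical
    refine TSys.sg_zero_of_count (p := p) (fun c => ?_) hb
    have hx : ∀ t : F, (gdA n F).x j t ∈ (sysL p n F).X j := fun t => (X_sr (F := F) j).ge (tv_mem_XX _ _ _)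
    have h1 : ∀ t : F, (gdA n F).x j t ≠ 1 → (((sysL p n F).rr j ((gdA n F).x j t)).2.1 : F) = -t := fun t ht => by
      have h := (mapL (p := p) hτ).cc_un (Pi.single j 1) (j := j) (u := (gdA n F).x j t)
        (hx t) ht
      rw [cc_single, wt_id, Pi.single_eq_same, pow_one] at h
      exact (algebraMap F k).injective (h.symm.trans ((Δ_un j j t).trans (by rw [if_pos rfl, map_neg])))
    have h2 : (gdA n F).x j (-c) ≠ 1 := fun e => c.ne_zero (neg_eq_zero.1 (tv_inj (cs_ne j) (e.trans (tv_zero _ _).symm)))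
    rw [Nat.card_eq_one_iff_exists.2 ⟨⟨_, hx _, h2, Units.ext ((h1 _ h2).trans (neg_neg _))⟩, ?_⟩,
      Nat.cast_one]
    rintro ⟨u, hu, h3, h4⟩
    obtain ⟨t, rfl⟩ := (X_sr (F := F) j).le hu
    exact Subtype.ext (congrArg ((gdA n F).x j) (neg_eq_iff_eq_neg.1 ((h1 t h3).symm.trans (congrArg Units.val h4))))
  · exact (datQ (fdA n k) _ l hl _ _).low_split (Fq := F) (fun _ => hF.symm)
      (P := (sysL p n F).U.map (mp (algebraMap F k))) (fun b s => ⟨_, Up_le (Subgroup.subset_closure ⟨b, s, rfl⟩), mp_tv _ b.2.ne s⟩) g hg h1 m hm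
  · have h := ha i
    rw [Nat.card_units, Nat.card_eq_fintype_card, hF] at h
    omega

omit [Algebra F k] [Infinite k] [CharP k p] [Fintype F] [CharP F p]

theorem not_dvd_sub {f m : ℕ} (hf : 0 < f) (hm : 0 < m) : ¬ p ∣ (p ^ f) ^ m - 1 := fun h => by
  have h1 : p ∣ (p ^ f) ^ m := dvd_pow (dvd_pow_self p hf.ne') hm.ne'
  have h2 := Nat.dvd_sub h1 h
  rw [Nat.sub_sub_self (Nat.one_le_pow _ _ (pow_pos hp.out.pos f))] at h2
  exact hp.out.ne_one (Nat.dvd_one.1 h2)

theorem exists_dec {m : Matrix (Fin (n + 1)) (Fin (n + 1)) F} (d : Fin (n + 1) → Fˣ) (hd : ((∏ a, d a : Fˣ) : F) = m.det) :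
    ∃ s : SLn n F, m = s.1 * diagonal fun a => (d a : F) :=
  ⟨⟨m * diagonal fun a => (((d a)⁻¹ : Fˣ) : F), by
    rw [det_mul, det_diagonal, ← hd, ← Units.coe_prod, Finset.prod_inv_distrib, Units.mul_inv]⟩, by
    show m = m * _ * _
    simp only [Matrix.mul_assoc, diagonal_mul_diagonal, Units.inv_mul, diagonal_one, Matrix.mul_one]⟩

/-- conjugation by `s * d`, `d` diagonal, is inner * diagonal -/
theorem exists_h [IsAlgClosed k] (ψ : F →+* k) (s : SLn n F) (d : Fin (n + 1) → Fˣ) : ∃ h ∈ T (Fin (n + 1)) k,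
    ∀ z y : SLn n F, z.1 * (s.1 * diagonal fun a => (d a : F)) = (s.1 * diagonal fun a => (d a : F)) * y.1 →
      mp ψ (s⁻¹ * z * s) = h * mp ψ y * h⁻¹ := by
  obtain ⟨c, hc⟩ := IsAlgClosed.exists_pow_nat_eq (ψ (∏ a, d a : Fˣ)) n.succ_pos
  have hc0 : c ≠ 0 := fun e => (map_ne_zero ψ).2 (∏ a, d a : Fˣ).ne_zero (by rw [← hc, e, zero_pow n.succ_ne_zero])
  refine ⟨dl (fun a => Units.map ψ.toMonoidHom (d a) * (Units.mk0 c hc0)⁻¹) (by
    rw [Finset.prod_mul_distrib, ← map_prod, Finset.prod_const, Finset.card_univ, Fintype.card_fin, inv_pow, mul_inv_eq_one]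
    exact Units.ext hc.symm), dl_mem _ _, fun z y h => ?_⟩
  have h1 : (s⁻¹ * z * s).1 * (diagonal fun a => (d a : F)) = (diagonal fun a => (d a : F)) * y.1 := by
    rw [val_mul, val_mul, Matrix.mul_assoc, Matrix.mul_assoc, h, ← Matrix.mul_assoc, ← Matrix.mul_assoc, val_inv_mul,
      Matrix.one_mul]
  rw [eq_mul_inv_iff_mul_eq]
  ext a b
  have h2 := congrArg ψ (congrFun (congrFun h1 a) b)
  rw [mul_diagonal, diagonal_mul, map_mul, map_mul] at h2
  show ((mp ψ (s⁻¹ * z * s)).1 * diagonal _ : Matrix _ _ k) a b = (diagonal _ * (mp ψ y).1 : Matrix _ _ k) a b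
  rw [mul_diagonal, diagonal_mul, mp_apply, mp_apply, Units.val_mul, Units.val_mul, mul_right_comm, ← mul_assoc]
  exact congrArg (· * _) h2

theorem exists_conj (g : GL (Fin (n + 1)) F) (y : SLn n F) : ∃ z : SLn n F, z.1 = g.1 * y.1 * (g⁻¹).1 :=
  ⟨⟨g.1 * y.1 * (g⁻¹).1, by rw [det_mul, det_mul, y.2, mul_one, ← det_mul, g.mul_inv, det_one]⟩, rfl⟩

theorem mp_σ [CharP k p] (ψ : F →+* k) {σ : F ≃+* F} {j : ℕ} (h : ∀ x, σ x = x ^ p ^ j) (s : SLn n F) :
    mp ψ (mp σ.toRingHom s) = mp (iterateFrobenius k p j) (mp ψ s) := by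
  ext a b
  rw [mp_apply, mp_apply, mp_apply, mp_apply, iterateFrobenius_def, ← map_pow, ← h]
  rfl

theorem exists_ι [IsAlgClosed k] : ∃ ι : kˣ, (ι : k) ^ 2 = -1 := by
  obtain ⟨c, hc⟩ := IsAlgClosed.exists_pow_nat_eq (-1 : k) two_pos
  exact ⟨Units.mk0 c fun e => by simp [e] at hc, hc⟩

/-- **the instance `SL_(n+1)(q)`** -/
theorem boxL : BoxL := by
  intro p hp F _ _ _ n hn hs
  let k := AlgebraicClosure F
  obtain ⟨⟨f, hf⟩, -, hF⟩ := FiniteField.card F p
  have hF : Fintype.card F = p ^ f := hF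
  obtain ⟨ι, hι⟩ := exists_ι (k := k)
  have : Finite (cA n).Group := finite_W (csA n) (isCartan n)
  have hφ : ∀ g : SLn n k, g ∈ (mp (algebraMap F k)).range ↔ grA hι 1 (mp (iterateFrobenius k p f) g) = g := fun g => by
    rw [map_one]
    refine ⟨?_, fun h => exists_mp _ fun a b => H421.Uni.exists_of_pow (hF ▸ congrArg (fun x : SLn n k => x.1 a b) h)⟩
    rintro ⟨s, rfl⟩
    ext a b
    show algebraMap F k _ ^ p ^ f = _
    rw [← map_pow, ← hF, FiniteField.pow_card]
    rfl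
  have syl : ¬ p ∣ (sysL p n F).U.index := syl_of_rgd (rgd (csA n) (isCartan n)) (rinL (p := p)).gen
  have hT := H905.Md.sl_perfect (K := F) hn fun h => Nat.card_eq_fintype_card (α := F) ▸ hs h
  refine hasA_of hι hf 1 (mp (algebraMap F k)) (mp_inj _) hφ (hypL hF (τ_range hι hφ)) (fun W _ _ => wt_ofRGD _ rinL)
    (fun l hl j => ?_) (fun l l' _ _ h => by rwa [wt_id, wt_id] at h) ?_ syl hT (QuotientGroup.mk' _)
    (QuotientGroup.mk'_surjective _) (cover_of hT fun r hr hne => H60.CrossA.noPCov_SL_cross n p hr hne) (fun β => ?_)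
    fun _ h => absurd rfl h
  · have h := hl j
    rw [wt_id, Nat.card_units, Nat.card_eq_fintype_card, hF]
    omega
  · rw [← pow_mul]
    refine card_of_syl (isPGroup_U _ rinL) syl (a := p ^ f - 1) (b := ∏ i : Fin (n + 1), ((p ^ f) ^ (n + 1 - i) - 1))
      (pow_one (p ^ f) ▸ not_dvd_sub hf one_pos) (fun h => ?_) ?_
    · obtain ⟨i, -, hi⟩ := hp.out.prime.exists_mem_finset_dvd h
      exact not_dvd_sub hf (Nat.sub_pos_of_lt i.2) hi
    · rw [S0242.result hF (n + 1) n.succ_pos, pow_mul, card_Pos, ← Finset.sum_range_id, ← Fin.sum_univ_eq_sum_range (fun i => i),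
        ← Finset.prod_pow_eq_pow_sum, ← Finset.prod_mul_distrib]
      exact Finset.prod_congr rfl fun i _ => by rw [Nat.mul_sub, ← pow_add, Nat.add_sub_cancel' i.2.le, mul_one]
  · obtain ⟨δ, φ, γ, σ, ⟨g, hδ⟩, hφ', hγ, rfl⟩ := S2690.result hF hf (n := n + 1) (by omega) (fun h => hs (by omega)) β
    obtain ⟨j, hj, -⟩ := H481.OddAut.exists_pow hF σ
    have hg : g.1.det ≠ 0 := (Matrix.isUnit_iff_isUnit_det _).1 g.isUnit |>.ne_zero
    rcases hγ with rfl | hγ
    · obtain ⟨s, hs⟩ := exists_dec (m := g.1) (Pi.mulSingle 0 (Units.mk0 _ hg)) (by rw [Finset.prod_pi_mulSingle']; simp)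
      obtain ⟨h, hh, h1⟩ := exists_h (algebraMap F k) s (Pi.mulSingle 0 (Units.mk0 _ hg))
      refine ⟨s, h, 1, j, hh, fun s₁ => ?_⟩
      obtain ⟨z, hz⟩ := exists_conj g (mp σ.toRingHom s₁)
      refine ⟨s⁻¹ * z * s, ?_, ?_⟩
      · rw [h1 z (mp σ.toRingHom s₁) (by rw [← hs, hz, Matrix.mul_assoc, g.inv_mul, Matrix.mul_one]), mp_σ _ hj, map_one]
        rfl
      · rw [mul_one, MulAut.mul_apply, QuotientGroup.mk'_apply, hφ' s₁ (mp σ.toRingHom s₁) rfl, hδ _ z hz]
        exact congrArg _ (by group)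
    · have hg' : (g.1.submatrix id Fin.revPerm).det ≠ 0 := by
        rw [det_permute']
        exact mul_ne_zero (by rcases Int.units_eq_one_or (Equiv.Perm.sign (Fin.revPerm : Equiv.Perm (Fin (n + 1)))) with
          h | h <;> simp [h]) hg
      obtain ⟨s, hs⟩ := exists_dec (m := g.1.submatrix id Fin.revPerm) (Pi.mulSingle 0 (Units.mk0 _ hg'))
        (by rw [Finset.prod_pi_mulSingle']; simp)
      obtain ⟨h, hh, h1⟩ := exists_h (algebraMap F k) s (Pi.mulSingle 0 (Units.mk0 _ hg'))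
      refine ⟨s, h * (dlt n ι)⁻¹, γ0 n, j, mul_mem hh (inv_mem (dl_mem _ _)), fun s₁ => ?_⟩
      obtain ⟨z, hz⟩ := exists_conj g (mp σ.toRingHom s₁⁻¹.transpose)
      refine ⟨s⁻¹ * z * s, ?_, ?_⟩
      · rw [h1 z (mp σ.toRingHom (th0 s₁)) (by
          rw [← hs]
          show (z.1 * g.1).submatrix id Fin.revPerm = _
          rw [hz, Matrix.mul_assoc, g.inv_mul, Matrix.mul_one]
          exact (submatrix_mul_equiv _ _ id Fin.revPerm Fin.revPerm).symm), mp_σ _ hj, grA_γ0, th1_apply, mp_th0, mp_th0]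
        group
      · rw [MulAut.mul_apply, MulAut.mul_apply, QuotientGroup.mk'_apply, hγ s₁ s₁⁻¹.transpose rfl,
          hφ' _ (mp σ.toRingHom s₁⁻¹.transpose) rfl, hδ _ z hz]
        exact congrArg _ (by group)

end Cfsg.Agent.TwoF.DC.TA.I
end

-- part: TwoF/DC/TA/I/SU
section
/-!
# TwoF, defining characteristic, type `A_n`, instances (5): `SU_(n+1)(q)`, **`boxU`** (helper52)
-/

set_option autoImplicit false
set_option maxHeartbeats 400000
set_option linter.unusedSectionVars false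

namespace Cfsg.Agent.TwoF.DC.TA.I

open Matrix Cfsg.Agent.H45.UniE Cfsg.Agent.H356.TA Cfsg.Agent.TitsThree.KSideA
  Cfsg.Agent.Nodes.RGDTypeA Cfsg.Agent.H564.TWP Cfsg.Agent.LieClassical.HermBasic
open Cfsg.Agent.H356.TU (SJ Jm Jm_mul mul_Jm Jm_Jm map_Jm mem_SJ UB exists_UB phi chi orb ee Cs sysU fdE cjSL mem_SU_mat)

variable {p : ℕ} [hp : Fact p.Prime] {n : ℕ} {k : Type} [Field k]

/-! ### the subgroup of `Sp_4` -/

section three

/-- the elements of the elementary abelian subgroup -/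
noncomputable def g3 (s t u : k) : SLn 3 k := tv 0 1 s * tv 2 3 s * (tv 0 2 t * tv 1 3 t) * tv 0 3 u

theorem m4 (s t u : k) : ((1 + single (0 : Fin 4) (1 : Fin 4) s) * (1 + single 2 3 s) * ((1 + single 0 2 t) * (1 + single 1 3 t)) *
    (1 + single 0 3 u) : Matrix (Fin 4) (Fin 4) k) = !![1, s, t, s * t + u; 0, 1, 0, t; 0, 0, 1, s; 0, 0, 0, 1] := by
  simp (decide := true) only [add_mul, mul_add, one_mul, mul_one, single_mul_single_same, single_mul_single_of_ne, add_zero, ne_eq]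
  ext i j
  (revert i j; simp only [_root_.Fin.forall_fin_succ, Fin.isValue, _root_.Matrix.add_apply, _root_.Matrix.of_apply, _root_.Matrix.cons_val', _root_.Matrix.cons_val_fin_one, _root_.one_ne_zero, _root_.and_false, _root_.not_false_eq_true, _root_.Matrix.single_apply_of_ne, _root_.add_zero, Fin.reduceEq, _root_.Matrix.cons_val_zero, _root_.Matrix.cons_val_succ, _root_.Fin.succ_zero_eq_one, _root_.Fin.succ_one_eq_two, Fin.reduceSucc, _root_.IsEmpty.forall_iff, _root_.and_true, _root_.Matrix.one_apply_eq, Nat.reduceAdd, _root_.ne_eq, _root_.zero_ne_one, _root_.Matrix.one_apply_ne, _root_.Matrix.single_apply_same, _root_.zero_add, _root_.and_self, _root_.Fin.succ_ne_zero, _root_.true_and])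

theorem m5 (s t u s' t' u' : k) : (!![1, s, t, s * t + u; 0, 1, 0, t; 0, 0, 1, s; 0, 0, 0, 1] *
    !![1, s', t', s' * t' + u'; 0, 1, 0, t'; 0, 0, 1, s'; 0, 0, 0, 1] : Matrix (Fin 4) (Fin 4) k) =
    !![1, s + s', t + t', (s + s') * (t + t') + (u + u'); 0, 1, 0, t + t'; 0, 0, 1, s + s'; 0, 0, 0, 1] := by
  ext i j
  (revert i j; simp only [Matrix.mul_apply, Fin.sum_univ_four, _root_.Fin.forall_fin_succ, _root_.Matrix.of_apply, _root_.Matrix.cons_val', _root_.Matrix.cons_val_fin_one, Fin.isValue, _root_.Matrix.cons_val_zero, _root_.Matrix.cons_val_one, _root_.Matrix.cons_val, _root_.mul_one, _root_.MulZeroClass.mul_zero, _root_.add_zero, _root_.Matrix.cons_val_succ, _root_.forall_const, _root_.true_and, _root_.one_mul, _root_.add_eq_right, _root_.mul_eq_zero, _root_.true_or, _root_.MulZeroClass.zero_mul, _root_.zero_add, _root_.and_self, _root_.implies_true, _root_.and_true]) <;> (repeat' with_reducible apply And.intro) <;> ring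

theorem g3_val (s t u : k) : (g3 s t u).1 = !![1, s, t, s * t + u; 0, 1, 0, t; 0, 0, 1, s; 0, 0, 0, 1] := by
  rw [← m4, g3, val_mul, val_mul, val_mul, val_mul, tv_val (by decide), tv_val (by decide), tv_val (by decide),
    tv_val (by decide), tv_val (by decide)]

theorem g3_mul (s t u s' t' u' : k) : g3 s t u * g3 s' t' u' = g3 (s + s') (t + t') (u + u') :=
  Subtype.ext (by rw [val_mul, g3_val, g3_val, g3_val, m5])

theorem g3_zero : g3 (0 : k) 0 0 = 1 := by simp only [g3, tv_zero, mul_one]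

theorem sub3 [CharP k p] (h2 : p = 2) {ι : kˣ} (hι : (ι : k) ^ 2 = -1) {T : Type} [Group T] [Finite T] {φ : T →* SLn 3 k}
    (hinj : Function.Injective φ) {Fq : k →+* k} (hφ : ∀ g, th1 ι (mp Fq g) = g → g ∈ φ.range) {A : Type} {c : A → k}
    (hc : Function.Injective c) (hfix : ∀ a, Fq (c a) = c a) {f : ℕ} (hA : Nat.card A = p ^ f) :
    Sub3 (rdA p 3 k) φ f := by
  subst h2
  have hz : ∀ (b : Pos 3) t, th1 ι (tv b.1.1 b.1.2 t) = tv b.1.2.rev b.1.1.rev t := fun b t => (th1_z ι b t).trans (by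
    show tv _ _ (-((ι ^ (2 * _) : kˣ) : k) * t) = _
    rw [Units.val_pow_eq_pow_val, pow_mul, hι, CharTwo.neg_eq, CharTwo.neg_eq, one_pow, one_mul]
    rfl)
  have hg : ∀ a : A × A × A, ∃ x, φ x = g3 (c a.1) (c a.2.1) (c a.2.2) := fun a => hφ _ (by
    simp only [g3, map_mul, mp_tv Fq (show (0 : Fin 4) ≠ 1 by decide), mp_tv Fq (show (2 : Fin 4) ≠ 3 by decide),
      mp_tv Fq (show (0 : Fin 4) ≠ 2 by decide), mp_tv Fq (show (1 : Fin 4) ≠ 3 by decide),
      mp_tv Fq (show (0 : Fin 4) ≠ 3 by decide), hfix]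
    rw [show th1 ι (tv 0 1 _) = tv 2 3 _ from hz (r3 0 1) _, show th1 ι (tv 2 3 _) = tv 0 1 _ from hz (r3 2 3) _,
      show th1 ι (tv 0 2 _) = tv 1 3 _ from hz (r3 0 2) _, show th1 ι (tv 1 3 _) = tv 0 2 _ from hz (r3 1 3) _,
      show th1 ι (tv 0 3 _) = tv 0 3 _ from hz (r3 0 3) _, (tv_commute (a := (2 : Fin 4)) (b := 3) (c := 0) (d := 1) (by decide)
        (by decide) _ _).eq, (tv_commute (a := (1 : Fin 4)) (b := 3) (c := 0) (d := 2) (by decide) (by decide) _ _).eq])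
  choose x hx using hg
  let B : Subgroup T :=
    { carrier := {y | ∃ s t u, φ y = g3 s t u}
      mul_mem' := by
        rintro _ _ ⟨s, t, u, h⟩ ⟨s', t', u', h'⟩
        exact ⟨_, _, _, by rw [map_mul, h, h', g3_mul]⟩
      one_mem' := ⟨0, 0, 0, by rw [map_one, g3_zero]⟩
      inv_mem' := by
        rintro _ ⟨s, t, u, h⟩
        refine ⟨-s, -t, -u, ?_⟩
        rw [map_inv, h, inv_eq_iff_mul_eq_one, g3_mul, add_neg_cancel, add_neg_cancel, add_neg_cancel, g3_zero] }
  refine ⟨?_, B, ⟨⟨⟨?_⟩⟩, ?_⟩, ?_, fun y hy => hy⟩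
  · have h : g3 (1 : k) 0 0 * g3 0 1 0 = g3 0 1 0 * g3 1 0 0 := by rw [g3_mul, g3_mul, add_comm]
    simp only [g3, tv_zero, mul_one, one_mul] at h
    exact h
  · rintro ⟨y, s, t, u, h⟩ ⟨y', s', t', u', h'⟩
    refine Subtype.ext (hinj ?_)
    show φ (y * y') = φ (y' * y)
    rw [map_mul, map_mul, h, h', g3_mul, g3_mul, add_comm s, add_comm t, add_comm u]
  · rintro y ⟨s, t, u, h⟩
    refine hinj ?_
    rw [pow_two, map_mul, h, g3_mul, CharTwo.add_self_eq_zero, CharTwo.add_self_eq_zero, CharTwo.add_self_eq_zero, g3_zero,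
      map_one]
  · rw [← hA, pow_succ', pow_two, ← Nat.card_prod, ← Nat.card_prod]
    refine Nat.card_le_card_of_injective (fun a => (⟨x a, _, _, _, hx a⟩ : B)) fun a a' h => ?_
    have h1 := congrArg Subtype.val ((hx a).symm.trans ((congrArg φ (congrArg Subtype.val h)).trans (hx a')))
    rw [g3_val, g3_val] at h1
    have e1 : c a.1 = c a'.1 := congrFun (congrFun h1 0) 1
    have e2 : c a.2.1 = c a'.2.1 := congrFun (congrFun h1 0) 2
    have e3 : c a.1 * c a.2.1 + c a.2.2 = c a'.1 * c a'.2.1 + c a'.2.2 := congrFun (congrFun h1 0) 3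
    rw [e1, e2, add_right_inj] at e3
    exact Prod.ext (hc e1) (Prod.ext (hc e2) (hc e3))

end three

/-! ### the unitary group of the antidiagonal form -/

variable {F : Type} [Field F]

theorem th0_val (g : SLn n F) : (th0 g).1 = Jm F n * (g⁻¹).1ᵀ * Jm F n := by
  ext a b
  rw [mul_Jm, Jm_mul, th0_apply]
  rfl

variable [Fintype F] {q : ℕ} (hF : Fintype.card F = q ^ 2)

theorem mem_SJ_iff {M : SLn n F} : M ∈ SJ hF n ↔ mp (conj hF).toRingHom M = th0 M := by
  refine Iff.trans ?_ Subtype.ext_iff.symm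
  rw [mem_SJ, th0_val]
  show _ ↔ M.1.map (conj hF) = _
  refine ⟨fun h => ?_, fun h => ?_⟩
  · rw [Matrix.mul_assoc]
    conv_rhs => rhs; rw [← h]
    rw [Matrix.mul_assoc, ← Matrix.mul_assoc _ M.1ᵀ, ← transpose_mul, val_mul_inv, transpose_one, Matrix.one_mul,
      ← Matrix.mul_assoc, Jm_Jm, Matrix.one_mul]
  · rw [h, Matrix.mul_assoc, Matrix.mul_assoc, ← Matrix.mul_assoc (Jm F n), Jm_Jm, Matrix.one_mul, ← Matrix.mul_assoc,
      ← transpose_mul, val_inv_mul, transpose_one, Matrix.one_mul]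

theorem mem_range_phi [Algebra F k] {Fq : k →+* k} (hq : ∀ x, Fq x = x ^ q) (g : SLn n k) :
    g ∈ (phi hF n k).range ↔ th0 (mp Fq g) = g := by
  have h0 : ∀ M : SLn n F, mp Fq (mp (algebraMap F k) M) = mp (algebraMap F k) (mp (conj hF).toRingHom M) := fun M => by
    ext a b
    rw [mp_apply, mp_apply, mp_apply, mp_apply, hq, ← map_pow]
    rfl
  refine ⟨?_, fun h => ?_⟩
  · rintro ⟨s, rfl⟩
    show th0 (mp Fq (mp (algebraMap F k) s.1)) = mp (algebraMap F k) s.1
    rw [h0, (mem_SJ_iff hF).1 s.2, mp_th0, th0_th0]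
  · have h1 : mp Fq g = th0 g := (th0_th0 _).symm.trans (congrArg th0 h)
    obtain ⟨M, rfl⟩ := exists_mp (algebraMap F k) (g := g) fun a b => H421.Uni.exists_of_pow (by
      have h2 := congrArg (fun x : SLn n k => x.1 a b) ((congrArg (mp Fq) h1).trans ((mp_th0 Fq g).trans h))
      rwa [hF, pow_two, pow_mul, ← hq, ← hq])
    exact ⟨⟨M, (mem_SJ_iff hF).2 (mp_inj (algebraMap F k) (by rw [← h0, h1, mp_th0]))⟩, rfl⟩

include hF in
theorem card_Cs (j : ℕ) : (if 2 * j + 2 = n + 1 then q else q ^ 2) ≤ Nat.card (Cs (F := F) q n j) + 1 := by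
  split_ifs with h
  · rw [← Finite.card_option]
    refine (card_fixed hF).ge.trans (Nat.card_le_card_of_surjective (fun o : Option (Cs (F := F) q n j) => match o with
      | none => ⟨0, zero_pow_q hF⟩
      | some b => ⟨(b.1 : F), by rw [← Units.val_pow_eq_pow_val, b.2 h]⟩) ?_)
    rintro ⟨x, hx⟩
    by_cases h0 : x = 0
    · exact ⟨none, Subtype.ext h0.symm⟩
    · exact ⟨some ⟨Units.mk0 x h0, fun _ => Units.ext hx⟩, rfl⟩
  · rw [(Subgroup.eq_top_iff' (Cs (F := F) q n j)).2 fun _ h' => absurd h' h, Subgroup.card_top, Nat.card_units,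
      Nat.card_eq_fintype_card, hF]
    omega

/-- unitary matrices are special unitary * diagonal -/
theorem exists_decU (hn : 1 ≤ n) {m : Matrix (Fin (n + 1)) (Fin (n + 1)) F} (hm : mᵀ * Jm F n * m.map (conj hF) = Jm F n) :
    ∃ s ∈ SJ hF n, ∃ d : Fin (n + 1) → Fˣ, m = s.1 * diagonal fun a => (d a : F) := by
  have h1 : m.det * conj hF m.det = 1 := by
    have h2 := congrArg det hm
    have h3 := congrArg det (Jm_Jm (F := F) (n := n))
    rw [det_mul, det_one] at h3
    rw [det_mul, det_mul, det_transpose, mul_right_comm, mul_eq_right₀ (left_ne_zero_of_mul_eq_one h3)] at h2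
    rw [← h2]
    exact congrArg _ ((conj hF).toRingHom.map_det m)
  obtain ⟨y, hy, h2⟩ := TitsThree.PQClass.hilbert90 (conj hF) (pow_q_pow_q hF) (exists_not_fixed hF) h1
  have h0 : (0 : Fin (n + 1)) ≠ Fin.last n := fun e => by have := congrArg Fin.val e; simp at this; omega
  let d : Fin (n + 1) → Fˣ := Pi.mulSingle 0 (Units.mk0 y hy) * Pi.mulSingle (Fin.last n) (Units.mk0 y hy ^ q)⁻¹
  have hd : ∀ x, d x * d x.rev ^ q = 1 := fun x => by
    by_cases hx : x = 0
    · simp [d, hx, h0, h0.symm, H356.TU.units_pow_q hF]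
    by_cases hx' : x = Fin.last n
    · simp [d, hx', h0, h0.symm]
    · simp [d, hx, hx', Fin.rev_eq_iff]
  obtain ⟨s, hs⟩ := exists_dec (m := m) d (by
    simp only [d, Pi.mul_apply, Finset.prod_mul_distrib, Finset.prod_pi_mulSingle', Finset.mem_univ, if_true, Units.val_mul,
      Units.val_inv_eq_inv_val, Units.val_pow_eq_pow_val, Units.val_mk0]
    rw [mul_inv_eq_iff_eq_mul₀ (pow_ne_zero _ hy)]
    exact h2.symm)
  refine ⟨s, ?_, d, hs⟩
  rw [hs, H356.TU.map_mul_conj, transpose_mul, diagonal_transpose, diagonal_map (map_zero _), Matrix.mul_assoc, Matrix.mul_assoc,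
    ← Matrix.mul_assoc (Jm F n), ← Matrix.mul_assoc s.1ᵀ, ← Matrix.mul_assoc s.1ᵀ] at hm
  ext x z
  have h3 := congrFun (congrFun hm x) z
  rw [diagonal_mul, mul_diagonal, mul_left_comm] at h3
  by_cases hz : z = x.rev
  · rw [← h3, hz, conj_apply, ← Units.val_pow_eq_pow_val, ← Units.val_mul, hd, Units.val_one, mul_one]
  · have h4 : Jm F n x z = 0 := if_neg hz
    rw [h4] at h3 ⊢
    exact (mul_eq_zero.1 h3).resolve_right (mul_ne_zero (d x).ne_zero ((map_ne_zero _).2 (d z).ne_zero))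

theorem digit {q a b a' b' : ℕ} (ha : a < q) (ha' : a' < q) (h : a + q * b = a' + q * b') : a = a' ∧ b = b' := by
  have h1 := congrArg (· % q) h
  simp only [Nat.add_mul_mod_self_left, Nat.mod_eq_of_lt ha, Nat.mod_eq_of_lt ha'] at h1
  exact ⟨h1, Nat.eq_of_mul_eq_mul_left (by omega : 0 < q) (by omega)⟩

/-- the automorphisms in the Witt basis -/
theorem autU {f : ℕ} (hf : 0 < f) (hF : Fintype.card F = (p ^ f) ^ 2) (U : UB hF n) (hn : 2 ≤ n) (hs : ¬ (n = 2 ∧ p ^ f = 2))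
    (β : MulAut (PSU (n + 1) F (p ^ f))) : ∃ (s : SJ hF n) (d : Fin (n + 1) → Fˣ) (σ : F ≃+* F), ∀ s₁ : SJ hF n, ∃ z : SJ hF n,
      z.1.1 * (s.1.1 * diagonal fun a => (d a : F)) = (s.1.1 * diagonal fun a => (d a : F)) * (mp σ.toRingHom s₁.1).1 ∧
        β (QuotientGroup.mk (U.psi.symm s₁)) = QuotientGroup.mk (U.psi.symm z) := by
  obtain ⟨δ, φ', σ, ⟨g, hg, hδ⟩, hφ', rfl⟩ := S2692.result rfl hf hF (n := n + 1) (by omega) (fun h => hs ⟨by omega, h.2⟩) β
  have hg1 : g.1ᵀ * g.1.map (conj hF) = 1 := (LieClassical.GUOrder.mul_map_eq_one_iff hF g.1).1 hg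
  have hg2 : (g⁻¹).1ᵀ * (g⁻¹).1.map (conj hF) = 1 := (LieClassical.GUOrder.mul_map_eq_one_iff hF (g⁻¹).1).1 (inv_mem hg)
  have hσ : ∀ A : Matrix (Fin (n + 1)) (Fin (n + 1)) F, (A.map σ)ᵀ * (A.map σ).map (conj hF) = (Aᵀ * A.map (conj hF)).map σ :=
    fun A => by
    rw [Matrix.map_mul (f := σ), transpose_map]
    exact congrArg _ (Matrix.ext fun a b => (map_pow σ _ _).symm)
  obtain ⟨s, hs', d, hm⟩ := exists_decU hF (by omega) (m := (U.Pg⁻¹).1 * (g.1 * U.P.map σ)) (by
    rw [transpose_mul, H356.TU.map_mul_conj, ← U.gramP, Matrix.mul_assoc, Matrix.mul_assoc, Matrix.mul_assoc,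
      ← Matrix.mul_assoc (U.P.map _), ← H356.TU.map_mul_conj, U.mul_Pg_inv, H356.TU.map_one_conj, Matrix.one_mul,
      ← Matrix.mul_assoc _ U.Pᵀ, ← transpose_mul, U.mul_Pg_inv, transpose_one, Matrix.one_mul, transpose_mul,
      H356.TU.map_mul_conj, Matrix.mul_assoc, ← Matrix.mul_assoc g.1ᵀ, hg1, Matrix.one_mul, hσ, U.gramP]
    ext a b
    simp [Jm, apply_ite σ])
  refine ⟨⟨s, hs'⟩, d, σ, fun s₁ => ?_⟩
  have h2 : mp σ.toRingHom (U.psi.symm s₁).1 ∈ SU (n + 1) F (p ^ f) := (mem_SU_mat hF).2 ((hσ _).trans (by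
    rw [(mem_SU_mat hF).1 (U.psi.symm s₁).2]
    exact Matrix.map_one _ (map_zero σ) (map_one σ)))
  obtain ⟨z, hz⟩ := exists_conj g (mp σ.toRingHom (U.psi.symm s₁).1)
  have h3 : z ∈ SU (n + 1) F (p ^ f) := (mem_SU_mat hF).2 (by
    rw [hz, transpose_mul, transpose_mul, H356.TU.map_mul_conj, H356.TU.map_mul_conj, Matrix.mul_assoc, Matrix.mul_assoc,
      Matrix.mul_assoc, ← Matrix.mul_assoc g.1ᵀ, hg1, Matrix.one_mul, ← Matrix.mul_assoc _ (Matrix.map _ _),
      (mem_SU_mat hF).1 h2, Matrix.one_mul, hg2])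
  refine ⟨U.psi ⟨z, h3⟩, ?_, ?_⟩
  · have h4 : (mp σ.toRingHom (U.psi.symm s₁).1).1 * U.P.map σ = U.P.map σ * (mp σ.toRingHom s₁.1).1 := by
      show ((U.Pg⁻¹⁻¹).1 * s₁.1.1 * (U.Pg⁻¹).1).map σ * _ = _ * s₁.1.1.map σ
      rw [← Matrix.map_mul (f := σ), ← Matrix.map_mul (f := σ), inv_inv, Matrix.mul_assoc, U.Pg_inv_mul, Matrix.mul_one]
      rfl
    rw [← hm, U.psi_val, hz, U.Pg_val]
    simp only [Matrix.mul_assoc]
    rw [← Matrix.mul_assoc U.P, U.mul_Pg_inv, Matrix.one_mul, ← Matrix.mul_assoc (g⁻¹).1, g.inv_mul, Matrix.one_mul, h4]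
  · rw [MulEquiv.symm_apply_apply]
    exact (congrArg δ (hφ' (U.psi.symm s₁) ⟨_, h2⟩ rfl)).trans (hδ ⟨_, h2⟩ ⟨z, h3⟩ hz)

/-- **the instance `SU_(n+1)(q)`** -/
theorem boxU : BoxU := by
  intro p hp F _ _ _ n q hF hn hs
  let k := AlgebraicClosure F
  obtain ⟨f, hf, rfl⟩ : ∃ f, 0 < f ∧ q = p ^ f := by
    obtain ⟨r, f, hr, hc, h1, h2⟩ := exists_prime_pow hF
    exact ⟨f, h2, by rwa [CharP.eq F ‹CharP F p› hc]⟩
  have hq := two_le hF
  obtain ⟨ι, hι⟩ := exists_ι (k := k)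
  obtain ⟨μ, hμ⟩ : ∃ μ : kˣ, dlt n ι = dlt n μ * (mp (iterateFrobenius k p f) (dlt n μ))⁻¹ := by
    obtain ⟨c, hc⟩ := IsAlgClosed.exists_pow_nat_eq ((ι⁻¹ : kˣ) : k) (show 0 < p ^ f - 1 by omega)
    have hc0 : c ≠ 0 := fun e => ι⁻¹.ne_zero (by rw [← hc, e, zero_pow (by omega)])
    refine ⟨Units.mk0 c hc0, ?_⟩
    rw [eq_mul_inv_iff_mul_eq, mp_dlt]
    refine ((gdA n k).δ_mul _ _).symm.trans (congrArg _ (Units.ext ?_))
    show ι * c ^ p ^ f = c
    rw [← Nat.sub_add_cancel (show 1 ≤ p ^ f by omega), pow_succ, hc, Units.mul_inv_cancel_left]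
  obtain ⟨U⟩ := exists_UB hF n
  have : Finite (CoxeterMatrix.B ((n + 1) / 2)).Group := UB.finiteW
  let φ : SJ hF n →* SLn n k := (MulAut.conj ((fdA n k).δ μ)).toMonoidHom.comp (phi hF n k)
  have hφ0 : ∀ s, φ s = dlt n μ * mp (algebraMap F k) s.1 * (dlt n μ)⁻¹ := fun _ => rfl
  have hφ : ∀ g : SLn n k, g ∈ φ.range ↔ grA hι (γ0 n) (mp (iterateFrobenius k p f) g) = g := fun g => by
    have h1 := mem_range_phi hF (Fq := iterateFrobenius k p f) (fun _ => rfl) ((dlt n μ)⁻¹ * g * dlt n μ)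
    rw [map_mul, map_mul, map_mul, map_mul, map_inv, map_inv, ← mp_th0 _ (dlt n μ), th0_dlt] at h1
    rw [grA_γ0, th1_apply, hμ]
    refine Iff.trans ⟨?_, ?_⟩ (h1.trans ⟨fun h => ?_, fun h => ?_⟩)
    · rintro ⟨s, rfl⟩
      exact ⟨s, by rw [hφ0, mul_assoc, mul_assoc, inv_mul_cancel, mul_one, inv_mul_cancel_left]; rfl⟩
    · rintro ⟨s, h⟩
      exact ⟨s, (congrArg (fun x => dlt n μ * x * (dlt n μ)⁻¹) h).trans (by group)⟩
    · exact Eq.trans (by group) ((congrArg (fun x => dlt n μ * x * (dlt n μ)⁻¹) h).trans (by group))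
    · exact Eq.trans (by group) (congrArg (fun x => (dlt n μ)⁻¹ * x * dlt n μ) h)
  have hinj : Function.Injective φ :=
    (MulAut.conj _).injective.comp ((mp_inj (algebraMap F k)).comp Subtype.val_injective)
  have hyp := hyp_tr (D := fdA n k) (H356.TU.hyp_sysU U (p := p) hn (D := fdE n k) (fun _ _ => rfl) (H356.TU.U_le_fdE n _)
    (H356.TU.Um_le_fdE n _) le_rfl (fun _ => rfl) (H356.TU.cov_U hF (H356.TU.phi_mX U hn) (H356.TU.phi_mZ U hn))
    (H379.SUD.sg0 (p := p) (U := U) (fun _ => rfl) (fun _ => rfl) (D := fdA n k) (fun _ _ => rfl)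
      (H356.TU.map_sysU U hn (fun _ _ => rfl) le_rfl le_rfl le_rfl fun _ => rfl)) (H379.SUD.lam (fun _ => rfl) hF))
    (H356.TU.map_sysU U hn (fun _ _ => rfl) le_rfl le_rfl le_rfl fun _ => rfl) rfl rfl rfl
    (fun b => ⟨H356.TU.eps k b, fun s => congrArg ((fdA n k).z b) (by rw [← mul_assoc, H356.TU.eps_mul, one_mul])⟩) μ
    (τ_range hι hφ)
  have syl : ¬ p ∣ (sysU U (p := p) hn).U.index := syl_of_rgd U.rgd (H356.TU.rin U (p := p) hn).gen
  have hT := LieClassical.HermPerfect.commutator_SU_eq_top (n := n + 1) hF (by omega) fun h => hs ⟨by omega, h.2⟩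
  have hadd : ∀ m, 0 < m → ¬ p ∣ (p ^ f) ^ m + 1 := fun m hm h =>
    hp.out.ne_one (Nat.dvd_one.1 ((Nat.dvd_add_right (dvd_pow (dvd_pow_self p hf.ne') hm.ne')).1 h))
  refine hasA_of hι hf (γ0 n) φ hinj hφ hyp (fun W _ _ => H356.TU.wt_sysU U hn) (fun l hl j => ?_) (fun l l' hl hl' h => ?_) ?_
    syl ?_ ((QuotientGroup.mk' _).comp U.psi.symm.toMonoidHom) ((QuotientGroup.mk'_surjective _).comp U.psi.symm.surjective)
    (fun K _ _ hK hZ e => ?_) (fun β => ?_) fun h2 _ h3 => ?_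
  · have h1 := card_Cs (n := n) hF j
    have h2 := hl ⟨j, by omega⟩
    have h3 := Nat.mul_le_mul_left (p ^ f) (hl ⟨n - 1 - j, by omega⟩)
    rw [H379.SUD.wt_eq fun _ => rfl]
    rw [Nat.mul_succ, ← pow_two] at h3
    split_ifs at h1 ⊢ <;> omega
  · funext i
    have hi := i.2
    by_cases h1 : (i : ℕ) < (n + 1) / 2
    · have h2 := congrFun h ⟨i, h1⟩
      rw [H379.SUD.wt_eq fun _ => rfl, H379.SUD.wt_eq fun _ => rfl] at h2
      split_ifs at h2
      · exact h2
      · exact (digit (hl _) (hl' _) h2).1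
    · have h2 := congrFun h ⟨n - 1 - i, by omega⟩
      rw [H379.SUD.wt_eq fun _ => rfl, H379.SUD.wt_eq fun _ => rfl, if_neg (by simp only; omega),
        if_neg (by simp only; omega)] at h2
      have h3 := (digit (hl _) (hl' _) h2).2
      simp only [show n - 1 - (n - 1 - i) = i by (clear * -; omega)] at h3
      exact h3
  · rw [← pow_mul]
    refine card_of_syl (isPGroup_U _ _) syl (a := p ^ f + 1) (pow_one (p ^ f) ▸ hadd 1 one_pos) (fun h => ?_)
      (by rw [← Nat.card_congr U.psi.toEquiv, S0278.result hF (n + 1) n.succ_pos, pow_mul, card_Pos])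
    obtain ⟨i, -, hi⟩ := hp.out.prime.exists_mem_finset_dvd h
    split_ifs at hi
    · exact hadd _ i.succ_pos hi
    · exact not_dvd_sub hf i.succ_pos hi
  · rw [_root_.commutator_def, ← Subgroup.map_top_of_surjective U.psi.toMonoidHom U.psi.surjective, ← Subgroup.map_commutator,
      ← _root_.commutator_def, hT]
  · obtain ⟨ψ, h1, h2⟩ := cover_of hT (fun r hr hne => H61.SUCross.noPCov_SU hF (by omega) hp.out hr hne
      fun _ => H61.UThreeCE.noCE_SU3 hF hp.out hr hne) K hK hZ e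
    exact ⟨ψ.comp U.psi.symm.toMonoidHom, h1.comp U.psi.symm.surjective, fun s => h2 _⟩
  · obtain ⟨s, d, σ, h0⟩ := autU hf hF U hn hs β
    obtain ⟨j, hj, -⟩ := H481.OddAut.exists_pow (hF.trans (pow_mul p f 2).symm) σ
    obtain ⟨h, hh, h1⟩ := exists_h (algebraMap F k) s.1 d
    refine ⟨s, dlt n μ * h * (mp (iterateFrobenius k p j) (dlt n μ))⁻¹, 1, j,
      mul_mem (mul_mem (dl_mem _ _) hh) (inv_mem (mp_mem_T _ (dl_mem _ _))), fun s₁ => ?_⟩
    obtain ⟨z, h2, h3⟩ := h0 s₁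
    refine ⟨s⁻¹ * z * s, ?_, ?_⟩
    · rw [map_one, MulAut.one_apply, hφ0, hφ0, map_mul, map_mul, map_inv, ← mp_σ _ hj]
      exact (congrArg (fun x => dlt n μ * x * (dlt n μ)⁻¹) (h1 z.1 _ h2)).trans (by group)
    · rw [mul_assoc _ z, mul_inv_cancel_left, mul_inv_cancel_right]
      exact h3
  · subst h3
    exact sub3 h2 hι hinj (fun g h => (hφ g).2 ((grA_γ0 hι _).trans h)) (A := {x : F // x ^ p ^ f = x})
      (c := fun x => algebraMap F k x.1) ((algebraMap F k).injective.comp Subtype.val_injective)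
      (fun a => by rw [iterateFrobenius_def, ← map_pow, a.2]) (card_fixed hF)

end Cfsg.Agent.TwoF.DC.TA.I
end

private theorem dce_8eaec2d444fe : _root_.True := by
  try have : _root_.True := by simp only [_root_.Cfsg.Agent.H356.TA.DA.eq_1]
  try have : _root_.True := by simp only [_root_.Cfsg.Agent.TwoF.DC.TA.I.grA.eq_1]
  try have : _root_.True := by simp only [_root_.Cfsg.Agent.H45.UniE.FDat.cc.eq_1]
  try have : _root_.True := by simp only [_root_.Cfsg.Agent.Nodes.RGDTypeA.ns.eq_1]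
  try have : _root_.True := by simp only [_root_.Cfsg.Agent.TwoF.DC.TA.I.g3.eq_1]
  try have : _root_.True := by simp only [_root_.Cfsg.Agent.H564.TWP.TSys.wt.eq_1]
  try have : _root_.True := by simp only [_root_.Cfsg.Agent.H45.UniE.DatR.L.eq_1]
  exact _root_.True.intro
end

-- part: TwoF/DC/TA/Lv
section
prune_inst 0x35204d4075e2020000010592b30000243400049200400000b8e00542014fd2608d42e0414e001c10180a94001804000002100000c00000000a0034000007012090b81604b348030c6e009f803082000000000000000000000000000000041004000000000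
set_option linter.all false
open scoped Cfsg.Agent.FastGrp

/-!
# TwoF, defining characteristic, type `A_n` (4): levels, lower bounds for the radicals `MM κ` (helper97)
-/

set_option autoImplicit false
set_option linter.unusedSectionVars false

namespace Cfsg.Agent.TwoF.DC.TA

open Finset Module
open Cfsg.Agent.H356.TA (Pos)

variable {n : ℕ}

/-- the level of the lowest weight of a fundamental module -/
def mn (i κ : Fin n) : ℕ := min (min (i + 1) (κ + 1)) (min (n - i) (n - κ))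
/-- the level of the lowest weight -/
def lv (l : Fin n → ℕ) (κ : Fin n) : ℕ := ∑ i, l i * mn i κ
/-- the level of the reversed vector -/
def lvl (m : Fin (n + 1) → ℤ) (κ : Fin n) : ℤ := ps (m - m ∘ rv n) κ

theorem mn_pos (i κ : Fin n) : 1 ≤ mn i κ := by unfold mn; omega
theorem mn_rev (i κ : Fin n) : mn i.rev κ = mn i κ := by unfold mn; rw [Fin.val_rev]; (clear * -; solve | lia | omega)

theorem lv_rev (l : Fin n → ℕ) (κ : Fin n) : lv (l ∘ (Fin.revPerm : Equiv.Perm (Fin n)).symm) κ = lv l κ := by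
  rw [lv, lv, ← Equiv.sum_comp Fin.revPerm]
  exact sum_congr rfl fun i _ => by
    rw [Function.comp_apply, Equiv.symm_apply_apply]; exact congrArg _ (mn_rev i κ)

theorem lv_single (i κ : Fin n) : lv (Pi.single i 1) κ = mn i κ := by
  rw [lv, sum_eq_single i (fun j _ h => by simp [h]) (fun h => (h (mem_univ _)).elim)]; simp

theorem lv_add (l l' : Fin n → ℕ) (κ : Fin n) : lv (l + l') κ = lv l κ + lv l' κ := by
  simp only [lv, Pi.add_apply, add_mul, sum_add_distrib]

theorem eq_zero_of_lv {l : Fin n → ℕ} {κ : Fin n} (h : lv l κ = 0) : l = 0 := funext fun i => by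
  have h1 := sum_eq_zero_iff.1 h i (mem_univ _)
  have h2 := mn_pos i κ
  exact (mul_eq_zero.1 h1).resolve_right (by omega)

theorem exists_add_single {l : Fin n → ℕ} {i : Fin n} (h : l i ≠ 0) : ∃ l' : Fin n → ℕ, l = Pi.single i 1 + l' :=
  ⟨l - Pi.single i 1, funext fun j => by
    simp only [Pi.add_apply, Pi.sub_apply, Pi.single_apply]; split_ifs with h1 <;> [(rw [h1]; omega); omega]⟩

theorem single_of_lv {l : Fin n → ℕ} {i κ : Fin n} (h : l i ≠ 0) (h' : lv l κ ≤ mn i κ) : l = Pi.single i 1 := by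
  obtain ⟨l', rfl⟩ := exists_add_single h
  rw [lv_add, lv_single] at h'
  rw [eq_zero_of_lv (l := l') (κ := κ) (by omega), add_zero]

theorem ini_inter (s t : ℕ) : ini n s ∩ ini n t = ini n (min s t) := by
  ext a; simp only [mem_inter, mem_ini]; omega

theorem lvl_ini (i κ : Fin n) : lvl (ind (ini n (i + 1))) κ = mn i κ := by
  have h1 : fns n (n - i) ∩ ini n (κ + 1) = ini n (κ + 1) \ ini n (n - i) := by
    ext a; simp only [mem_inter, mem_sdiff, mem_ini, mem_fns]; omega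
  rw [lvl, ind_comp (T := fns n (n - i)) fun a => by rw [mem_ini, mem_fns, rv_val]; omega, ps_sub, Pi.sub_apply, ps_ind,
    ps_ind, h1, card_sdiff, ini_inter, ini_inter, card_ini (by omega), card_ini (by omega), card_ini (by omega), mn]
  omega

theorem lvl_m0 {R : RC (Fin n) (Pos n)} {p : ℕ} {k L : Type} [Field k] [AddCommGroup L] [Module k L] (H : HW R p k L)
    (κ : Fin n) : lvl (m0 H) κ = lv H.lam κ := by
  have h1 : m0 H - m0 H ∘ rv n =
      ∑ i, (H.lam i : ℤ) • (ind (ini n ((i : ℕ) + 1)) - ind (ini n ((i : ℕ) + 1)) ∘ rv n) := by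
    funext a
    simp only [m0, Pi.sub_apply, Function.comp_apply, Finset.sum_apply, Pi.smul_apply, smul_eq_mul, mul_sub,
      sum_sub_distrib]
  rw [lvl, h1, ps_sum, Finset.sum_apply, lv, Nat.cast_sum]
  exact sum_congr rfl fun i _ => by rw [ps_smul, Pi.smul_apply, ← lvl, lvl_ini, smul_eq_mul, Nat.cast_mul]

theorem ps_neg (m : Fin (n + 1) → ℤ) : ps (-m) = -ps m := by
  rw [← neg_one_smul ℤ m, ps_smul, neg_one_smul]

theorem anti_rv {m : Fin (n + 1) → ℤ} (h : Antitone m) : Antitone (-(m ∘ rv n)) := fun a b hab =>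
  neg_le_neg (h (show rv n b ≤ rv n a from Fin.rev_le_rev.2 hab))

theorem lvl_rv (m : Fin (n + 1) → ℤ) (κ : Fin n) : lvl (-(m ∘ rv n)) κ = lvl m κ := by
  unfold lvl
  congr 1
  funext a
  simp only [Pi.sub_apply, Pi.neg_apply, Function.comp_apply, rv_rv]; ring

/-- the extremal weights and their neighbours -/
def Gd (m u : Fin (n + 1) → ℤ) : Prop :=
  ∃ π : Equiv.Perm (Fin (n + 1)), u = m ∘ π ∨ ∃ a b, m b < m a ∧ u = (m - ev a + ev b) ∘ π

theorem Gd.sum {m u : Fin (n + 1) → ℤ} (h : Gd m u) : ∑ a, u a = ∑ a, m a := by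
  obtain ⟨π, rfl | ⟨a, b, -, rfl⟩⟩ := h
  · exact sum_comp m π
  · rw [sum_comp]; simp only [Pi.add_apply, Pi.sub_apply, sum_add_distrib, sum_sub_distrib, sum_ev]; ring

theorem Gd.of_comp {m u : Fin (n + 1) → ℤ} {ρ : Equiv.Perm (Fin (n + 1))} (h : Gd (m ∘ ρ) u) : Gd m u := by
  obtain ⟨π, rfl | ⟨a, b, h, rfl⟩⟩ := h
  · exact ⟨ρ * π, Or.inl rfl⟩
  · refine ⟨ρ * π, Or.inr ⟨ρ a, ρ b, h, funext fun x => ?_⟩⟩
    simp only [Function.comp_apply, Pi.add_apply, Pi.sub_apply, Equiv.Perm.mul_apply, ev, EmbeddingLike.apply_eq_iff_eq]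

theorem Gd.neg {m u : Fin (n + 1) → ℤ} (h : Gd (-m) u) : Gd m (-u) := by
  obtain ⟨π, rfl | ⟨a, b, h, rfl⟩⟩ := h
  · exact ⟨π, Or.inl (funext fun x => neg_neg _)⟩
  · refine ⟨π, Or.inr ⟨b, a, neg_lt_neg_iff.1 h, funext fun x => ?_⟩⟩
    simp only [Function.comp_apply, Pi.add_apply, Pi.sub_apply, Pi.neg_apply]; ring

/-- at least `c` weights of nonzero level -/
def Lb (m : Fin (n + 1) → ℤ) (κ : Fin n) (c : ℕ) : Prop :=
  ∃ A : Finset (Fin (n + 1) → ℤ), c ≤ A.card ∧ ∀ u ∈ A, Gd m u ∧ ps (m - u) κ ≠ 0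

/-- the highest root -/
def Adj (m : Fin (n + 1) → ℤ) : Prop := ∃ c : ℤ, m = (fun _ => c) + (ev 0 - ev (Fin.last n))

/-- not constant -/
def NC (I : Finset (Fin (n + 1))) (m : Fin (n + 1) → ℤ) : Prop := I.card ≤ 1 ∨ ∃ x ∈ I, ∃ y ∈ I, m x ≠ m y

theorem Adj.lvl {m : Fin (n + 1) → ℤ} (h : Adj m) (κ : Fin n) : lvl m κ = 2 := by
  obtain ⟨c, rfl⟩ := h
  have h1 : ((fun _ => c) + (ev 0 - ev (Fin.last n))) - ((fun _ => c) + (ev 0 - ev (Fin.last n))) ∘ rv n =
      (2 : ℤ) • (ev 0 - ev (Fin.last n)) := by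
    funext a
    simp only [Pi.add_apply, Pi.sub_apply, Function.comp_apply, Pi.smul_apply, smul_eq_mul, ev_apply, rv_val,
      Fin.val_zero, Fin.val_last]
    (clear * -; solve | lia | omega)
  rw [TA.lvl, h1, ps_smul, ps_sub, Pi.smul_apply, Pi.sub_apply, ps_ev, ps_ev]
  simp only [_root_.Fin.coe_ofNat_eq_mod, _root_.Nat.zero_mod, _root_.zero_le, ↓ _root_.reduceIte, _root_.Fin.val_last, _root_.Int.zsmul_eq_mul, _root_.ne_eq, _root_.OfNat.ofNat_ne_zero, _root_.not_false_eq_true, _root_.mul_eq_left₀, _root_.sub_eq_self, _root_.ite_eq_right_iff, _root_.one_ne_zero, _root_.imp_false, _root_.not_le, _root_.Fin.is_lt]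

theorem find {m : Fin (n + 1) → ℤ} (hm : Antitone m) (κ : Fin n) (h : 2 ≤ lvl m κ) :
    (∃ a ∈ ini n (κ + 1), ∃ b ∈ fns n (κ + 1), m b < m a ∧ NC (ini n (κ + 1)) (m - ev a + ev b) ∧
      NC (fns n (κ + 1)) (m - ev a + ev b)) ∨ (Adj m ∧ 1 ≤ (κ : ℕ) ∧ (κ : ℕ) + 2 ≤ n) := by
  have hκ := κ.2
  have z0 : (0 : Fin (n + 1)) ∈ ini n (κ + 1) := mem_ini.2 (by simp)
  have z1 : κ.castSucc ∈ ini n (κ + 1) := mem_ini.2 (by simp)
  have z2 : κ.succ ∈ fns n (κ + 1) := mem_fns.2 (by simp)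
  have z3 : Fin.last n ∈ fns n (κ + 1) := mem_fns.2 (by simp)
  have a01 : m κ.castSucc ≤ m 0 := hm (Fin.zero_le _)
  have a12 : m κ.succ ≤ m κ.castSucc := hm Fin.castSucc_lt_succ.le
  have a23 : m (Fin.last n) ≤ m κ.succ := hm (Fin.le_last _)
  have aI : ∀ x : Fin (n + 1), (x : ℕ) ≤ κ → m κ.castSucc ≤ m x ∧ m x ≤ m 0 := fun x hx => ⟨hm hx, hm (Fin.zero_le _)⟩
  have aJ : ∀ x : Fin (n + 1), (κ : ℕ) < x → m (Fin.last n) ≤ m x ∧ m x ≤ m κ.succ :=
    fun x hx => ⟨hm (Fin.le_last _), hm hx⟩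
  have key : ¬ ∃ e : ℤ, e ≤ 1 ∧ m - m ∘ rv n = e • (ev 0 - ev (Fin.last n)) := by
    rintro ⟨e, h1, h2⟩
    rw [lvl, h2, ps_smul, ps_sub, Pi.smul_apply, Pi.sub_apply, ps_ev, ps_ev, if_pos (by simp), if_neg (by simp)] at h
    simp only [smul_eq_mul] at h; omega
  have I0 : ∀ b ∈ fns n (κ + 1), ¬ (1 ≤ (κ : ℕ) ∧ ∀ x : Fin (n + 1), (x : ℕ) ≤ κ → m x = m κ.castSucc + ev 0 x) →
      NC (ini n (κ + 1)) (m - ev 0 + ev b) := by
    intro b hb h1
    by_contra h2
    simp only [NC, not_or, not_exists, not_and, not_not, card_ini (show (κ : ℕ) + 1 ≤ n + 1 by omega)] at h2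
    refine h1 ⟨by omega, fun x hx => ?_⟩
    have h3 := h2.2 x (mem_ini.2 (by omega)) _ z1
    rw [mem_fns] at hb
    simp only [Pi.add_apply, Pi.sub_apply, ev_apply, Fin.val_castSucc, Fin.val_zero] at h3 ⊢
    omega
  have I1 : ∀ b ∈ fns n (κ + 1), 1 ≤ (κ : ℕ) → NC (ini n (κ + 1)) (m - ev κ.castSucc + ev b) := by
    intro b hb h1
    refine Or.inr ⟨0, z0, _, z1, ?_⟩
    rw [mem_fns] at hb
    simp only [Pi.add_apply, Pi.sub_apply, ev_apply, Fin.val_castSucc, Fin.val_zero, if_true]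
    omega
  have J0 : ∀ a ∈ ini n (κ + 1),
      ¬ ((κ : ℕ) + 2 ≤ n ∧ ∀ x : Fin (n + 1), (κ : ℕ) < x → m x = m κ.succ - ev (Fin.last n) x) →
      NC (fns n (κ + 1)) (m - ev a + ev (Fin.last n)) := by
    intro a ha h1
    by_contra h2
    simp only [NC, not_or, not_exists, not_and, not_not, card_fns (show (κ : ℕ) + 1 ≤ n + 1 by omega)] at h2
    refine h1 ⟨by omega, fun x hx => ?_⟩
    have h3 := h2.2 x (mem_fns.2 (by omega)) _ z2
    rw [mem_ini] at ha
    simp only [Pi.add_apply, Pi.sub_apply, ev_apply, Fin.val_succ, Fin.val_last] at h3 ⊢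
    omega
  have J1 : ∀ a ∈ ini n (κ + 1), (κ : ℕ) + 2 ≤ n → NC (fns n (κ + 1)) (m - ev a + ev κ.succ) := by
    intro a ha h1
    refine Or.inr ⟨_, z2, _, z3, ?_⟩
    rw [mem_ini] at ha
    simp only [Pi.add_apply, Pi.sub_apply, ev_apply, Fin.val_succ, Fin.val_last, if_true]
    omega
  have all : ∀ x : Fin (n + 1), (x : ℕ) ≤ κ ∨ (κ : ℕ) < x := fun x => by omega
  by_cases hI : 1 ≤ (κ : ℕ) ∧ ∀ x : Fin (n + 1), (x : ℕ) ≤ κ → m x = m κ.castSucc + ev 0 x <;>
    by_cases hJ : (κ : ℕ) + 2 ≤ n ∧ ∀ x : Fin (n + 1), (κ : ℕ) < x → m x = m κ.succ - ev (Fin.last n) x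
  · by_cases h1 : m κ.succ < m κ.castSucc
    · exact Or.inl ⟨_, z1, _, z2, h1, I1 _ z2 hI.1, J1 _ z1 hJ.1⟩
    refine Or.inr ⟨⟨m κ.succ, funext fun x => ?_⟩, hI.1, hJ.1⟩
    rcases all x with h2 | h2
    · rw [hI.2 x h2]; simp only [Pi.add_apply, Pi.sub_apply, ev_apply, Fin.val_zero, Fin.val_last]; omega
    · rw [hJ.2 x h2]; simp only [Pi.add_apply, Pi.sub_apply, ev_apply, Fin.val_zero, Fin.val_last]; omega
  · by_cases h1 : m (Fin.last n) < m κ.castSucc
    · exact Or.inl ⟨_, z1, _, z3, h1, I1 _ z3 hI.1, J0 _ z1 hJ⟩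
    have h2 : ∀ x, m x = m κ.castSucc + ev 0 x := fun x => (all x).elim (hI.2 x) fun h2 => by
      have := aJ x h2; simp only [ev_apply, Fin.val_zero]; omega
    refine (key ⟨1, le_rfl, funext fun x => ?_⟩).elim
    simp only [Pi.sub_apply, Function.comp_apply, one_smul]
    rw [h2 x, h2 (rv n x)]
    simp only [ev_apply, rv_val, Fin.val_zero, Fin.val_last]; omega
  · by_cases h1 : m κ.succ < m 0
    · exact Or.inl ⟨_, z0, _, z2, h1, I0 _ z2 hI, J1 _ z0 hJ.1⟩
    have h2 : ∀ x, m x = m κ.succ - ev (Fin.last n) x := fun x => (all x).elim (fun h2 => by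
      have := aI x h2; simp only [ev_apply, Fin.val_last]; omega) (hJ.2 x)
    refine (key ⟨1, le_rfl, funext fun x => ?_⟩).elim
    simp only [Pi.sub_apply, Function.comp_apply, one_smul]
    rw [h2 x, h2 (rv n x)]
    simp only [ev_apply, rv_val, Fin.val_zero, Fin.val_last]; omega
  · by_cases h1 : m (Fin.last n) < m 0
    · exact Or.inl ⟨_, z0, _, z3, h1, I0 _ z3 hI, J0 _ z0 hJ⟩
    have h2 : ∀ x, m x = m 0 := fun x => le_antisymm (hm (Fin.zero_le _)) ((not_lt.1 h1).trans (hm (Fin.le_last _)))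
    refine (key ⟨0, zero_le_one, funext fun x => ?_⟩).elim
    simp only [Pi.sub_apply, Function.comp_apply, zero_smul, Pi.zero_apply]
    rw [h2 x, h2 (rv n x), sub_self]

theorem orb_blocks (m : Fin (n + 1) → ℤ) (κ : Fin n) (hI : NC (ini n (κ + 1)) m) (hJ : NC (fns n (κ + 1)) m) :
    ∃ A : Finset (Fin (n + 1) → ℤ), A.card = (κ + 1) * (n - κ) ∧
      ∀ u ∈ A, ps u κ = ps m κ ∧ ∃ π : Equiv.Perm (Fin (n + 1)), u = m ∘ π := by
  obtain ⟨A, h1, h2⟩ := exists_orb (disjoint_ini_fns (le_refl ((κ : ℕ) + 1))) m hI hJ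
  refine ⟨A, by rw [h1, card_ini (by omega), card_fns (by omega)]; congr 1; omega, fun u hu => ?_⟩
  obtain ⟨π, rfl, h3, -⟩ := h2 u hu
  exact ⟨ps_perm m h3, π, rfl⟩

theorem fam1 {m : Fin (n + 1) → ℤ} (hm : Antitone m) (κ : Fin n) (h : 2 ≤ lvl m κ)
    (h' : ¬ (Adj m ∧ 1 ≤ (κ : ℕ) ∧ (κ : ℕ) + 2 ≤ n)) :
    ∃ A : Finset (Fin (n + 1) → ℤ), A.card = (κ + 1) * (n - κ) ∧ ∀ u ∈ A, Gd m u ∧ ps (m - u) κ = 1 := by
  obtain ⟨a, ha, b, hb, h1, h2, h3⟩ := (find hm κ h).resolve_right h'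
  obtain ⟨A, h4, h5⟩ := orb_blocks _ κ h2 h3
  refine ⟨A, h4, fun u hu => ?_⟩
  obtain ⟨h6, π, h7⟩ := h5 u hu
  refine ⟨⟨π, Or.inr ⟨a, b, h1, h7⟩⟩, ?_⟩
  rw [mem_ini] at ha
  rw [mem_fns] at hb
  rw [ps_sub, Pi.sub_apply, h6, ps_add, ps_sub, Pi.add_apply, Pi.sub_apply, ps_ev, ps_ev]
  omega

theorem gd_rv (m : Fin (n + 1) → ℤ) : Gd m (m ∘ rv n) := ⟨rv n, Or.inl rfl⟩

theorem card_union_lev {A B : Finset (Fin (n + 1) → ℤ)} (f : (Fin (n + 1) → ℤ) → ℤ) {s t : ℤ} (hst : s ≠ t)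
    (hA : ∀ u ∈ A, f u = s) (hB : ∀ u ∈ B, f u = t) : (A ∪ B).card = A.card + B.card :=
  card_union_of_disjoint (disjoint_left.2 fun u h1 h2 => hst ((hA u h1).symm.trans (hB u h2)))

theorem lb_three {m : Fin (n + 1) → ℤ} (hm : Antitone m) (κ : Fin n) (h : 3 ≤ lvl m κ) :
    Lb m κ (2 * ((κ + 1) * (n - κ)) + 1) := by
  classical
  obtain ⟨A, a1, a2⟩ := fam1 hm κ (by omega) fun e => by have := e.1.lvl κ; omega
  obtain ⟨B, b1, b2⟩ := fam1 (anti_rv hm) κ (by rw [lvl_rv]; omega) fun e => by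
    have := e.1.lvl κ; rw [lvl_rv] at this; omega
  have b3 : ∀ u ∈ B.image Neg.neg, Gd m u ∧ ps (m - u) κ = lvl m κ - 1 := by
    intro u' hu'
    obtain ⟨u, hu, rfl⟩ := mem_image.1 hu'
    refine ⟨(b2 u hu).1.neg.of_comp, ?_⟩
    have := (b2 u hu).2
    simp only [lvl, ps_sub, ps_neg, Pi.sub_apply, Pi.neg_apply] at this ⊢
    omega
  refine ⟨insert (m ∘ rv n) (A ∪ B.image Neg.neg), ?_, fun u hu => ?_⟩
  · rw [card_insert_of_notMem, card_union_lev (fun u => ps (m - u) κ) (s := 1) (t := lvl m κ - 1) (by omega)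
      (fun u hu => (a2 u hu).2) fun u hu => (b3 u hu).2, card_image_of_injective _ neg_injective, a1, b1]
    · omega
    · rw [mem_union]
      rintro (e | e)
      · have := (a2 _ e).2; unfold lvl at h; omega
      · have := (b3 _ e).2; unfold lvl at this; omega
  · rw [mem_insert, mem_union] at hu
    rcases hu with rfl | hu | hu
    · exact ⟨gd_rv m, by unfold lvl at h; omega⟩
    · exact ⟨(a2 u hu).1, by rw [(a2 u hu).2]; omega⟩
    · exact ⟨(b3 u hu).1, by rw [(b3 u hu).2]; omega⟩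

theorem lb_adj {m : Fin (n + 1) → ℤ} (h : Adj m) (κ : Fin n) : Lb m κ ((n + 1) * n - (κ + 1) * (n - κ) + 1) := by
  classical
  obtain ⟨c, rfl⟩ := h
  have hκ := κ.2
  let f : Fin (n + 1) × Fin (n + 1) → Fin (n + 1) → ℤ := fun z => (fun _ => c) + (ev z.1 - ev z.2)
  let P : Finset (Fin (n + 1) × Fin (n + 1)) := univ.offDiag \ (ini n (κ + 1) ×ˢ fns n (κ + 1))
  have hP : ∀ z ∈ P, (z.1 : ℕ) ≠ z.2 ∧ ¬ ((z.1 : ℕ) ≤ κ ∧ (κ : ℕ) < z.2) := fun z hz => by
    simp only [P, mem_sdiff, mem_offDiag, mem_univ, true_and, mem_product, mem_ini, mem_fns, ne_eq, Fin.ext_iff] at hz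
    omega
  have h0 : (0 : Fin (n + 1)) ≠ Fin.last n := by rw [ne_eq, Fin.ext_iff]; simp; omega
  refine ⟨insert (fun _ => c) (P.image f), ?_, fun u hu => ?_⟩
  · rw [card_insert_of_notMem, card_image_of_injOn]
    · have h1 := le_card_sdiff (ini n (κ + 1) ×ˢ fns n (κ + 1)) (univ.offDiag : Finset (Fin (n + 1) × Fin (n + 1)))
      rw [offDiag_card, card_product, card_ini (by omega), card_fns (by omega), card_univ, Fintype.card_fin,
        show n + 1 - (κ + 1) = n - κ by omega, show (n + 1) * (n + 1) - (n + 1) = (n + 1) * n by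
          rw [mul_add, mul_one, Nat.add_sub_cancel]] at h1
      exact Nat.succ_le_succ h1
    · intro z hz w hw e
      have h1 := congrFun e z.1
      have h2 := congrFun e z.2
      have h3 := (hP z hz).1
      have h4 := (hP w hw).1
      simp only [f, Pi.add_apply, Pi.sub_apply, ev_apply, if_true] at h1 h2
      exact Prod.ext (Fin.ext (by (clear * - h3 h1; omega))) (Fin.ext (by (clear * - h3 h2; omega)))
    · rw [mem_image]
      rintro ⟨z, hz, e⟩
      have h1 := congrFun e z.1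
      have h3 := (hP z hz).1
      simp only [f, Pi.add_apply, Pi.sub_apply, ev_apply, if_true] at h1
      omega
  · rw [mem_insert, mem_image] at hu
    rcases hu with rfl | ⟨z, hz, rfl⟩
    · refine ⟨⟨1, Or.inr ⟨0, Fin.last n, ?_, funext fun x => ?_⟩⟩, ?_⟩
      · simp only [Pi.add_apply, Pi.sub_apply, ev, if_true, h0, h0.symm, if_false]; omega
      · simp only [Function.comp_apply, Pi.add_apply, Pi.sub_apply, Equiv.Perm.one_apply]; ring
      · rw [add_sub_cancel_left, ps_sub, Pi.sub_apply, ps_ev, ps_ev, Fin.val_zero, Fin.val_last]; omega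
    · obtain ⟨h1, h2⟩ := hP z hz
      obtain ⟨π, p1, p2⟩ := exists_perm_pair (X := {z.1}) (Z := {z.2}) (X' := {0}) (Z' := {Fin.last n})
        (disjoint_singleton.2 fun e => h1 (by rw [e])) (disjoint_singleton.2 h0) rfl rfl
      simp only [mem_singleton] at p1 p2
      refine ⟨⟨π, Or.inl (funext fun x => ?_)⟩, ?_⟩
      · simp only [f, Function.comp_apply, Pi.add_apply, Pi.sub_apply, ev, p1, p2]
      · rw [add_sub_add_left_eq_sub, ps_sub, ps_sub, ps_sub]
        simp only [Pi.sub_apply, ps_ev, Fin.val_zero, Fin.val_last]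
        omega

theorem Lb.mono {m : Fin (n + 1) → ℤ} {κ : Fin n} {c c' : ℕ} (h : Lb m κ c) (h' : c' ≤ c) : Lb m κ c' := by
  obtain ⟨A, h1, h2⟩ := h
  exact ⟨A, h'.trans h1, h2⟩

theorem lb_two {m : Fin (n + 1) → ℤ} (hm : Antitone m) (κ : Fin n) (h : 2 ≤ lvl m κ) :
    Lb m κ ((κ + 1) * (n - κ) + 1) := by
  classical
  by_cases h1 : Adj m
  · refine (lb_adj h1 κ).mono ?_
    obtain ⟨t, ht⟩ : ∃ t, n = κ + 1 + t := ⟨n - κ - 1, by omega⟩
    rw [show n - κ = t + 1 by omega]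
    generalize (κ : ℕ) = s at ht ⊢
    subst ht
    refine Nat.succ_le_succ (Nat.le_sub_of_add_le ?_)
    nlinarith
  obtain ⟨A, a1, a2⟩ := fam1 hm κ h fun e => h1 e.1
  refine ⟨insert (m ∘ rv n) A, ?_, fun u hu => ?_⟩
  · rw [card_insert_of_notMem fun e => by have := (a2 _ e).2; unfold lvl at h; omega, a1]
  · rcases mem_insert.1 hu with rfl | hu
    · exact ⟨gd_rv m, by unfold lvl at h; omega⟩
    · exact ⟨(a2 u hu).1, by rw [(a2 u hu).2]; omega⟩

theorem sq_sub (m : Fin (n + 1) → ℤ) {a b : Fin (n + 1)} (h : a ≠ b) :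
    ∑ x, (m - ev a + ev b) x ^ 2 = ∑ x, m x ^ 2 - 2 * m a + 2 * m b + 2 := by
  have h1 : ∀ x, (m - ev a + ev b) x ^ 2 = m x ^ 2 - 2 * (m x * ev a x) + 2 * (m x * ev b x) + ev a x + ev b x := by
    intro x
    simp only [Pi.add_apply, Pi.sub_apply, ev]
    split_ifs with h1 h2
    · exact (h (h1.symm.trans h2)).elim
    all_goals ring
  simp only [h1, sum_add_distrib, sum_sub_distrib, ← mul_sum, sum_mul_ev, sum_ev]
  ring

theorem not_perm {m : Fin (n + 1) → ℤ} {a b : Fin (n + 1)} (h : m b + 2 ≤ m a) (π : Equiv.Perm (Fin (n + 1))) :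
    m - ev a + ev b ≠ m ∘ π := fun e => by
  have h1 := sq_sub m (a := a) (b := b) fun e => by rw [e] at h; omega
  rw [e, show ∑ x, (m ∘ π) x ^ 2 = ∑ x, m x ^ 2 from Equiv.sum_comp π fun x => m x ^ 2] at h1
  omega

theorem lb_end {m : Fin (n + 1) → ℤ} (hm : Antitone m) (κ : Fin n) (h : 2 ≤ lvl m κ) (hκ : (κ : ℕ) = 0 ∨ (κ : ℕ) + 1 = n)
    {a b : Fin (n + 1)} (ha : 1 ≤ (a : ℕ)) (hb : (b : ℕ) < n) (hab : m b + 2 ≤ m a) :
    Lb m κ (2 * ((κ + 1) * (n - κ)) + 1) := by
  classical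
  have hlt : (a : ℕ) < b := by
    by_contra e
    have := hm (show b ≤ a from not_lt.1 e)
    omega
  have hab' : (m ∘ rv n) (rv n b) + 2 ≤ (m ∘ rv n) (rv n a) := by simpa only [Function.comp_apply, rv_rv] using hab
  obtain ⟨A, a1, a2⟩ := fam1 hm κ h fun e => by omega
  obtain ⟨B, b1, b2⟩ := orb_blocks (m ∘ rv n) κ
    (hκ.elim (fun e => Or.inl (by rw [card_ini (by omega)]; omega)) fun e => Or.inr ⟨rv n a,
      mem_ini.2 (by rw [rv_val]; omega), rv n b, mem_ini.2 (by rw [rv_val]; omega), by omega⟩)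
    (hκ.elim (fun e => Or.inr ⟨rv n a, mem_fns.2 (by rw [rv_val]; omega), rv n b, mem_fns.2 (by rw [rv_val]; omega),
      by omega⟩) fun e => Or.inl (by rw [card_fns (by omega)]; omega))
  have b3 : ∀ u ∈ B, ps (m - u) κ = lvl m κ := fun u hu => by
    rw [lvl, ps_sub, ps_sub, Pi.sub_apply, Pi.sub_apply, (b2 u hu).1]
  have c1 : ps (m - (m ∘ rv n - ev (rv n a) + ev (rv n b))) κ = lvl m κ := by
    simp only [lvl, ps_sub, ps_add, Pi.sub_apply, Pi.add_apply, ps_ev, rv_val]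
    (clear * - hκ ha hb hlt; omega)
  refine ⟨insert (m ∘ rv n - ev (rv n a) + ev (rv n b)) (A ∪ B), ?_, fun u hu => ?_⟩
  · rw [card_insert_of_notMem, card_union_lev (fun u => ps (m - u) κ) (s := 1) (t := lvl m κ) (by omega)
      (fun u hu => (a2 u hu).2) b3, a1, b1]
    · omega
    · rw [mem_union]
      rintro (e | e)
      · have := (a2 _ e).2; omega
      · obtain ⟨π, e⟩ := (b2 _ e).2
        exact not_perm hab' π e
  · rw [mem_insert, mem_union] at hu
    rcases hu with rfl | hu | hu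
    · exact ⟨Gd.of_comp (ρ := rv n) ⟨1, Or.inr ⟨_, _, by omega, rfl⟩⟩, by omega⟩
    · exact ⟨(a2 u hu).1, by rw [(a2 u hu).2]; omega⟩
    · obtain ⟨π, e⟩ := (b2 u hu).2
      exact ⟨Gd.of_comp (ρ := rv n) ⟨π, Or.inl e⟩, by rw [b3 u hu]; omega⟩

namespace IsA

variable {R : RC (Fin n) (Pos n)} {p : ℕ} {k L : Type} [Field k] [AddCommGroup L] [Module k L] (hR : IsA R)
  (H : HW R p k L)
include hR

theorem dep_le_lv {μ : Fin n → ℤ} (h : H.IsWt μ) (κ : Fin n) : H.dep μ κ ≤ lv H.lam κ := by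
  obtain ⟨l, h1⟩ := hR.exists_swl (rv n)
  have h2 := H.dep_le_low (l := l) (fun i => by
    rw [← tw_m0, h1, ← tw_neg]; exact sub_nonneg.2 (anti_rv (m0_anti H) Fin.castSucc_lt_succ.le)) h κ
  rwa [← tw_m0, h1, hR.dep_tw H (sum_comp _ _), ← lvl, lvl_m0] at h2

variable [Fact p.Prime] [CharP k p]

theorem isWt_sub {m : Fin (n + 1) → ℤ} (h : H.Ext (tw m)) {a b : Fin (n + 1)} (hab : m b < m a) :
    H.IsWt (tw (m - ev a + ev b)) := by
  have h0 : a ≠ b := fun e => by rw [e] at hab; omega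
  have h1 : m - ev a + ev b = m - (ev a - ev b) := by abel
  rw [h1, tw_sub]
  rcases lt_or_gt_of_ne h0 with h2 | h2
  · rw [← hR.wt_true ⟨(a, b), h2⟩]
    exact (hR.x H).isWt_sub h (by rw [hR.pair_tw]; exact sub_pos.2 hab)
  · rw [← hR.wt_false ⟨(b, a), h2⟩]
    exact (hR.x H).isWt_sub h (by rw [hR.pair_tw']; exact sub_pos.2 hab)

theorem isWt_gd {u : Fin (n + 1) → ℤ} (h : Gd (m0 H) u) : H.IsWt (tw u) := by
  obtain ⟨π, rfl | ⟨a, b, h, rfl⟩⟩ := h
  · exact (hR.ext_perm H π).isWt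
  · exact (hR.isWt_perm H _ π).2 (hR.isWt_sub H (hR.ext_perm H 1) h)

theorem le_cL_MM {κ : Fin n} {c : ℕ} (h : Lb (m0 H) κ c) : c ≤ H.cL (MM κ) := by
  classical
  obtain ⟨A, h1, h2⟩ := h
  rw [← card_image_of_injOn (f := tw) fun u hu u' hu' e =>
    tw_inj e ((h2 u hu).1.sum.trans (h2 u' hu').1.sum.symm)] at h1
  refine h1.trans (H.card_le_cL_smith (hR.mem_MM' κ) _ fun μ hμ => ?_)
  obtain ⟨u, hu, rfl⟩ := mem_image.1 hμ
  exact ⟨hR.isWt_gd H (h2 u hu).1, κ, rfl, by rw [hR.dep_tw H (h2 u hu).1.sum]; exact (h2 u hu).2⟩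

theorem cL_two {κ : Fin n} (h : 2 ≤ lv H.lam κ) : (κ + 1) * (n - κ) + 1 ≤ H.cL (MM κ) :=
  hR.le_cL_MM H (lb_two (m0_anti H) κ (by rw [lvl_m0]; exact_mod_cast h))

theorem cL_three {κ : Fin n} (h : 3 ≤ lv H.lam κ) : 2 * ((κ + 1) * (n - κ)) + 1 ≤ H.cL (MM κ) :=
  hR.le_cL_MM H (lb_three (m0_anti H) κ (by rw [lvl_m0]; exact_mod_cast h))

end IsA

end Cfsg.Agent.TwoF.DC.TA

private theorem dce_22e238096e2f : _root_.True := by
  try have : _root_.True := by simp only [_root_.Cfsg.Agent.TwoF.DC.TA.lv.eq_1]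
  try have : _root_.True := by simp only [_root_.Cfsg.Agent.TwoF.DC.TA.NC.eq_1]
  try have : _root_.True := by simp only [_root_.Cfsg.Agent.TwoF.DC.TA.lvl.eq_1]
  try have : _root_.True := by simp only [_root_.Cfsg.Agent.TwoF.DC.TA.mn.eq_1]
  exact _root_.True.intro
end
end
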